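import Cfsg.Prelude.Def_Local
import Cfsg.Prelude.Def_Spor_J1
import Cfsg.Agent.S0088
import Cfsg.Agent.S0493
import Cfsg.Agent.SignalizersComponents.Components
import Cfsg.Agent.SignalizersComponents.InvariantHall
import Cfsg.Agent.UGT.EndJ1.Data

/-!
# Components of involution centralizers in the first Janko group are standard

`std_of_iso`: for `G ≅ J₁`, `z` an involution and `L` a component of `C_G(z)`: `|L| = 60`, `C_G(L) = ⟨z⟩` and `L` is a
standard subgroup.
-/

set_option autoImplicit false

open scoped commutatorElement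

namespace Cfsg.Agent.H7.JOneStd

open Subgroup Cfsg

universe u

/-- the orders used -/
structure Ord (G : Type*) [Group G] : Prop where
  card : Nat.card G = 175560
  cen : ∀ u : G, u * u = 1 → u ≠ 1 → Nat.card ↥(centralizer ({u} : Set G)) = 120
  syl : ∀ S : Sylow 2 G, ∀ x ∈ (S : Subgroup G), x * x = 1

theorem Ord.congr {G H : Type*} [Group G] [Group H] (e : G ≃* H) (h : Ord H) : Ord G := by
  refine ⟨(Nat.card_congr e.toEquiv).trans h.card, fun u hu hu1 => ?_, fun S x hx => ?_⟩
  · have h1 := h.cen (e u) (by rw [← map_mul, hu, map_one]) (fun h2 => hu1 (by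
      rw [← e.map_one] at h2
      exact e.injective h2))
    rw [← h1]
    have h2 : (centralizer ({u} : Set G)).map e.toMonoidHom = centralizer ({e u} : Set H) := by
      ext y
      rw [mem_centralizer_singleton_iff]
      constructor
      · rintro ⟨x, hx, rfl⟩
        have h3 : x * u = u * x := mem_centralizer_singleton_iff.1 hx
        change e x * e u = e u * e x
        rw [← map_mul, h3, map_mul]
      · intro hy
        refine ⟨e.symm y, ?_, by simp⟩
        change e.symm y ∈ centralizer ({u} : Set G)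
        rw [mem_centralizer_singleton_iff]
        apply e.injective
        rw [map_mul, map_mul, e.apply_symm_apply, hy]
    rw [← h2]
    exact (card_map_of_injective (f := e.toMonoidHom) e.injective).symm
  · have hp : IsPGroup 2 ↥((S : Subgroup G).map e.toMonoidHom) := S.isPGroup'.map _
    obtain ⟨P, hP⟩ := hp.exists_le_sylow
    have h1 := h.syl P (e x) (hP ⟨x, hx, rfl⟩)
    rw [← map_mul, ← e.map_one] at h1
    exact e.injective h1

theorem ord_J1 : Ord Spor.J1 := by
  obtain ⟨D⟩ := Cfsg.Agent.UGT.EndJ1.Data.exists_dat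
  refine ⟨D.card, fun u hu hu1 => ?_, fun S x hx => ?_⟩
  · obtain ⟨g, hg⟩ := D.conj_t hu hu1
    rw [← D.card_C, ← hg]
    have h2 : (centralizer ({D.t} : Set Spor.J1)).map (MulAut.conj g).toMonoidHom =
        centralizer ({g * D.t * g⁻¹} : Set Spor.J1) := by
      ext y
      rw [mem_centralizer_singleton_iff]
      constructor
      · rintro ⟨x, hx, rfl⟩
        have h3 : x * D.t = D.t * x := mem_centralizer_singleton_iff.1 hx
        change g * x * g⁻¹ * (g * D.t * g⁻¹) = g * D.t * g⁻¹ * (g * x * g⁻¹)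
        have e1 : g * x * g⁻¹ * (g * D.t * g⁻¹) = g * (x * D.t) * g⁻¹ := by group
        have e2 : g * D.t * g⁻¹ * (g * x * g⁻¹) = g * (D.t * x) * g⁻¹ := by group
        rw [e1, e2, h3]
      · intro hy
        refine ⟨g⁻¹ * y * g, ?_, by change g * (g⁻¹ * y * g) * g⁻¹ = y; group⟩
        change g⁻¹ * y * g ∈ centralizer ({D.t} : Set Spor.J1)
        rw [mem_centralizer_singleton_iff]
        have e1 : g⁻¹ * y * g * D.t = g⁻¹ * (y * (g * D.t * g⁻¹)) * g := by group
        have e2 : D.t * (g⁻¹ * y * g) = g⁻¹ * ((g * D.t * g⁻¹) * y) * g := by group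
        rw [e1, e2, hy]
    rw [← h2]
    exact card_map_of_injective (f := (MulAut.conj g).toMonoidHom) (MulAut.conj g).injective
  · exact (Cfsg.Agent.UGT.EndJ1.Data.bal.syl S).2 x hx

variable {G : Type u} [Group G] [Finite G]

/-- the abstract statement -/
theorem main (h : Ord G) {z : G} (hz : orderOf z = 2) (C : Subgroup G) (hC : C = centralizer ({z} : Set G))
    (L : Subgroup C) (hL : IsComponent L) :
    Nat.card L = 60 ∧ L.Normal ∧ centralizer ((L.map C.subtype : Subgroup G) : Set G) =
      zpowers z ∧ IsStandardSubgroup (L.map C.subtype) := by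
  classical
  have h2f : Fact (Nat.Prime 2) := ⟨Nat.prime_two⟩
  have hzz : z * z = 1 := by rw [← pow_two, ← hz]; exact pow_orderOf_eq_one z
  have hz1 : z ≠ 1 := by
    intro h1; rw [h1, orderOf_one] at hz; norm_num at hz
  have hCc : Nat.card C = 120 := by rw [hC]; exact h.cen z hzz hz1
  have hLq := hL.2
  have hLp := hLq.1
  have hLs := hLq.2
  have hperf : ⁅L, L⁆ = L := Subgroup.isPerfect_iff.1 hLp
  have hzC : z ∈ C := by rw [hC]; exact mem_centralizer_singleton_iff.2 rfl
  obtain ⟨z', hz'⟩ : ∃ z' : C, z' = ⟨z, hzC⟩ := ⟨_, rfl⟩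
  have hz'v : (z' : G) = z := by rw [hz']
  have hz'c : z' ∈ center C := by
    rw [mem_center_iff]
    intro g
    apply Subtype.ext
    have h1 : (g : G) ∈ centralizer ({z} : Set G) := hC ▸ g.2
    change (g : G) * z' = z' * g
    rw [hz'v]
    exact mem_centralizer_singleton_iff.1 h1
  have hz'1 : z' ≠ 1 := fun h1 => hz1 (by rw [← hz'v, h1]; rfl)
  have hz'o : orderOf z' = 2 := by
    rw [← hz, ← hz'v, Subgroup.orderOf_coe]
  have hz'p : z' ^ (2 : ℤ) = 1 := by
    have h3 := pow_orderOf_eq_one z'
    rw [hz'o] at h3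
    exact_mod_cast h3
  -- `z ∉ L`
  have hzL : z' ∉ L := by
    intro hmem
    obtain ⟨S⟩ : Nonempty (Sylow 2 C) := inferInstance
    have hSq : ∀ x ∈ (S : Subgroup C), x * x = 1 := by
      intro x hx
      have hp : IsPGroup 2 ↥((S : Subgroup C).map C.subtype) := S.isPGroup'.map _
      obtain ⟨P, hP⟩ := hp.exists_le_sylow
      exact Subtype.ext (h.syl P (x : G) (hP ⟨x, hx, rfl⟩))
    have hSc : IsMulCommutative (S : Subgroup C) := by
      refine ⟨⟨fun a b => ?_⟩⟩
      apply Subtype.ext
      change (a : C) * b = b * a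
      have h1 := hSq a a.2
      have h2 := hSq b b.2
      have h3 := hSq _ ((S : Subgroup C).mul_mem a.2 b.2)
      have ha : (a : C)⁻¹ = a := inv_eq_of_mul_eq_one_right h1
      have hb : (b : C)⁻¹ = b := inv_eq_of_mul_eq_one_right h2
      calc (a : C) * b = ((a : C) * b)⁻¹ := (inv_eq_of_mul_eq_one_right h3).symm
        _ = b * a := by rw [mul_inv_rev, ha, hb]
    have h1 := Cfsg.Agent.S0088.result (S : Subgroup C) hSc (S.card_coprime_index)
    have h4 : zpowers z' ≤ (S : Subgroup C) := by
      have hn : (zpowers z').Normal := by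
        refine ⟨fun n hn g => ?_⟩
        obtain ⟨k, rfl⟩ := hn
        have h5 := (mem_center_iff.1 (zpow_mem hz'c k)) g
        change g * z' ^ k * g⁻¹ ∈ zpowers z'
        rw [h5, mul_assoc, mul_inv_cancel, mul_one]
        exact zpow_mem_zpowers z' k
      have hp : IsPGroup 2 (zpowers z') := IsPGroup.of_card (n := 1) (by rw [Nat.card_zpowers, hz'o]; norm_num)
      exact IsPGroup.le_sylow_of_normal hp S
    have h5 : z' ∈ (S : Subgroup C) ⊓ _root_.commutator C ⊓ center C := by
      refine ⟨⟨h4 (mem_zpowers z'), ?_⟩, hz'c⟩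
      rw [← hperf] at hmem
      exact Subgroup.commutator_mono le_top le_top hmem
    rw [h1] at h5
    exact hz'1 h5
  -- orders
  have hdisj : Disjoint L (zpowers z') := by
    rw [disjoint_def]
    rintro x hx ⟨k, rfl⟩
    change z' ^ k = 1
    change z' ^ k ∈ L at hx
    rcases Int.even_or_odd k with hk | hk
    · obtain ⟨m, rfl⟩ := hk
      rw [← two_mul, zpow_mul, hz'p, one_zpow]
    · exfalso
      apply hzL
      obtain ⟨m, rfl⟩ := hk
      rw [zpow_add, zpow_mul, zpow_one, hz'p, one_zpow, one_mul] at hx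
      exact hx
  have hcomm : zpowers z' ≤ normalizer (L : Set C) := by
    rw [zpowers_le]
    rw [mem_normalizer_iff]
    intro x
    have h1 := (mem_center_iff.1 hz'c) x
    rw [← h1, mul_assoc, mul_inv_cancel, mul_one]
  have hdvd : Nat.card L ∣ 60 := by
    have h1 : Nat.card ↥(L ⊔ zpowers z') = Nat.card L * Nat.card (zpowers z') :=
      Cfsg.Agent.SignalizersComponents.InvariantHall.card_sup_of_inf_eq_bot hcomm hdisj.eq_bot
    have h2 : Nat.card ↥(L ⊔ zpowers z') ∣ 120 := hCc ▸ card_subgroup_dvd_card _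
    rw [h1, Nat.card_zpowers, hz'o] at h2
    exact Nat.dvd_of_mul_dvd_mul_right (k := 2) (by norm_num) (by simpa using h2)
  have hmul : Nat.card (↥L ⧸ center ↥L) * Nat.card (center ↥L) = Nat.card L := by
    rw [← Subgroup.index_eq_card, mul_comm]
    exact (center ↥L).card_mul_index
  have hL0 : Nat.card L ≤ 60 := Nat.le_of_dvd (by norm_num) hdvd
  have hZpos : 0 < Nat.card (center ↥L) := Nat.card_pos
  have h60 : Nat.card (↥L ⧸ center ↥L) = 60 := by
    apply Cfsg.Agent.S0493.result
    · intro hcyc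
      apply Cfsg.Agent.SignalizersComponents.Components.quasisimple_not_isSolvable hLq
      have h1 : Group.IsSolvable (↥L ⧸ center ↥L) := by
        have : IsMulCommutative (↥L ⧸ center ↥L) := inferInstance
        infer_instance
      have h2 : Group.IsSolvable (center ↥L) := Group.isSolvable_of_comm fun a b =>
        Subtype.ext ((mem_center_iff.1 b.2) a)
      exact (Group.isSolvable_iff_subgroup_quotient (center ↥L)).2 ⟨h2, h1⟩
    · nlinarith
  have hLc : Nat.card L = 60 := by
    rw [h60] at hmul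
    nlinarith
  have hZ1 : Nat.card (center ↥L) = 1 := by
    rw [h60, hLc] at hmul
    omega
  have hZb : center ↥L = ⊥ := (Subgroup.eq_bot_iff_card _).2 hZ1
  -- `L` is normal in `C`
  have hidx : L.index = 2 := by
    have := L.card_mul_index
    rw [hLc, hCc] at this
    omega
  have hLn : L.Normal := Subgroup.normal_of_index_eq_two hidx
  -- the subgroup `L₀` of `G`
  obtain ⟨L₀, hL₀⟩ : ∃ L₀ : Subgroup G, L₀ = L.map C.subtype := ⟨_, rfl⟩
  have e : ↥L ≃* ↥L₀ := by
    rw [hL₀]; exact L.equivMapOfInjective C.subtype C.subtype_injective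
  have hL₀c : Nat.card L₀ = 60 := by rw [← hLc]; exact (Nat.card_congr e.toEquiv).symm
  have hL₀q : IsQuasisimple L₀ :=
    (Cfsg.Agent.SignalizersComponents.Components.isQuasisimple_congr e).1 hLq
  obtain ⟨D, hD⟩ : ∃ D : Subgroup G, D = centralizer (L₀ : Set G) := ⟨_, rfl⟩
  have hzD : z ∈ D := by
    rw [hD, mem_centralizer_iff]
    intro y hy
    have hy' : y ∈ L₀ := hy
    rw [hL₀] at hy'
    obtain ⟨x, hx, rfl⟩ := hy'
    have h1 : (x : G) ∈ centralizer ({z} : Set G) := hC ▸ x.2
    exact mem_centralizer_singleton_iff.1 h1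
  -- an involution of `L₀`
  obtain ⟨u, hu⟩ := exists_prime_orderOf_dvd_card' (G := ↥L₀) 2 (by rw [hL₀c]; norm_num)
  have huo : orderOf (u : G) = 2 := by rw [Subgroup.orderOf_coe]; exact hu
  have huu : (u : G) * u = 1 := by rw [← pow_two, ← huo]; exact pow_orderOf_eq_one _
  have hu1 : (u : G) ≠ 1 := by
    intro h1; rw [h1, orderOf_one] at huo; norm_num at huo
  have hDu : D ≤ centralizer ({(u : G)} : Set G) := by
    rw [hD]
    exact centralizer_le (Set.singleton_subset_iff.2 u.2)
  have hD120 : Nat.card D ∣ 120 := by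
    rw [← h.cen u huu hu1]
    exact card_dvd_of_le hDu
  have hDL : L₀ ⊓ D = ⊥ := by
    rw [eq_bot_iff]
    rintro x ⟨hx, hxD⟩
    have h1 : (⟨x, hx⟩ : ↥L₀) ∈ center ↥L₀ := by
      rw [mem_center_iff]
      intro g
      apply Subtype.ext
      rw [hD] at hxD
      exact (mem_centralizer_iff.1 hxD) g g.2
    have h2 : e.symm ⟨x, hx⟩ ∈ center ↥L := by
      rw [mem_center_iff]
      intro g
      apply e.injective
      rw [map_mul, map_mul, e.apply_symm_apply]
      exact (mem_center_iff.1 h1) (e g)
    rw [hZb, Subgroup.mem_bot] at h2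
    have h3 : (⟨x, hx⟩ : ↥L₀) = 1 := by
      rw [← e.apply_symm_apply ⟨x, hx⟩, h2, map_one]
    exact congrArg Subtype.val h3
  have hDn : D ≤ normalizer (L₀ : Set G) := by
    rw [hD]; exact centralizer_le_normalizer _
  have hD2926 : Nat.card D ∣ 2926 := by
    have h1 : Nat.card ↥(L₀ ⊔ D) = Nat.card L₀ * Nat.card D :=
      Cfsg.Agent.SignalizersComponents.InvariantHall.card_sup_of_inf_eq_bot hDn hDL
    have h2 : Nat.card ↥(L₀ ⊔ D) ∣ 175560 := h.card ▸ card_subgroup_dvd_card _
    rw [h1, hL₀c] at h2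
    exact Nat.dvd_of_mul_dvd_mul_left (k := 60) (by norm_num) (by simpa using h2)
  have hDc : Nat.card D ∣ 2 := by
    have h1 := Nat.dvd_gcd hD120 hD2926
    norm_num at h1
    exact h1
  have hzDle : zpowers z ≤ D := by rw [zpowers_le]; exact hzD
  have hDz : D = zpowers z := by
    refine (Subgroup.eq_of_le_of_card_ge hzDle ?_).symm
    rw [Nat.card_zpowers, hz]
    exact Nat.le_of_dvd (by norm_num) hDc
  have hDc2 : Nat.card D = 2 := by rw [hDz, Nat.card_zpowers, hz]
  refine ⟨hLc, hLn, by rw [← hL₀, ← hD, hDz], ?_⟩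
  rw [← hL₀]
  refine ⟨hL₀q, ⟨by rw [← hD, hDc2]; exact even_two, fun g hg => ?_⟩, fun g hg hcomm => ?_, ?_⟩
  · rw [← hD] at hg ⊢
    have h1 : Nat.card ↥(D ⊓ D.map (MulAut.conj g).toMonoidHom) ∣ 2 := by
      rw [← hDc2]; exact card_dvd_of_le inf_le_left
    rcases (Nat.dvd_prime Nat.prime_two).1 h1 with h2 | h2
    · rw [h2]; exact odd_one
    · exfalso
      apply hg
      have h3 : D ⊓ D.map (MulAut.conj g).toMonoidHom = D :=
        Subgroup.eq_of_le_of_card_ge inf_le_left (by rw [h2, hDc2])
      have h4 : D ≤ D.map (MulAut.conj g).toMonoidHom := h3.symm.le.trans inf_le_right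
      have h5 : D = D.map (MulAut.conj g).toMonoidHom := by
        refine Subgroup.eq_of_le_of_card_ge h4 ?_
        rw [card_map_of_injective (f := (MulAut.conj g).toMonoidHom) (MulAut.conj g).injective]
      rw [mem_normalizer_iff]
      intro x
      constructor
      · intro hx
        rw [h5]; exact ⟨x, hx, rfl⟩
      · intro hx
        rw [h5] at hx
        obtain ⟨y, hy, hyx⟩ := hx
        have h6 : y = x := (MulAut.conj g).injective hyx
        rw [← h6]; exact hy
  · have h1 : L₀.map (MulAut.conj g).toMonoidHom ≤ D := by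
      rw [commutator_comm, commutator_eq_bot_iff_le_centralizer] at hcomm
      rw [hD]; exact hcomm
    have h2 := card_le_of_le h1
    rw [card_map_of_injective (f := (MulAut.conj g).toMonoidHom) (MulAut.conj g).injective, hL₀c, hDc2] at h2
    norm_num at h2
  · rw [← hD]
    apply le_antisymm
    · -- the normalizer of `L₀` normalizes the centralizer
      have key : ∀ g ∈ normalizer (L₀ : Set G), ∀ x ∈ D, g * x * g⁻¹ ∈ D := by
        intro g hg x hx
        rw [hD, mem_centralizer_iff] at hx ⊢
        intro y hy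
        have h4 : g⁻¹ * y * g ∈ L₀ := by
          have := (mem_normalizer_iff.1 (inv_mem hg) y).1 hy
          simpa using this
        have h5 := hx _ h4
        have e1 : y * (g * x * g⁻¹) = g * ((g⁻¹ * y * g) * x) * g⁻¹ := by group
        have e2 : g * x * g⁻¹ * y = g * (x * (g⁻¹ * y * g)) * g⁻¹ := by group
        rw [e1, e2, h5]
      intro g hg
      rw [mem_normalizer_iff]
      intro x
      refine ⟨key g hg x, fun hx => ?_⟩
      have h1 := key g⁻¹ (inv_mem hg) _ hx
      have h2 : g⁻¹ * (g * x * g⁻¹) * g⁻¹⁻¹ = x := by group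
      rwa [h2] at h1
    · -- `N_G(⟨z⟩) = C_G(z)`
      intro g hg
      have h1 : g * z * g⁻¹ ∈ D := (mem_normalizer_iff.1 hg z).1 hzD
      have h2 : g * z * g⁻¹ = z := by
        rw [hDz] at h1
        obtain ⟨k, hk⟩ := h1
        change z ^ k = g * z * g⁻¹ at hk
        have hzp : z ^ (2 : ℤ) = 1 := by
          rw [← hz'v]
          exact_mod_cast congrArg Subtype.val hz'p
        rcases Int.even_or_odd k with hkk | hkk
        · exfalso
          obtain ⟨m, rfl⟩ := hkk
          rw [← two_mul, zpow_mul, hzp, one_zpow] at hk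
          apply hz1
          have h3 : z = g⁻¹ * (g * z * g⁻¹) * g := by group
          rw [h3, ← hk]; group
        · obtain ⟨m, rfl⟩ := hkk
          rw [zpow_add, zpow_mul, zpow_one, hzp, one_zpow, one_mul] at hk
          exact hk.symm
      have h3 : g ∈ C := by
        rw [hC, mem_centralizer_singleton_iff]
        calc g * z = (g * z * g⁻¹) * g := by group
          _ = z * g := by rw [h2]
      rw [mem_normalizer_iff]
      intro x
      rw [hL₀]
      constructor
      · rintro ⟨y, hy, rfl⟩
        exact ⟨⟨g, h3⟩ * y * ⟨g, h3⟩⁻¹, hLn.conj_mem y hy _, rfl⟩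
      · rintro ⟨y, hy, hyx⟩
        refine ⟨⟨g, h3⟩⁻¹ * y * ⟨g, h3⟩, ?_, ?_⟩
        · have := hLn.conj_mem y hy ⟨g, h3⟩⁻¹
          simpa using this
        · change g⁻¹ * (y : G) * g = x
          have h4 : (y : G) = g * x * g⁻¹ := hyx
          rw [h4]; group

/-- **`G ≅ J₁`: components of involution centralizers are standard.** -/
theorem std_of_iso {G : Type u} [Group G] (h : Spor.IsoJ1 G) {z : G} (hz : orderOf z = 2)
    (L : Subgroup ↥(centralizer ({z} : Set G))) (hL : IsComponent L) :
    Nat.card L = 60 ∧ L.Normal ∧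
      centralizer ((L.map (centralizer ({z} : Set G)).subtype : Subgroup G) : Set G) = zpowers z ∧
      IsStandardSubgroup (L.map (centralizer ({z} : Set G)).subtype) := by
  obtain ⟨e⟩ := h
  have ho : Ord G := Ord.congr e ord_J1
  have : Finite G := Nat.finite_of_card_ne_zero (by rw [ho.card]; norm_num)
  exact main ho hz _ rfl L hL

end Cfsg.Agent.H7.JOneStd
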