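import Mathlib
import Cfsg.Agent.H7.NBp
import Cfsg.Agent.H526.ObParity
import Cfsg.Agent.S0875

/-!
# Counting criterion for more than one `p`-block

`PE p G e`: `g ^ e` is the `p'`-part of `g`.  Generalisation of helper612's sections and of
helper526's parity criterion (`p = 2`) to all primes.

* `OneB.congr`: with one `p`-block, for `K` conjugation-closed and `X` a conjugation-closed set of
  elements of order prime to `p`: `#{k ∈ K | (k w)_{p'} ∈ X} ≡ #K * [w_{p'} ∈ X]` mod `p`;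
* `NB.of_count`: `K` conjugation-closed, `g` not a `p`-element and
  `#{k ∈ K | g k⁻¹ a p-element}` prime to `p`;
* `NB.of_count_class`: the same for the class of one element;
* `NB.of_card`: `K` conjugation-closed, `g` a `p`-element, `#{k ∈ K | g k⁻¹ a p-element} ≢ #K`.
-/

set_option autoImplicit false
open Cfsg

namespace Cfsg.Agent.H7.NBp

open Cfsg.Agent Cfsg.Agent.Characters Cfsg.Agent.Characters.Core Cfsg.Agent.Blocks

/-- `g ^ e` is the part of `g` of order prime to `p`. -/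
structure PE (p : ℕ) (G : Type*) [Group G] (e : ℕ) : Prop where
  pp : ∀ g : G, ¬ p ∣ orderOf (g ^ e)
  fix : ∀ g : G, ¬ p ∣ orderOf g → g ^ e = g
  pow : ∀ g : G, ∃ j : ℕ, (g * (g ^ e)⁻¹) ^ p ^ j = 1

variable {p : ℕ} [hp : Fact p.Prime] {G : Type*} [Group G] {e : ℕ}

theorem exists_PE [Finite G] : ∃ e, PE p G e := by
  obtain ⟨a₀, n, hn, hG⟩ := Nat.exists_eq_pow_mul_and_not_dvd (Nat.card_pos (α := G)).ne' p
    hp.out.ne_one
  have hpn : Nat.Coprime p n := (Nat.Prime.coprime_iff_not_dvd hp.out).2 hn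
  obtain ⟨e, he0, he1⟩ := Nat.chineseRemainder (Nat.Coprime.pow_left a₀ hpn) 0 1
  have hd : ∀ g : G, orderOf g ∣ p ^ a₀ * n := fun g => hG ▸ orderOf_dvd_natCard g
  refine ⟨e, ?_, ?_, ?_⟩
  · intro g hpg
    refine hn (hpg.trans (orderOf_dvd_of_pow_eq_one ?_))
    rw [← pow_mul, ← orderOf_dvd_iff_pow_eq_one]
    exact (hd g).trans (mul_dvd_mul ((Nat.modEq_zero_iff_dvd).1 he0) dvd_rfl)
  · intro g hg
    have h0 : Nat.Coprime (orderOf g) p := ((Nat.Prime.coprime_iff_not_dvd hp.out).2 hg).symm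
    have h1 : orderOf g ∣ n := (Nat.Coprime.pow_right a₀ h0).dvd_of_dvd_mul_left (hd g)
    nth_rewrite 2 [← pow_one g]
    rw [pow_eq_pow_iff_modEq]
    exact he1.of_dvd h1
  · intro g
    refine ⟨a₀, ?_⟩
    have hc : Commute g (g ^ e)⁻¹ := (Commute.self_pow g e).inv_right
    rw [hc.mul_pow, inv_pow, mul_inv_eq_one, ← pow_mul, pow_eq_pow_iff_modEq]
    have h5 : 1 * p ^ a₀ ≡ e * p ^ a₀ [MOD n * p ^ a₀] := (he1.symm).mul_right' (p ^ a₀)
    rw [one_mul] at h5
    exact h5.of_dvd (by rw [mul_comm]; exact hd g)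

/-- `p`-elements are killed by `e` -/
theorem PE.pow_p_elem (he : PE p G e) {u : G} {j : ℕ} (hu : u ^ p ^ j = 1) : u ^ e = 1 := by
  have h1 : (u ^ e) ^ p ^ j = 1 := by rw [← pow_mul, mul_comm, pow_mul, hu, one_pow]
  have h2 : orderOf (u ^ e) ∣ p ^ j := orderOf_dvd_of_pow_eq_one h1
  have h3 : Nat.Coprime (orderOf (u ^ e)) (p ^ j) :=
    Nat.Coprime.pow_right j ((Nat.Prime.coprime_iff_not_dvd hp.out).2 (he.pp u)).symm
  exact orderOf_eq_one_iff.1 (Nat.eq_one_of_dvd_coprimes h3 dvd_rfl h2)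

theorem PE.eq_one_iff (he : PE p G e) (u : G) : u ^ e = 1 ↔ ∃ j : ℕ, u ^ p ^ j = 1 := by
  constructor
  · intro h
    obtain ⟨j, hj⟩ := he.pow u
    rw [h, inv_one, mul_one] at hj
    exact ⟨j, hj⟩
  · rintro ⟨j, hj⟩
    exact he.pow_p_elem hj

theorem PE.pow_mul (he : PE p G e) {u v : G} (huv : Commute u v) {j : ℕ} (hu : u ^ p ^ j = 1)
    (hv : ¬ p ∣ orderOf v) : (u * v) ^ e = v := by
  rw [huv.mul_pow, he.pow_p_elem hu, one_mul, he.fix v hv]

/-- local integrality for the section of one element -/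
theorem loc_one [Fintype G] (he : PE p G e) {M : Ideal AlgInt} (hM : IsPModular p M) (x : G)
    (hx : ¬ p ∣ orderOf x) (χ : IrrCharacter G) [DecidablePred fun g : G => IsConj x (g ^ e)] :
    MemLocalRing M (classInner (fun g : G => if IsConj x (g ^ e) then (1 : ℂ) else 0)
      (χ : G → ℂ)) := by
  classical
  have hprime : M.IsPrime := Local.isPrime_of_isPModular hM
  have hirr := Core.finite_irr (G := G)
  have := Fintype.ofFinite (IrrCharacter G)
  obtain ⟨a₀, n, hn, hG⟩ := Nat.exists_eq_pow_mul_and_not_dvd (Nat.card_pos (α := G)).ne' p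
    hp.out.ne_one
  have hpn : Nat.Coprime p n := (Nat.Prime.coprime_iff_not_dvd hp.out).2 hn
  have hcop : Nat.Coprime (p ^ a₀) n := Nat.Coprime.pow_left a₀ hpn
  have hn0 : (n : ℂ) ≠ 0 := by
    rw [Nat.cast_ne_zero]
    rintro rfl
    exact hn (dvd_zero p)
  have hcp : ∀ v : G, ¬ p ∣ orderOf v → Nat.Coprime (orderOf v) (p ^ a₀) := fun v hv =>
    Nat.Coprime.pow_right a₀ ((Nat.Prime.coprime_iff_not_dvd hp.out).2 hv).symm
  let ϑ : G → ℂ := fun g => if IsConj x (g ^ e) then (n : ℂ) else 0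
  have hiff : ∀ g : G, (∃ v : G, IsConj v x ∧ (∃ u : G, g = u * v ∧ Commute u v ∧
      Nat.Coprime (orderOf u) n ∧ Nat.Coprime (orderOf v) (p ^ a₀))) ↔ IsConj x (g ^ e) := by
    intro g
    constructor
    · rintro ⟨v, hv, u, rfl, huv, hu, hv'⟩
      have h1 : orderOf u ∣ p ^ a₀ := by
        have : orderOf u ∣ p ^ a₀ * n := by rw [← hG]; exact orderOf_dvd_natCard u
        exact hu.dvd_of_dvd_mul_right this
      have h2 : ¬ p ∣ orderOf v := by
        have : orderOf v ∣ p ^ a₀ * n := by rw [← hG]; exact orderOf_dvd_natCard v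
        intro h3
        exact hn (h3.trans (hv'.dvd_of_dvd_mul_left this))
      rw [he.pow_mul huv (orderOf_dvd_iff_pow_eq_one.1 h1) h2]
      exact hv.symm
    · intro h
      refine ⟨g ^ e, h.symm, g * (g ^ e)⁻¹, by group, ?_, ?_, ?_⟩
      · exact (Commute.self_pow g e).mul_left ((Commute.refl (g ^ e)).inv_left)
      · obtain ⟨j, hj⟩ := he.pow g
        exact Nat.Coprime.coprime_dvd_left (orderOf_dvd_of_pow_eq_one hj)
          (Nat.Coprime.pow_left j hpn)
      · exact hcp _ (he.pp g)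
  obtain ⟨b, hbI, hb⟩ := Cfsg.Agent.S0875.result (p ^ a₀) n hG hcop x (hcp x hx) ϑ
    (fun g hg => if_pos ((hiff g).1 hg)) (fun g hg => if_neg fun h' => hg ((hiff g).2 h'))
  rw [finsum_eq_sum_of_fintype] at hb
  have h1 : classInner ϑ (χ : G → ℂ) = b χ := by
    rw [hb, Characters.Core.classInner_sum_smul_irr]
  have h2 : (fun g : G => if IsConj x (g ^ e) then (1 : ℂ) else 0) = (n : ℂ)⁻¹ • ϑ := by
    funext g
    simp only [ϑ, Pi.smul_apply, smul_eq_mul]
    split_ifs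
    · rw [inv_mul_cancel₀ hn0]
    · rw [mul_zero]
  have h3 := Local.memLocalRing_mul (Local.memLocalRing_inv_natCast hM hn)
    (Local.memLocalRing_of_isIntegral (M := M) (hbI χ))
  rw [← h1, ← Core.classInner_smul_left, ← h2] at h3
  convert h3

/-- the indicator of the section of `X` -/
noncomputable def sec (e : ℕ) (X : Set G) : G → ℂ := by
  classical exact fun g => if g ^ e ∈ X then 1 else 0

open scoped Classical in
theorem sec_apply (X : Set G) (g : G) : sec e X g = if g ^ e ∈ X then 1 else 0 := rfl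

theorem sec_of_mem {X : Set G} {g : G} (h : g ^ e ∈ X) : sec e X g = 1 := if_pos h

theorem sec_of_notMem {X : Set G} {g : G} (h : g ^ e ∉ X) : sec e X g = 0 := if_neg h

theorem isClassFunction_sec {X : Set G} (hX : ∀ g : G, ∀ x ∈ X, g * x * g⁻¹ ∈ X) :
    IsClassFunction G (sec e X) := by
  intro g t
  have h1 : (t * g * t⁻¹) ^ e ∈ X ↔ g ^ e ∈ X := by
    rw [conj_pow]
    refine ⟨fun h => ?_, hX t _⟩
    have := hX t⁻¹ _ h
    have h2 : t⁻¹ * (t * g ^ e * t⁻¹) * t⁻¹⁻¹ = g ^ e := by group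
    rwa [h2] at this
  by_cases h : g ^ e ∈ X
  · rw [sec_of_mem h, sec_of_mem (h1.2 h)]
  · rw [sec_of_notMem h, sec_of_notMem (fun h' => h (h1.1 h'))]

/-- local integrality of the coefficients of the section of a normal set of `p'`-elements -/
theorem loc_sec [Fintype G] (he : PE p G e) {M : Ideal AlgInt} (hM : IsPModular p M) {X : Set G}
    (hX : ∀ g : G, ∀ x ∈ X, g * x * g⁻¹ ∈ X) (hXo : ∀ x ∈ X, ¬ p ∣ orderOf x)
    (χ : IrrCharacter G) : MemLocalRing M (classInner (sec e X) (χ : G → ℂ)) := by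
  classical
  have hprime : M.IsPrime := Local.isPrime_of_isPModular hM
  have hconj : ∀ {x y : G}, IsConj x y → (x ∈ X ↔ y ∈ X) := by
    intro x y hxy
    obtain ⟨t, rfl⟩ := isConj_iff.1 hxy
    refine ⟨hX t x, fun h => ?_⟩
    have := hX t⁻¹ _ h
    have h2 : t⁻¹ * (t * x * t⁻¹) * t⁻¹⁻¹ = x := by group
    rwa [h2] at this
  have := Fintype.ofFinite (ConjClasses G)
  have h1 : sec e X = ∑ c ∈ Finset.univ.filter (fun c : ConjClasses G => Quotient.out c ∈ X),
      (fun g : G => if IsConj (Quotient.out c) (g ^ e) then (1 : ℂ) else 0) := by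
    funext g
    rw [Finset.sum_apply]
    have h2 : ∀ c : ConjClasses G, IsConj (Quotient.out c) (g ^ e) ↔ c = ConjClasses.mk (g ^ e) := by
      intro c
      rw [← ConjClasses.mk_eq_mk_iff_isConj]
      have : ConjClasses.mk (Quotient.out c) = c := Quotient.out_eq c
      rw [this]
    simp only [h2]
    rw [Finset.sum_ite_eq']
    have h3 : IsConj (Quotient.out (ConjClasses.mk (g ^ e))) (g ^ e) := (h2 _).2 rfl
    rw [sec_apply]
    simp only [Finset.mem_filter, Finset.mem_univ, true_and]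
    by_cases h4 : g ^ e ∈ X
    · rw [if_pos h4, if_pos ((hconj h3).2 h4)]
    · rw [if_neg h4, if_neg fun h5 => h4 ((hconj h3).1 h5)]
  rw [h1, Core.classInner_sum_left]
  refine Local.memLocalRing_sum fun c hc => ?_
  rw [Finset.mem_filter] at hc
  exact loc_one he hM _ (hXo _ hc.2) χ

open Classical in
/-- with one block the scalar of the sum over `K` is congruent to `|K|` -/
theorem OneB.scalar [Fintype G] {M : Ideal AlgInt} (hM : IsPModular p M) (h : OneB M G)
    (χ : IrrCharacter G) {K : Set G} (hK : ∀ g : G, ∀ k ∈ K, g * k * g⁻¹ ∈ K) :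
    MemLocalIdeal M ((∑ k : G, (if k ∈ K then (χ : G → ℂ) k else 0)) / (χ : G → ℂ) 1 -
      (Nat.card {k : G // k ∈ K} : ℂ)) := by
  have hprime : M.IsPrime := Local.isPrime_of_isPModular hM
  have hS : ∀ x ∈ K, ∀ y, IsConj x y → y ∈ K := by
    intro x hx y hxy
    obtain ⟨t, rfl⟩ := isConj_iff.1 hxy
    exact hK t x hx
  have key : ∀ ψ : G → ℂ, IsIrrCharacter G ψ →
      (∑ k : G, (if k ∈ K then ψ k else 0)) / ψ 1 = ∑ᶠ h ∈ K, ψ h / ψ 1 := by
    intro ψ _
    rw [finsum_mem_eq_toFinset_sum, Finset.sum_div]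
    rw [← Finset.sum_filter_add_sum_filter_not Finset.univ (fun k : G => k ∈ K)]
    have h2 : ∑ x ∈ Finset.univ.filter (fun k : G => ¬ k ∈ K),
        (if x ∈ K then ψ x else 0) / ψ 1 = 0 := by
      refine Finset.sum_eq_zero fun x hx => ?_
      rw [if_neg (Finset.mem_filter.1 hx).2, zero_div]
    rw [h2, add_zero]
    refine Finset.sum_congr ?_ fun x hx => ?_
    · ext x; simp
    · rw [if_pos (by simpa using hx)]
  have h1 : (Nat.card {k : G // k ∈ K} : ℂ) =
      (∑ k : G, (if k ∈ K then (fun _ : G => (1 : ℂ)) k else 0)) / (fun _ : G => (1 : ℂ)) 1 := by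
    rw [div_one, Finset.sum_ite, Finset.sum_const_zero, add_zero, Finset.sum_const, nsmul_eq_mul,
      mul_one, Nat.card_eq_fintype_card, Fintype.card_subtype]
  rw [h1, key _ χ.2, key _ Basic.isIrrCharacter_one,
    Blocks.Basic.finsum_mem_eq_sum_centralChar χ.2 K hS,
    Blocks.Basic.finsum_mem_eq_sum_centralChar Basic.isIrrCharacter_one K hS]
  refine Local.memLocalIdeal_sum_sub_sum (M := M) fun c _ => ?_
  have h2 := h χ (Quotient.out c)
  exact Local.memLocalIdeal_sub_comm h2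

open Classical in
/-- **Counting congruence.** -/
theorem OneB.congr [Finite G] {M : Ideal AlgInt} (hM : IsPModular p M) (h : OneB M G) {e : ℕ}
    (he : PE p G e) {K X : Set G} (hK : ∀ g : G, ∀ k ∈ K, g * k * g⁻¹ ∈ K)
    (hX : ∀ g : G, ∀ x ∈ X, g * x * g⁻¹ ∈ X) (hXo : ∀ x ∈ X, ¬ p ∣ orderOf x) (w : G) :
    (p : ℤ) ∣ (Nat.card {k : G // k ∈ K ∧ (k * w) ^ e ∈ X} : ℤ) -
      (Nat.card {k : G // k ∈ K} : ℤ) * (if w ^ e ∈ X then 1 else 0) := by
  have hprime : M.IsPrime := Local.isPrime_of_isPModular hM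
  let _ : Fintype G := Fintype.ofFinite G
  have hirr := Core.finite_irr (G := G)
  have := Fintype.ofFinite (IrrCharacter G)
  have hsec := Core.classFunction_eq_sum (isClassFunction_sec (e := e) hX)
  have hsum : ∀ g : G, sec e X g =
      ∑ χ : IrrCharacter G, classInner (sec e X) (χ : G → ℂ) * (χ : G → ℂ) g := by
    intro g
    have h1 := congrFun hsec g
    rw [Finset.sum_apply] at h1
    exact h1
  have h1 : (Nat.card {k : G // k ∈ K ∧ (k * w) ^ e ∈ X} : ℂ) =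
      ∑ k : G, (if k ∈ K then sec e X (k * w) else 0) := by
    rw [Nat.card_eq_fintype_card, Fintype.card_subtype, Finset.card_eq_sum_ones, Nat.cast_sum,
      Finset.sum_filter]
    refine Finset.sum_congr rfl fun k _ => ?_
    rw [sec_apply]
    by_cases h2 : k ∈ K <;> by_cases h3 : (k * w) ^ e ∈ X <;> simp [h2, h3]
  have h2 : ∑ k : G, (if k ∈ K then sec e X (k * w) else 0) =
      ∑ χ : IrrCharacter G, classInner (sec e X) (χ : G → ℂ) *
        ((∑ k : G, (if k ∈ K then (χ : G → ℂ) k else 0)) / (χ : G → ℂ) 1 * (χ : G → ℂ) w) := by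
    have h3 : ∀ k : G, (if k ∈ K then sec e X (k * w) else 0) =
        ∑ χ : IrrCharacter G, classInner (sec e X) (χ : G → ℂ) *
          (if k ∈ K then (χ : G → ℂ) (k * w) else 0) := by
      intro k
      split_ifs
      · exact hsum _
      · simp
    rw [Finset.sum_congr rfl fun k _ => h3 k, Finset.sum_comm]
    refine Finset.sum_congr rfl fun χ _ => ?_
    rw [← Finset.mul_sum, H526.OB.sum_mul_eq χ.2 hK w]
  have h4 : (Nat.card {k : G // k ∈ K} : ℂ) * (if w ^ e ∈ X then 1 else 0) =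
      ∑ χ : IrrCharacter G, classInner (sec e X) (χ : G → ℂ) *
        ((Nat.card {k : G // k ∈ K} : ℂ) * (χ : G → ℂ) w) := by
    have h5 : (if w ^ e ∈ X then (1 : ℂ) else 0) = sec e X w := (sec_apply X w).symm
    rw [h5, hsum w, Finset.mul_sum]
    refine Finset.sum_congr rfl fun χ _ => ?_
    ring
  have h6 : (Nat.card {k : G // k ∈ K ∧ (k * w) ^ e ∈ X} : ℂ) -
      (Nat.card {k : G // k ∈ K} : ℂ) * (if w ^ e ∈ X then 1 else 0) =
      ∑ χ : IrrCharacter G, classInner (sec e X) (χ : G → ℂ) *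
        (((∑ k : G, (if k ∈ K then (χ : G → ℂ) k else 0)) / (χ : G → ℂ) 1 -
          (Nat.card {k : G // k ∈ K} : ℂ)) * (χ : G → ℂ) w) := by
    rw [h4, h1, h2, ← Finset.sum_sub_distrib]
    refine Finset.sum_congr rfl fun χ _ => ?_
    ring
  have h7 : MemLocalIdeal M ((Nat.card {k : G // k ∈ K ∧ (k * w) ^ e ∈ X} : ℂ) -
      (Nat.card {k : G // k ∈ K} : ℂ) * (if w ^ e ∈ X then 1 else 0)) := by
    rw [h6]
    refine Local.memLocalIdeal_sum fun χ _ => ?_
    exact Local.memLocalIdeal_mul_left (loc_sec he hM hX hXo χ)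
      (Local.memLocalIdeal_mul_right (OneB.scalar hM h χ hK) (Blocks.FullDefect.memLocalRing_irr χ w))
  have h8 := (Local.memLocalIdeal_intCast_iff hM
    ((Nat.card {k : G // k ∈ K ∧ (k * w) ^ e ∈ X} : ℤ) -
      (Nat.card {k : G // k ∈ K} : ℤ) * (if w ^ e ∈ X then 1 else 0))).1 (by
    push_cast
    exact h7)
  exact_mod_cast h8

/-- with one `p`-block: `#{k ∈ K | g k⁻¹ a p-element} ≡ #K` or `≡ 0` mod `p`, as `g` is a
`p`-element or not -/
theorem OneB.count [Finite G] {M : Ideal AlgInt} (hM : IsPModular p M) (h : OneB M G)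
    {K : Set G} (hK : ∀ g : G, ∀ k ∈ K, g * k * g⁻¹ ∈ K) (g : G) :
    ((∃ j : ℕ, g ^ p ^ j = 1) →
      Nat.card {k : G // k ∈ K ∧ ∃ j : ℕ, (g * k⁻¹) ^ p ^ j = 1} ≡
        Nat.card {k : G // k ∈ K} [MOD p]) ∧
    ((¬ ∃ j : ℕ, g ^ p ^ j = 1) →
      p ∣ Nat.card {k : G // k ∈ K ∧ ∃ j : ℕ, (g * k⁻¹) ^ p ^ j = 1}) := by
  classical
  obtain ⟨e, he⟩ := exists_PE (p := p) (G := G)
  have h1 := OneB.congr hM h he hK (X := {1}) (fun a x hx => by
    have hx' : x = 1 := hx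
    show a * x * a⁻¹ = 1
    rw [hx']; group) (fun x hx => by
    have hx' : x = 1 := hx
    rw [hx', orderOf_one]
    exact fun h => hp.out.one_lt.ne' (Nat.dvd_one.1 h)) g⁻¹
  have hinv : ∀ u : G, (∃ j : ℕ, u⁻¹ ^ p ^ j = 1) ↔ ∃ j : ℕ, u ^ p ^ j = 1 := by
    intro u
    refine exists_congr fun j => ?_
    rw [inv_pow, inv_eq_one]
  have h2 : Nat.card {k : G // k ∈ K ∧ (k * g⁻¹) ^ e ∈ ({1} : Set G)} =
      Nat.card {k : G // k ∈ K ∧ ∃ j : ℕ, (g * k⁻¹) ^ p ^ j = 1} := by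
    refine Nat.card_congr (Equiv.subtypeEquivRight fun k => ?_)
    refine and_congr_right fun _ => ?_
    rw [Set.mem_singleton_iff, he.eq_one_iff, ← hinv]
    have : (k * g⁻¹)⁻¹ = g * k⁻¹ := by group
    rw [this]
  have h3 : g⁻¹ ^ e ∈ ({1} : Set G) ↔ ∃ j : ℕ, g ^ p ^ j = 1 := by
    rw [Set.mem_singleton_iff, he.eq_one_iff, hinv]
  rw [h2] at h1
  constructor
  · intro hg
    rw [if_pos (h3.2 hg), mul_one] at h1
    rw [← Int.natCast_modEq_iff]
    exact (Int.modEq_iff_dvd.2 (by simpa using h1)).symm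
  · intro hg
    rw [if_neg (fun h' => hg (h3.1 h')), mul_zero, sub_zero] at h1
    exact_mod_cast h1

/-- **Counting criterion.** `K` conjugation-closed, `g` not a `p`-element, the number of `k ∈ K`
such that `g k⁻¹` is a `p`-element is prime to `p`. -/
theorem NB.of_count [Finite G] {K : Set G} (hK : ∀ g : G, ∀ k ∈ K, g * k * g⁻¹ ∈ K) {g : G}
    (hg : ¬ ∃ j : ℕ, g ^ p ^ j = 1)
    (hc : ¬ p ∣ Nat.card {k : G // k ∈ K ∧ ∃ j : ℕ, (g * k⁻¹) ^ p ^ j = 1}) : NB p G := by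
  intro M hM
  by_contra hcon
  push Not at hcon
  exact hc ((OneB.count hM hcon hK g).2 hg)

/-- **Counting criterion** for `g` a `p`-element. -/
theorem NB.of_count_p [Finite G] {K : Set G} (hK : ∀ g : G, ∀ k ∈ K, g * k * g⁻¹ ∈ K) {g : G}
    (hg : ∃ j : ℕ, g ^ p ^ j = 1)
    (hc : ¬ Nat.card {k : G // k ∈ K ∧ ∃ j : ℕ, (g * k⁻¹) ^ p ^ j = 1} ≡
      Nat.card {k : G // k ∈ K} [MOD p]) : NB p G := by
  intro M hM
  by_contra hcon
  push Not at hcon
  exact hc ((OneB.count hM hcon hK g).1 hg)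

/-- **Counting criterion** for one class. -/
theorem NB.of_count_class [Finite G] {a g : G} (hg : ¬ ∃ j : ℕ, g ^ p ^ j = 1)
    (hc : ¬ p ∣ Nat.card {k : G // IsConj a k ∧ ∃ j : ℕ, (g * k⁻¹) ^ p ^ j = 1}) : NB p G :=
  NB.of_count (K := {k : G | IsConj a k}) (fun x k hk => IsConj.trans hk (isConj_iff.2 ⟨x, rfl⟩))
    hg hc

/-- the count for `g ∈ K` with only `k = g`: no `k ∈ K`, `k ≠ g`, with `g k⁻¹` a `p`-element -/
theorem NB.of_unique [Finite G] {K : Set G} (hK : ∀ g : G, ∀ k ∈ K, g * k * g⁻¹ ∈ K) {g : G}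
    (hg : ¬ ∃ j : ℕ, g ^ p ^ j = 1) (hgK : g ∈ K)
    (hc : ∀ k ∈ K, ∀ j : ℕ, (g * k⁻¹) ^ p ^ j = 1 → k = g) : NB p G := by
  refine NB.of_count hK hg ?_
  have h1 : Nat.card {k : G // k ∈ K ∧ ∃ j : ℕ, (g * k⁻¹) ^ p ^ j = 1} = 1 := by
    rw [Nat.card_eq_one_iff_unique]
    refine ⟨⟨fun a b => ?_⟩, ⟨⟨g, hgK, 0, by simp⟩⟩⟩
    obtain ⟨a, ha, j, hj⟩ := a
    obtain ⟨b, hb, i, hi⟩ := b
    apply Subtype.ext
    show a = b
    rw [hc a ha j hj, hc b hb i hi]
  rw [h1]
  exact fun h => hp.out.one_lt.ne' (Nat.dvd_one.1 h)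

end Cfsg.Agent.H7.NBp
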