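import Mathlib
import Cfsg.Agent.H7.NBp
import Cfsg.Agent.S0910
import Cfsg.Agent.S0205
import Cfsg.Agent.S0914
import Cfsg.Agent.H167.HasStLie

/-!
# More rules for groups with more than one `p`-block (S5002, S5003)

Generalisation of `Cfsg.Agent.H526.ObComp` (helper526, `p = 2`).

* `NB.of_component`: `K ≤ C_G(Q)` and every `K ^ c`, `c ∈ C_G(Q)`, is `K` or commutes with `K`;
* `NB.of_cover_chain`: `K ⊴ N ⊴ C_G(Q)`;
* `NB.of_pprime_le`: a nontrivial subgroup of order prime to `p` normalized by `C_G(Q)`;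
* `NB.of_pprime_elements`: all elements of `C_G(Q)` of order prime to `p` commute;
* `NB.of_not_dvd`: `p ∤ |G|`, `G ≠ 1`;
* `NB.of_degree`: a nonprincipal irreducible character whose degree is a power of `p`;
* `NB.of_dz`: an irreducible character of `p`-defect zero;
* `NB.of_vanish`: an irreducible character which is zero on an element centralizing a Sylow
  `p`-subgroup;
* `NB.of_hasSt`: the Steinberg character in cross characteristic;
* `NB.of_lie`: groups of Lie type in characteristic `p`.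
-/

set_option autoImplicit false
open Cfsg

namespace Cfsg.Agent.H7.NBp

open Cfsg.Agent Cfsg.Agent.Characters.Core

universe u

section

variable {p : ℕ} [hp : Fact p.Prime] {G : Type*} [Group G] [Finite G]

theorem NB.of_cover_chain (Q : Subgroup G) (hQ : IsPGroup p Q) (N K : Subgroup G)
    (hNQ : N ≤ Subgroup.centralizer (Q : Set G))
    (hnN : ∀ c ∈ Subgroup.centralizer (Q : Set G), ∀ k ∈ N, c * k * c⁻¹ ∈ N)
    (hKN : K ≤ N) (hnK : ∀ c ∈ N, ∀ k ∈ K, c * k * c⁻¹ ∈ K)
    {S : Type*} [Group S] (f : K →* S) (hf : Function.Surjective f)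
    (hker : f.ker ≤ Subgroup.center K) (h : NB p S) : NB p G := by
  refine NB.of_simple_le Q hQ N hNQ hnN ?_
  have hN : (K.subgroupOf N).Normal := by
    constructor
    intro k hk c
    rw [Subgroup.mem_subgroupOf] at hk ⊢
    exact hnK c c.2 _ hk
  have h1 : NB p K := NB.of_surjective f hf hker h
  exact NB.of_normal (K.subgroupOf N) (NB.iso (Subgroup.subgroupOfEquivOfLe hKN).symm h1)

/-- `K ≤ C_G(Q)`, every conjugate of `K` under `C_G(Q)` is contained in `K` or commutes with `K`. -/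
theorem NB.of_component (Q : Subgroup G) (hQ : IsPGroup p Q) (K : Subgroup G)
    (hKQ : K ≤ Subgroup.centralizer (Q : Set G))
    (hn : ∀ c ∈ Subgroup.centralizer (Q : Set G), (∀ k ∈ K, c * k * c⁻¹ ∈ K) ∨
      (∀ k ∈ K, ∀ l ∈ K, (c * k * c⁻¹) * l = l * (c * k * c⁻¹)))
    {S : Type*} [Group S] (f : K →* S) (hf : Function.Surjective f)
    (hker : f.ker ≤ Subgroup.center K) (h : NB p S) : NB p G := by
  set C := Subgroup.centralizer (Q : Set G) with hC
  let N : Subgroup G := Subgroup.closure {x | ∃ c ∈ C, ∃ k ∈ K, x = c * k * c⁻¹}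
  have hgen : ∀ c ∈ C, ∀ k ∈ K, c * k * c⁻¹ ∈ N := fun c hc k hk =>
    Subgroup.subset_closure ⟨c, hc, k, hk, rfl⟩
  have hKN : K ≤ N := fun k hk => by
    have := hgen 1 C.one_mem k hk
    simpa using this
  have hNC : N ≤ C := by
    refine (Subgroup.closure_le _).2 ?_
    rintro x ⟨c, hc, k, hk, rfl⟩
    exact C.mul_mem (C.mul_mem hc (hKQ hk)) (C.inv_mem hc)
  refine NB.of_cover_chain Q hQ N K hNC ?_ hKN ?_ f hf hker h
  · intro d hd x hx
    refine Subgroup.closure_induction (p := fun x _ => d * x * d⁻¹ ∈ N) ?_ ?_ ?_ ?_ hx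
    · rintro x ⟨c, hc, k, hk, rfl⟩
      have := hgen (d * c) (C.mul_mem hd hc) k hk
      have e : d * (c * k * c⁻¹) * d⁻¹ = d * c * k * (d * c)⁻¹ := by group
      rw [e]
      exact this
    · simp
    · intro a b _ _ ha hb
      have e : d * (a * b) * d⁻¹ = (d * a * d⁻¹) * (d * b * d⁻¹) := by group
      rw [e]
      exact N.mul_mem ha hb
    · intro a _ ha
      have e : d * a⁻¹ * d⁻¹ = (d * a * d⁻¹)⁻¹ := by group
      rw [e]
      exact N.inv_mem ha
  · have hle : N ≤ Subgroup.normalizer (K : Set G) := by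
      refine (Subgroup.closure_le _).2 ?_
      rintro x ⟨c, hc, k, hk, rfl⟩
      rcases hn c hc with h1 | h1
      · apply Subgroup.le_normalizer
        exact h1 k hk
      · refine Subgroup.centralizer_le_normalizer _ ?_
        rw [Subgroup.mem_centralizer_iff]
        intro l hl
        exact (h1 k hk l hl).symm
    intro c hc k hk
    exact (Subgroup.mem_normalizer_iff.1 (hle hc) k).1 hk

theorem NB.of_pprime_le (Q : Subgroup G) (hQ : IsPGroup p Q) (N : Subgroup G)
    (hNQ : N ≤ Subgroup.centralizer (Q : Set G))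
    (hnN : ∀ c ∈ Subgroup.centralizer (Q : Set G), ∀ k ∈ N, c * k * c⁻¹ ∈ N)
    (hodd : ¬ p ∣ Nat.card N) (h1 : N ≠ ⊥) : NB p G := by
  apply NB.of_centralizer Q hQ
  have hN : (N.subgroupOf (Subgroup.centralizer (Q : Set G))).Normal := by
    constructor
    intro k hk c
    rw [Subgroup.mem_subgroupOf] at hk ⊢
    exact hnN c c.2 _ hk
  refine NB.of_pprime_normal (N.subgroupOf (Subgroup.centralizer (Q : Set G))) ?_ ?_
  · rw [Nat.card_congr (Subgroup.subgroupOfEquivOfLe hNQ).toEquiv]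
    exact hodd
  · intro h
    apply h1
    rw [Subgroup.subgroupOf_eq_bot] at h
    rw [eq_bot_iff]
    intro x hx
    rw [disjoint_iff_inf_le] at h
    exact h ⟨hx, hNQ hx⟩

/-- All elements of `C_G(Q)` of order prime to `p` commute, and there is a nontrivial one. -/
theorem NB.of_pprime_elements (Q : Subgroup G) (hQ : IsPGroup p Q)
    (hcomm : ∀ x ∈ Subgroup.centralizer (Q : Set G), ∀ y ∈ Subgroup.centralizer (Q : Set G),
      ¬ p ∣ orderOf x → ¬ p ∣ orderOf y → x * y = y * x)
    {x : G} (hx : x ∈ Subgroup.centralizer (Q : Set G)) (ho : ¬ p ∣ orderOf x) (hx1 : x ≠ 1) :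
    NB p G := by
  set C := Subgroup.centralizer (Q : Set G) with hC
  let N : Subgroup G :=
    { carrier := {y | y ∈ C ∧ ¬ p ∣ orderOf y}
      one_mem' := ⟨C.one_mem, by rw [orderOf_one]; exact fun h => hp.out.one_lt.ne' (Nat.dvd_one.1 h)⟩
      mul_mem' := by
        rintro a b ⟨ha, ha'⟩ ⟨hb, hb'⟩
        refine ⟨C.mul_mem ha hb, ?_⟩
        have h1 : Commute a b := hcomm a ha b hb ha' hb'
        have h2 := h1.orderOf_mul_dvd_mul_orderOf
        intro h3
        rcases (hp.out.dvd_mul).1 (h3.trans h2) with h4 | h4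
        · exact ha' h4
        · exact hb' h4
      inv_mem' := by
        rintro a ⟨ha, ha'⟩
        exact ⟨C.inv_mem ha, by rwa [orderOf_inv]⟩ }
  refine NB.of_pprime_le Q hQ N (fun y hy => hy.1) ?_ ?_ ?_
  · rintro c hc k ⟨hk, hk'⟩
    refine ⟨C.mul_mem (C.mul_mem hc hk) (C.inv_mem hc), ?_⟩
    have e : orderOf (c * k * c⁻¹) = orderOf k := by
      have : c * k * c⁻¹ = MulAut.conj c k := rfl
      rw [this]
      exact MulEquiv.orderOf_eq (MulAut.conj c) k
    rw [e]
    exact hk'
  · intro hcon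
    obtain ⟨y, hy⟩ := exists_prime_orderOf_dvd_card' (G := N) p hcon
    have h1 : ¬ p ∣ orderOf (y : G) := y.2.2
    rw [Subgroup.orderOf_coe, hy] at h1
    exact h1 dvd_rfl
  · intro h
    apply hx1
    have : x ∈ N := ⟨hx, ho⟩
    rwa [h, Subgroup.mem_bot] at this

theorem NB.of_not_dvd [Nontrivial G] (h : ¬ p ∣ Nat.card G) : NB p G := by
  refine NB.of_pprime_normal (⊤ : Subgroup G) ?_ ?_
  · rwa [Subgroup.card_top]
  · exact top_ne_bot

/-- A nonprincipal irreducible character whose degree is a power of `p`. -/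
theorem NB.of_degree [IsSimpleGroup G] (hna : ¬ IsMulCommutative G) {χ : G → ℂ}
    (hχ : IsIrrCharacter G χ) {k : ℕ} (hdeg : χ 1 = (p : ℂ) ^ k) (h1 : χ ≠ fun _ => 1) :
    NB p G := by
  intro M hM
  refine ⟨⟨χ, hχ⟩, fun hmem => h1 ?_⟩
  have hna' : ∃ a b : G, a * b ≠ b * a := by
    by_contra hcon
    push Not at hcon
    exact hna ⟨⟨hcon⟩⟩
  exact S0910.result p M hM hna' ⟨χ, hχ⟩ hmem k (by exact_mod_cast hdeg)

/-- from a degree which is a power of `p` and not one -/
theorem NB.of_degree' [IsSimpleGroup G] (hna : ¬ IsMulCommutative G) {χ : G → ℂ}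
    (hχ : IsIrrCharacter G χ) {k : ℕ} (hdeg : χ 1 = (p : ℂ) ^ (k + 1)) : NB p G := by
  refine NB.of_degree hna hχ hdeg ?_
  intro h
  rw [h] at hdeg
  have h2 : ((p ^ (k + 1) : ℕ) : ℂ) = ((1 : ℕ) : ℂ) := by
    push_cast
    exact hdeg.symm
  have h3 : p ^ (k + 1) = 1 := by exact_mod_cast h2
  have h4 : 1 < p ^ (k + 1) := Nat.one_lt_pow (Nat.succ_ne_zero k) hp.out.one_lt
  omega

/-- an irreducible character of `p`-defect zero which is not linear -/
theorem NB.of_dz' (χ : IrrCharacter G) (h1 : charDegree (χ : G → ℂ) ≠ 1)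
    (h : ¬ p ∣ Nat.card G / charDegree (χ : G → ℂ)) : NB p G := by
  intro M hM
  refine ⟨χ, fun hχ => ?_⟩
  have h2 := (S0914.result p M hM χ).1 h
  have h3 : triv G ∈ blockOf M (χ : G → ℂ) := by
    have h4 : SameBlock M (fun _ : G => (1 : ℂ)) (χ : G → ℂ) := hχ
    have hprime : M.IsPrime := Blocks.Local.isPrime_of_isPModular hM
    exact Blocks.Basic.sameBlock_symm h4
  rw [h2, Set.mem_singleton_iff] at h3
  apply h1
  rw [← h3]
  unfold charDegree triv
  simp

/-- an irreducible character of `p`-defect zero, `p ∣ |G|` -/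
theorem NB.of_dz {χ : G → ℂ} (hχ : IsIrrCharacter G χ) {d : ℕ} (hd : χ 1 = d)
    (hpG : p ∣ Nat.card G) (h : ¬ p ∣ Nat.card G / d) : NB p G := by
  have hcd : charDegree χ = d := by
    unfold charDegree
    rw [hd]
    simp
  refine NB.of_dz' ⟨χ, hχ⟩ ?_ ?_
  · show charDegree χ ≠ 1
    rw [hcd]
    rintro rfl
    rw [Nat.div_one] at h
    exact h hpG
  · show ¬ p ∣ Nat.card G / charDegree χ
    rw [hcd]
    exact h

/-- an irreducible character with a zero at an element which centralizes a Sylow `p`-subgroup -/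
theorem NB.of_vanish {χ : G → ℂ} (hχ : IsIrrCharacter G χ) {u : G} (hu : χ u = 0)
    (hi : ¬ p ∣ (Subgroup.centralizer ({u} : Set G)).index) : NB p G := by
  intro M hM
  refine ⟨⟨χ, hχ⟩, fun hmem => ?_⟩
  have h1 : MemLocalIdeal M (centralChar (fun _ : G => (1 : ℂ)) u - centralChar χ u) := hmem u
  have h2 : centralChar χ u = 0 := by
    unfold centralChar
    rw [hu]
    simp
  rw [h2, sub_zero] at h1
  have h3 : centralChar (fun _ : G => (1 : ℂ)) u =
      (((Subgroup.centralizer ({u} : Set G)).index : ℕ) : ℂ) := by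
    unfold centralChar
    simp
  rw [h3] at h1
  apply hi
  have h4 := (Blocks.Local.memLocalIdeal_intCast_iff hM
    ((Subgroup.centralizer ({u} : Set G)).index : ℤ)).1 (by exact_mod_cast h1)
  exact_mod_cast h4

/-- the Steinberg character in characteristic `r ≠ p`: a nontrivial `r`-element centralizes a
Sylow `p`-subgroup -/
theorem NB.of_hasSt {r : ℕ} (hSt : H167.StChar.HasSt r G) {u : G} (hur : ∃ k : ℕ, u ^ r ^ k = 1)
    (hu1 : u ≠ 1) (hi : ¬ p ∣ (Subgroup.centralizer ({u} : Set G)).index) : NB p G := by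
  obtain ⟨χ, hχ, -, h⟩ := hSt
  exact NB.of_vanish hχ (h u hur hu1) hi

/-- groups with a Steinberg character for `p` -/
theorem NB.of_hasSt_self (hSt : H167.StChar.HasSt p G) (hpG : p ∣ Nat.card G) : NB p G := by
  obtain ⟨χ, hχ, h1, -⟩ := hSt
  refine NB.of_dz hχ h1 hpG ?_
  have h0 : Nat.card G ≠ 0 := Nat.card_pos.ne'
  exact Nat.not_dvd_ordCompl hp.out h0

end

/-- groups of Lie type in characteristic `p` -/
theorem NB.of_lie {p : ℕ} [hp : Fact p.Prime] {G : Type u} [Group G] [Finite G] [IsSimpleGroup G]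
    (h : IsLieTypeChar p G) : NB p G := by
  by_cases hpG : p ∣ Nat.card G
  · exact NB.of_hasSt_self (H167.StChar.hasSt_of_lie hp.out h) hpG
  · exact NB.of_not_dvd hpG

end Cfsg.Agent.H7.NBp
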