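import Cfsg.Agent.H7.J4Bound
import Cfsg.Agent.J4Type.Aut22
import Cfsg.Agent.S0364

/-!
# `J4`: a Sylow 2-subgroup in `C(z) ∩ N(E)`, conjugates of `E`, elements of order 31 (helper7)

* `exists_sylow`: a Sylow 2-subgroup `S ≤ N(E)` centralizing `z`;
* `le_normalizer`: if `E ≤ R ⊴ H`, `R ≤ T ≤ N(E) ∩ C(z)`, then `H ≤ N(E)`;
* `eq_one_of_31`: an element of order dividing 31 commuting with an involution conjugate to `z` or to a duad is trivial.
-/

set_option autoImplicit false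

namespace Cfsg.Agent.H7.J4Weak

open Cfsg Subgroup Cfsg.Agent.J4Type Cfsg.Agent.H7.J4Mod Cfsg.Agent.H7.J4Bound
open scoped Pointwise

variable {K : Type*} [Group K] (F : Frame K)

/-! ### the Sylow 2-subgroup -/

theorem exists_sylow [Finite K] : ∃ S : Sylow 2 K, (S : Subgroup K) ≤ normalizer (EE F : Set K) ∧
    ∀ x ∈ (S : Subgroup K), x * F.z = F.z * x := by
  have : Fact (Nat.Prime 2) := ⟨Nat.prime_two⟩
  have hQ2 : IsPGroup 2 ↥F.Q := IsPGroup.of_card F.Q_card
  obtain ⟨S, hS⟩ := hQ2.exists_le_sylow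
  have hZ : ∀ y ∈ S, (∀ x ∈ S, x * y = y * x) → y = 1 ∨ y = F.z := by
    intro y _ hy
    exact F.Q_cent y fun q hq => (hy q (hS hq)).symm
  have hzS : F.z ∈ S := hS F.z_mem_Q
  have hcen : ∀ x ∈ S, x * F.z = F.z * x := by
    have hnt : Nontrivial S := ⟨⟨⟨F.z, hzS⟩, 1, fun h => CloseInst.z_ne_one F (congrArg Subtype.val h)⟩⟩
    have := S.isPGroup'.center_nontrivial
    obtain ⟨⟨y, hy⟩, hy1⟩ := exists_ne (1 : Subgroup.center S)
    have hyc : ∀ x ∈ S, x * (y : K) = y * x := by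
      intro x hx
      exact congrArg Subtype.val (Subgroup.mem_center_iff.1 hy ⟨x, hx⟩)
    rcases hZ y y.2 hyc with h | h
    · exact absurd (Subtype.ext (Subtype.ext h)) hy1
    · intro x hx
      rw [← h]
      exact hyc x hx
  have hSc : (S : Subgroup K) ≤ centralizer ({F.z} : Set K) := fun x hx => mem_centralizer_singleton_iff.2 (hcen x hx)
  -- the image in `M22:2`
  set B : Subgroup (Equiv.Perm GolayPt) := ((S : Subgroup K).subgroupOf (centralizer ({F.z} : Set K))).map F.P with hB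
  have hBP : ∀ g ∈ B, g ∈ M22d := by
    rintro _ ⟨x, -, rfl⟩
    rw [← F.P_range]; exact ⟨x, rfl⟩
  obtain ⟨O, hO, hOB⟩ := FusionM22.exists_hexad B (fun g hg => (hBP g hg).1)
    ((S.isPGroup'.comap_of_injective (centralizer ({F.z} : Set K)).subtype (subtype_injective _)).map F.P)
    (fun g hg => ((Cfsg.Agent.J4Type.Aut22.mem_D22_iff _).1 (hBP g hg)).2)
  have hOh : IsHex O := by
    refine ⟨hO.1, ?_⟩
    intro x hx
    unfold base at hx
    rw [Finset.mem_insert, Finset.mem_singleton] at hx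
    rcases hx with rfl | rfl
    · exact hO.2.1
    · exact hO.2.2
  obtain ⟨c, -, hc⟩ := FusionConj.exists_C_smul F.toHex hOh FusionConj.isHex_hex0
  have hcz : (c : K) * F.z = F.z * c := mem_centralizer_singleton_iff.1 c.2
  refine ⟨(c : K) • S, ?_, ?_⟩
  · intro x hx
    have hx' : (c : K)⁻¹ * x * c ∈ (S : Subgroup K) := by
      have h1 : x ∈ MulAut.conj (c : K) • (S : Subgroup K) := hx
      rw [Subgroup.mem_pointwise_smul_iff_inv_smul_mem, ← map_inv] at h1
      have e : (MulAut.conj ((c : K)⁻¹)) • x = (c : K)⁻¹ * x * c := by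
        show (c : K)⁻¹ * x * (c : K)⁻¹⁻¹ = _
        rw [inv_inv]
      rwa [e] at h1
    set s : centralizer ({F.z} : Set K) := ⟨(c : K)⁻¹ * x * c, hSc hx'⟩ with hs
    have h1 : F.P s • O = O := hOB _ ⟨s, hx', rfl⟩
    have h2 : x = ((c * s * c⁻¹ : centralizer ({F.z} : Set K)) : K) := by
      show x = (c : K) * ((c : K)⁻¹ * x * c) * (c : K)⁻¹
      group
    rw [h2]
    apply CloseInst.mem_normalizer_of_P
    have hc' : F.P c • O = hex0 := hc
    rw [map_mul, map_mul, map_inv, mul_smul, mul_smul]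
    have h3 : (F.P c)⁻¹ • hex0 = O := by rw [inv_smul_eq_iff, hc']
    rw [h3, h1, hc']
  · intro x hx
    have hx' : (c : K)⁻¹ * x * c ∈ (S : Subgroup K) := by
      have h1 : x ∈ MulAut.conj (c : K) • (S : Subgroup K) := hx
      rw [Subgroup.mem_pointwise_smul_iff_inv_smul_mem, ← map_inv] at h1
      have e : (MulAut.conj ((c : K)⁻¹)) • x = (c : K)⁻¹ * x * c := by
        show (c : K)⁻¹ * x * (c : K)⁻¹⁻¹ = _
        rw [inv_inv]
      rwa [e] at h1
    have h1 := hcen _ hx'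
    have h2 : (c : K)⁻¹ * F.z = F.z * (c : K)⁻¹ := by
      rw [inv_mul_eq_iff_eq_mul, ← mul_assoc, hcz, mul_inv_cancel_right]
    calc x * F.z = (c : K) * (((c : K)⁻¹ * x * c) * ((c : K)⁻¹ * F.z)) := by group
      _ = (c : K) * (((c : K)⁻¹ * x * c) * F.z) * (c : K)⁻¹ := by rw [h2]; group
      _ = (c : K) * (F.z * ((c : K)⁻¹ * x * c)) * (c : K)⁻¹ := by rw [h1]
      _ = ((c : K) * F.z) * (c : K)⁻¹ * x := by group
      _ = F.z * x := by rw [hcz]; group

/-! ### conjugates of `E` -/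

theorem cent_EE {g : K} (h : ∀ a ∈ EE F, g * a = a * g) : g ∈ EE F :=
  F.A_cent hex0 FusionConj.isHex_hex0 g fun a ha _ => h a ha

/-- if `E ≤ R ⊴ H`, `R ≤ T`, then `H` normalizes `E` -/
theorem le_normalizer [Finite K] {T R H : Subgroup K} (hTN : T ≤ normalizer (EE F : Set K))
    (hTz : ∀ x ∈ T, x * F.z = F.z * x) (hRT : R ≤ T) (hHR : H ≤ normalizer (R : Set K)) (hER : EE F ≤ R) :
    H ≤ normalizer (EE F : Set K) := by
  classical
  intro h hh
  by_contra hcon
  have hex0' := FusionConj.isHex_hex0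
  have hRh : ∀ x, x ∈ R ↔ h⁻¹ * x * h ∈ R := by
    intro x
    have h1 := mem_normalizer_iff.1 (hHR (inv_mem hh)) x
    rwa [inv_inv] at h1
  have hRh' : ∀ x, x ∈ R ↔ h * x * h⁻¹ ∈ R := fun x => mem_normalizer_iff.1 (hHR hh) x
  -- `z` lies in the conjugate
  have hz : h⁻¹ * F.z * h ∈ EE F := by
    apply cent_EE
    intro a ha
    have h1 : h * a * h⁻¹ ∈ R := (hRh' a).1 (hER ha)
    have h2 := hTz _ (hRT h1)
    calc h⁻¹ * F.z * h * a = h⁻¹ * (F.z * (h * a * h⁻¹)) * h := by group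
      _ = h⁻¹ * (h * a * h⁻¹ * F.z) * h := by rw [h2]
      _ = a * (h⁻¹ * F.z * h) := by group
  obtain ⟨O, hO, hOE⟩ := F.E_unique h hz
  have hne : O ≠ hex0 := by
    rintro rfl
    apply hcon
    rw [mem_normalizer_iff]
    intro a
    have h1 := hOE (h * a * h⁻¹)
    have e : h⁻¹ * (h * a * h⁻¹) * h = a := by group
    rw [e] at h1
    exact h1
  -- the intersection
  have hint : Nat.card ↥(EE F ⊓ F.E O) ≤ 8 := by
    have h1 : base ⊆ hex0 ∩ O := Finset.subset_inter hex0'.2 hO.2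
    have h2 := Finset.card_le_card h1
    have h3 : base.card = 2 := by decide
    rcases DuadM24.inter_card hex0'.1 hO.1 hne.symm (by omega) with h | h
    · rw [F.E_inf_two hex0 O hex0' hO h]; norm_num
    · rw [F.E_inf_eight hex0 O hex0' hO h]
  -- an element outside
  have hnle : ¬ F.E O ≤ EE F := by
    intro hle
    have h1 : EE F ⊓ F.E O = F.E O := inf_eq_right.2 hle
    rw [h1, F.E_card O hO] at hint
    norm_num at hint
  obtain ⟨v, hvO, hvE⟩ := SetLike.not_le_iff_exists.1 hnle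
  have hOR : ∀ x ∈ F.E O, x ∈ R := fun x hx => (hRh x).2 (hER ((hOE x).2 hx))
  set n : normalizer (EE F : Set K) := ⟨v, hTN (hRT (hOR v hvO))⟩ with hn
  have h1 : pp F n ≠ 1 := fun h => hvE ((F.π_ker n).1 (Subtype.ext h))
  have h2 : pp F n * pp F n = 1 := by
    have h3 : F.π n * F.π n = 1 := by
      rw [← map_mul, F.π_ker]
      show v * v ∈ F.E hex0
      rw [(F.E_elem O hO).1 v hvO]
      exact one_mem _
    exact congrArg Subtype.val h3
  have h9 := nine_le (F.π n).2 h2 h1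
  rw [← card_values F (pp F n) none] at h9
  have hsub : ((Finset.univ.image fun x => F.ε (symmDiff (S (pp F n) x) (S (pp F n) none)) : Finset K) : Set K) ⊆
      (EE F ⊓ F.E O : Subgroup K) := by
    intro y hy
    obtain ⟨x, -, rfl⟩ := Finset.mem_image.1 (Finset.mem_coe.1 hy)
    show F.ε (symmDiff (S (pp F n) x) (S (pp F n) none)) ∈ EE F ⊓ F.E O
    have h3 := comm_ε F n x none
    rw [← h3]
    set e : K := F.ε (symmDiff {x} {none}) with he
    have heE : e ∈ EE F := F.ε_mem _ (CloseInst.even_pair _ _)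
    refine ⟨mul_mem heE (conj_mem_EE F n heE), ?_⟩
    show e * (v * e * v⁻¹) ∈ F.E O
    have hei : e⁻¹ = e := inv_eq_of_mul_eq_one_left ((EE_el F).1 e heE)
    have h4 : e * (v * e * v⁻¹) = (e * v * e⁻¹) * v⁻¹ := by rw [hei]; group
    rw [h4]
    refine mul_mem ?_ (inv_mem hvO)
    -- `E ≤ R` normalizes `E O`
    have h5 : h⁻¹ * e * h ∈ normalizer (EE F : Set K) := hTN (hRT ((hRh e).1 (hER heE)))
    have h6 := (mem_normalizer_iff.1 h5 _).1 ((hOE v).2 hvO)
    have e1 : h⁻¹ * e * h * (h⁻¹ * v * h) * (h⁻¹ * e * h)⁻¹ = h⁻¹ * (e * v * e⁻¹) * h := by group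
    rw [e1] at h6
    exact (hOE _).1 h6
  have h3 := Set.ncard_le_ncard hsub (Set.toFinite _)
  rw [Set.ncard_coe_finset] at h3
  have h4 : ((EE F ⊓ F.E O : Subgroup K) : Set K).ncard = Nat.card ↥(EE F ⊓ F.E O) := rfl
  omega

/-! ### elements of order 31 -/

theorem not_dvd_M24 {g : M24} (h : g ^ 31 = 1) : g = 1 := by
  have h1 : orderOf g ∣ 31 := orderOf_dvd_of_pow_eq_one h
  have h2 : orderOf g ∣ Nat.card M24 := orderOf_dvd_natCard g
  rcases (Nat.dvd_prime (by norm_num : Nat.Prime 31)).1 h1 with h3 | h3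
  · exact orderOf_eq_one_iff.1 h3
  · exfalso
    rw [h3] at h2
    have h4 : Nat.card M24 = 244823040 := Cfsg.Agent.S0364.result
    rw [h4] at h2
    revert h2
    norm_num

theorem eq_one_of_pow {y : K} (h31 : y ^ 31 = 1) {m : ℕ} (hm : y ^ m = 1) (hc : Nat.Coprime 31 m) : y = 1 := by
  have h1 : orderOf y ∣ 31 := orderOf_dvd_of_pow_eq_one h31
  have h2 : orderOf y ∣ m := orderOf_dvd_of_pow_eq_one hm
  exact orderOf_eq_one_iff.1 (Nat.eq_one_of_dvd_coprimes hc h1 h2)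

theorem eq_one_of_comm_z {y : K} (h31 : y ^ 31 = 1) (hy : y * F.z = F.z * y) : y = 1 := by
  set c : centralizer ({F.z} : Set K) := ⟨y, mem_centralizer_singleton_iff.2 hy⟩ with hc
  have h1 : F.P c ∈ M22d := by rw [← F.P_range]; exact ⟨c, rfl⟩
  have h2 : F.P c ^ 31 = 1 := by
    rw [← map_pow]
    have : c ^ 31 = 1 := Subtype.ext h31
    rw [this, map_one]
  have h3 : F.P c = 1 := by
    have h4 := not_dvd_M24 (g := ⟨F.P c, h1.1⟩) (Subtype.ext h2)
    exact congrArg Subtype.val h4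
  obtain ⟨q, hq, i, hi⟩ := (F.P_ker c).1 h3
  have hi' : y = q * F.ρ ^ i := hi
  -- the group `Q ⟨ρ⟩`
  have hρQ : ∀ j : ℕ, ∀ q ∈ F.Q, F.ρ ^ j * q * (F.ρ ^ j)⁻¹ ∈ F.Q := by
    intro j q hq
    refine F.Q_conj _ ?_ q hq
    exact ((show Commute F.ρ F.z from F.ρ_comm).pow_left j).eq
  have hpow : ∀ k : ℕ, ∃ q' ∈ F.Q, y ^ k = q' * F.ρ ^ (i * k) := by
    intro k
    induction k with
    | zero => exact ⟨1, one_mem _, by simp⟩
    | succ k ih =>
      obtain ⟨q', hq', h⟩ := ih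
      refine ⟨q' * (F.ρ ^ (i * k) * q * (F.ρ ^ (i * k))⁻¹), mul_mem hq' (hρQ _ q hq), ?_⟩
      rw [pow_succ, h, hi', mul_add, mul_one, pow_add]
      group
  obtain ⟨q', hq', h3⟩ := hpow 3
  have h4 : F.ρ ^ (i * 3) = 1 := by
    rw [mul_comm, pow_mul]
    have : F.ρ ^ 3 = 1 := by
      have := pow_orderOf_eq_one F.ρ
      rwa [F.ρ_order] at this
    rw [this, one_pow]
  rw [h4, mul_one] at h3
  have hz2 : F.z * F.z = 1 := by
    have := pow_orderOf_eq_one F.z
    rwa [F.z_order, pow_two] at this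
  have h5 : q' ^ 4 = 1 := by
    have h6 : q' ^ 4 = (q' * q') * (q' * q') := by
      rw [show (4 : ℕ) = 1 + 1 + 1 + 1 by norm_num, pow_add, pow_add, pow_add, pow_one]; group
    rw [h6]
    rcases F.Q_sq q' hq' with h7 | h7
    · rw [h7, one_mul]
    · rw [h7, hz2]
  refine eq_one_of_pow h31 (m := 12) ?_ (by norm_num)
  rw [show (12 : ℕ) = 3 * 4 by norm_num, pow_mul, h3, h5]

theorem eq_one_of_comm_duad [Finite K] {p q : GolayPt} (hpq : p ≠ q) {y : K} (h31 : y ^ 31 = 1)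
    (hy : y * F.ε {p, q} = F.ε {p, q} * y) : y = 1 := by
  have h1 := DuadCent.duad_cent F hpq hy
  have h2 : F.π ⟨y, h1⟩ = 1 := not_dvd_M24 (by
    rw [← map_pow]
    have : (⟨y, h1⟩ : normalizer (F.E hex0 : Set K)) ^ 31 = 1 := Subtype.ext h31
    rw [this, map_one])
  have h3 : y ∈ EE F := (F.π_ker ⟨y, h1⟩).1 h2
  refine eq_one_of_pow h31 (m := 2) ?_ (by norm_num)
  rw [pow_two]
  exact (EE_el F).1 y h3

end Cfsg.Agent.H7.J4Weak
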