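import Cfsg.Agent.QTUniq.Local

/-!
# Characteristic `p` of normalizers, going up a subnormal chain of `p`-subgroups

`charP_normalizer_of_le`: if `V ≤ U` are `p`-subgroups and `N_G(V)` has characteristic `p`, then so has `N_G(U)`.
-/

set_option autoImplicit false

namespace Cfsg.Agent.H7.CharTwoUp

open Subgroup Cfsg Cfsg.Agent.Lib.Cores

variable {G : Type*} [Group G] [Finite G]

/-- `N_G(V)` has characteristic `p`. -/
def CharN (p : ℕ) (V : Subgroup G) : Prop :=
  centralizer (pCore p ↥(normalizer (V : Set G)) : Set ↥(normalizer (V : Set G))) ≤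
    pCore p ↥(normalizer (V : Set G))

theorem step {p : ℕ} [hp : Fact p.Prime] {V U : Subgroup G} (hVU : V ≤ U) (hU : IsPGroup p U)
    (hn : U ≤ normalizer (V : Set G)) (hV : CharN p V) : CharN p U := by
  set N : Subgroup G := normalizer (V : Set G) with hN
  refine Cfsg.Agent.SignalizersComponents.CharP.charP_normalizer (p := p)
    (R := (pCore p ↥N).map N.subtype) (X := N) (T := U) ((pCore_isPGroup p).map _) ?_ ?_ hU hn ?_
  · exact Cfsg.Agent.QTUniq.Local.le_normalizer_map_pCore p N
  · rintro x ⟨hxN, hx⟩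
    have h1 : (⟨x, hxN⟩ : ↥N) ∈ centralizer (pCore p ↥N : Set ↥N) := by
      rw [mem_centralizer_iff]
      rintro y hy
      apply Subtype.ext
      exact (mem_centralizer_iff.1 hx) _ ⟨y, hy, rfl⟩
    exact ⟨_, hV h1, rfl⟩
  · exact (centralizer_le (show (V : Set G) ⊆ U from hVU)).trans (centralizer_le_normalizer _)

/-- If `V ≤ U` are `p`-subgroups and `N_G(V)` has characteristic `p`, then so has `N_G(U)`. -/
theorem charP_normalizer_of_le {p : ℕ} [hp : Fact p.Prime] {V U : Subgroup G} (hVU : V ≤ U)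
    (hU : IsPGroup p U) (hV : CharN p V) : CharN p U := by
  classical
  have hfin : Set.Finite {W : Subgroup G | V ≤ W ∧ W ≤ U ∧ CharN p W} := Set.toFinite _
  obtain ⟨W, hW⟩ := hfin.exists_maximal ⟨V, le_rfl, hVU, hV⟩
  obtain ⟨hVW, hWU, hWc⟩ := hW.prop
  by_cases h : W = U
  · exact h ▸ hWc
  exfalso
  have hlt : W < U := lt_of_le_of_ne hWU h
  have hnil : Group.IsNilpotent ↥U := hU.isNilpotent
  have hlt' : W.subgroupOf U < ⊤ := by
    rw [lt_top_iff_ne_top, Ne, subgroupOf_eq_top]
    exact fun h1 => h (le_antisymm hWU h1)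
  have h1 := Group.normalizerCondition_of_isNilpotent (G := ↥U) (W.subgroupOf U) hlt'
  set W' : Subgroup G := (normalizer ((W.subgroupOf U : Subgroup ↥U) : Set ↥U)).map U.subtype with hW'
  have h2 : W < W' := by
    have h3 : (W.subgroupOf U).map U.subtype < W' := by
      rw [hW']
      exact (map_lt_map_iff_of_injective U.subtype_injective).2 h1
    rwa [map_subgroupOf_eq_of_le hWU] at h3
  have h4 : W' ≤ U := map_subtype_le _
  have h5 : W' ≤ normalizer (W : Set G) := by
    rintro _ ⟨x, hx, rfl⟩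
    rw [mem_normalizer_iff]
    intro y
    constructor
    · intro hy
      exact (mem_normalizer_iff.1 hx ⟨y, hWU hy⟩).1 hy
    · intro hy
      have h6 : y ∈ U := by
        have h7 : (x : G)⁻¹ * ((x : G) * y * (x : G)⁻¹) * (x : G) ∈ U :=
          U.mul_mem (U.mul_mem (U.inv_mem x.2) (hWU hy)) x.2
        have h8 : (x : G)⁻¹ * ((x : G) * y * (x : G)⁻¹) * (x : G) = y := by group
        rwa [h8] at h7
      exact (mem_normalizer_iff.1 hx ⟨y, h6⟩).2 hy
  have h6 : CharN p W' := step h2.le (hU.to_le h4) h5 hWc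
  exact h2.not_ge (hW.2 ⟨hVW.trans h2.le, h4, h6⟩ h2.le)

end Cfsg.Agent.H7.CharTwoUp
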