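import Cfsg.Prelude.Def_LieTypeChar
/-!
# `E₆(q)`, `²E₆(q)`: a faithful representation of degree `78` in the defining characteristic (helper7)
-/

set_option autoImplicit false

namespace Cfsg.Agent.H7.ESixRep

open Cfsg

/-- renumbering the rows and columns -/
noncomputable def reind {ι : Type*} [Fintype ι] [DecidableEq ι] {n : ℕ} (hn : Fintype.card ι = n) (F : Type*) [Field F] :
    Matrix.GeneralLinearGroup ι F ≃* Matrix.GeneralLinearGroup (Fin n) F :=
  Units.mapEquiv (Matrix.reindexAlgEquiv F F (Fintype.equivFinOfCardEq hn)).toMulEquiv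

theorem of_le {D : Lie.ChevalleyDatum} {F : Type} [Field F] {n : ℕ} (hn : D.rank + D.nroots = n)
    (S : Subgroup (Matrix.GeneralLinearGroup D.Idx F)) {X : Type*} [Group X] (e : X ≃* ↥S) :
    ∃ ρ : X →* Matrix.GeneralLinearGroup (Fin n) F, Function.Injective ρ := by
  have hc : Fintype.card D.Idx = n := by
    rw [Fintype.card_sum, Fintype.card_fin, Fintype.card_fin]
    exact hn
  refine ⟨(reind hc F).toMonoidHom.comp (S.subtype.comp e.toMonoidHom), ?_⟩
  exact (reind hc F).injective.comp (S.subtype_injective.comp e.injective)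

/-- **`E₆(F)` has a faithful representation of degree 78 over `F`.** -/
theorem chev {F : Type} [Field F] {X : Type*} [Group X] (e : X ≃* ↥(Lie.chevE6.group F)) :
    ∃ ρ : X →* Matrix.GeneralLinearGroup (Fin 78) F, Function.Injective ρ :=
  of_le (D := Lie.chevE6) (by decide) _ e

/-- **`²E₆(q)` has a faithful representation of degree 78 over `K`, `|K| = q²`.** -/
theorem twisted {K : Type} [Field K] [Fintype K] {q : ℕ} {X : Type*} [Group X] (e : X ≃* ↥(Lie.twistedE6 K q)) :
    ∃ ρ : X →* Matrix.GeneralLinearGroup (Fin 78) K, Function.Injective ρ :=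
  of_le (D := Lie.chevE6) (by decide) _ e

end Cfsg.Agent.H7.ESixRep
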