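import Cfsg.Agent.H7.J4Mod
import Cfsg.Agent.H7.Faithful

/-!
# Normal 2-subgroups of a Sylow 2-subgroup of `J4` (helper7)

`F` a frame of `K` (`J4`), `E = E hex0` of order `2^11`, `T ≤ N(E)` of order `2^21`.

* `card_cent_le`: `|C_E(n)| ≤ 2^7` for `n ∈ N(E)` inducing an involution of `M24`;
* `bound`: `U ≤ Z(R)`, `R ≤ T`, both normalized by `T`, `U` elementary abelian, `U ≰ E`: then `|R| ≤ 2^11`, and
  `|U| ≤ 2^8` or `|R| ≤ 2^9`.
-/

set_option autoImplicit false

namespace Cfsg.Agent.H7.J4Bound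

open Cfsg Subgroup Cfsg.Agent.J4Type Cfsg.Agent.H7.J4Mod
open Cfsg.Agent.H7.Faithful (exists_fixed_mod)
open scoped Pointwise

variable {K : Type*} [Group K]

/-- counting commutators -/
theorem mul_card_le [Finite K] (A : Subgroup K) (hA : IsElem2 A) {t : K} (ht : ∀ f ∈ A, t * f * t⁻¹ ∈ A)
    (s : Finset K) (hs : ∀ x ∈ s, ∃ f ∈ A, x = f * (t * f * t⁻¹)) :
    s.card * Nat.card ↥(A ⊓ centralizer ({t} : Set K)) ≤ Nat.card ↥A := by
  let φ : A →* K :=
    { toFun := fun f => f * (t * f * t⁻¹)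
      map_one' := by simp
      map_mul' := by
        intro a b
        push_cast
        have h1 := hA.2 _ (ht a a.2) b b.2
        calc (a : K) * b * (t * (a * b) * t⁻¹) = a * b * (t * a * t⁻¹) * (t * b * t⁻¹) := by group
          _ = a * (t * a * t⁻¹) * (b * (t * b * t⁻¹)) := by
            rw [mul_assoc (a : K) b, ← h1]; group }
  have hφ : ∀ f : A, φ f = f * (t * f * t⁻¹) := fun f => rfl
  have hker : Nat.card ↥(A ⊓ centralizer ({t} : Set K)) ≤ Nat.card φ.ker := by
    apply Nat.card_le_card_of_injective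
      (fun f : ↥(A ⊓ centralizer ({t} : Set K)) => (⟨⟨(f : K), f.2.1⟩, by
        rw [MonoidHom.mem_ker, hφ]
        have h1 := mem_centralizer_singleton_iff.1 f.2.2
        have h2 : t * (f : K) * t⁻¹ = f := by rw [← h1, mul_inv_cancel_right]
        show (f : K) * (t * (f : K) * t⁻¹) = 1
        rw [h2]
        exact hA.1 _ f.2.1⟩ : φ.ker))
    intro a b h
    exact Subtype.ext (congrArg (fun x : φ.ker => ((x : A) : K)) h)
  have hr : s.card ≤ Nat.card φ.range := by
    have h1 : (s : Set K) ⊆ (φ.range : Set K) := by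
      intro x hx
      obtain ⟨f, hf, rfl⟩ := hs x hx
      exact ⟨⟨f, hf⟩, rfl⟩
    have h2 := Set.ncard_le_ncard h1 (Set.toFinite _)
    rw [Set.ncard_coe_finset] at h2
    exact h2
  rw [← Subgroup.card_mul_index φ.ker, Subgroup.index_ker, mul_comm (Nat.card φ.ker)]
  exact Nat.mul_le_mul hr hker

variable (F : Frame K)

/-- the group `E` -/
abbrev EE : Subgroup K := F.E hex0

theorem EE_el : IsElem2 (EE F) := F.E_elem hex0 FusionConj.isHex_hex0

theorem EE_card : Nat.card ↥(EE F) = 2 ^ 11 := F.E_card hex0 FusionConj.isHex_hex0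

/-- the permutation induced by an element of `N(E)` -/
abbrev pp (n : normalizer (EE F : Set K)) : Equiv.Perm GolayPt := (F.π n : Equiv.Perm GolayPt)

theorem conj_ε (n : normalizer (EE F : Set K)) (x y : GolayPt) :
    (n : K) * F.ε (symmDiff {x} {y}) * (n : K)⁻¹ = F.ε (symmDiff {pp F n x} {pp F n y}) := by
  rw [F.π_smul n _ (CloseInst.even_pair x y), Finset.smul_finset_symmDiff, Finset.smul_finset_singleton,
    Finset.smul_finset_singleton]
  rfl

theorem even_symmDiff {S T : Finset GolayPt} (hS : Even S.card) (hT : Even T.card) : Even (symmDiff S T).card := by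
  rw [Nat.even_iff, DuadStab.card_symmDiff_parity]
  rw [Nat.even_iff] at hS hT
  omega

theorem comm_ε (n : normalizer (EE F : Set K)) (x y : GolayPt) :
    F.ε (symmDiff {x} {y}) * ((n : K) * F.ε (symmDiff {x} {y}) * (n : K)⁻¹) =
      F.ε (symmDiff (S (pp F n) x) (S (pp F n) y)) := by
  rw [conj_ε, ← F.ε_mul _ _ (CloseInst.even_pair _ _) (CloseInst.even_pair _ _)]
  congr 1
  unfold S
  exact symmDiff_symmDiff_symmDiff_comm _ _ _ _

theorem ε_S_inj {a : Equiv.Perm GolayPt} {x x' y : GolayPt}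
    (h : F.ε (symmDiff (S a x) (S a y)) = F.ε (symmDiff (S a x') (S a y))) : S a x = S a x' := by
  have h1 : symmDiff (symmDiff (S a x) (S a y)) (symmDiff (S a x') (S a y)) = symmDiff (S a x) (S a x') := by
    rw [symmDiff_comm (S a x') (S a y), symmDiff_assoc, ← symmDiff_assoc (S a y) (S a y), symmDiff_self,
      bot_symmDiff]
  have h2 := DuadUniq.ε_inj F (even_symmDiff (S_even a x) (S_even a y)) (even_symmDiff (S_even a x') (S_even a y))
    (by
      rw [h1]
      have h3 := Finset.card_le_card (Finset.symmDiff_subset_union (s := S a x) (t := S a x'))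
      have h4 := Finset.card_union_le (S a x) (S a x')
      have h5 := S_card_le a x
      have h6 := S_card_le a x'
      omega) h
  have h3 := congrArg (fun Z => symmDiff Z (S a y)) h2
  simpa [symmDiff_assoc] using h3

/-- the values of the commutator map -/
theorem card_values [DecidableEq K] (a : Equiv.Perm GolayPt) (y : GolayPt) (s : Finset GolayPt) :
    (s.image fun x => F.ε (symmDiff (S a x) (S a y))).card = (s.image (S a)).card := by
  have h1 : (s.image fun x => F.ε (symmDiff (S a x) (S a y))) =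
      (s.image (S a)).image fun Z => F.ε (symmDiff Z (S a y)) := by
    rw [Finset.image_image]; rfl
  rw [h1]
  apply Finset.card_image_of_injOn
  intro Z hZ Z' hZ' h
  obtain ⟨x, -, rfl⟩ := Finset.mem_image.1 (Finset.mem_coe.1 hZ)
  obtain ⟨x', -, rfl⟩ := Finset.mem_image.1 (Finset.mem_coe.1 hZ')
  exact ε_S_inj F h

theorem conj_mem_EE (n : normalizer (EE F : Set K)) {f : K} (hf : f ∈ EE F) : (n : K) * f * (n : K)⁻¹ ∈ EE F :=
  (mem_normalizer_iff.1 n.2 f).1 hf

theorem pow_of_dvd {m k : ℕ} (h : m ∣ 2 ^ k) {b : ℕ} (hlt : m < 2 ^ (b + 1)) : m ≤ 2 ^ b := by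
  obtain ⟨i, hi, rfl⟩ := (Nat.dvd_prime_pow Nat.prime_two).1 h
  have h1 : i < b + 1 := (Nat.pow_lt_pow_iff_right (by norm_num)).1 hlt
  exact Nat.pow_le_pow_right (by norm_num) (by omega)

/-- **`|C_E(n)| ≤ 2^7`** -/
theorem card_cent_le [Finite K] (n : normalizer (EE F : Set K)) (h2 : pp F n * pp F n = 1) (h1 : pp F n ≠ 1) :
    Nat.card ↥(EE F ⊓ centralizer ({(n : K)} : Set K)) ≤ 2 ^ 7 := by
  classical
  have hc := mul_card_le (EE F) (EE_el F) (t := (n : K)) (fun f hf => conj_mem_EE F n hf)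
    (Finset.univ.image fun x => F.ε (symmDiff (S (pp F n) x) (S (pp F n) none))) (by
      intro x hx
      obtain ⟨y, -, rfl⟩ := Finset.mem_image.1 hx
      exact ⟨F.ε (symmDiff {y} {none}), F.ε_mem _ (CloseInst.even_pair _ _), (comm_ε F n y none).symm⟩)
  rw [card_values, EE_card] at hc
  have h9 := nine_le (F.π n).2 h2 h1
  have hd : Nat.card ↥(EE F ⊓ centralizer ({(n : K)} : Set K)) ∣ 2 ^ 11 := by
    rw [← EE_card F]
    exact Subgroup.card_dvd_of_le inf_le_left
  refine pow_of_dvd hd ?_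
  have h3 := (Nat.mul_le_mul_right (Nat.card ↥(EE F ⊓ centralizer ({(n : K)} : Set K))) h9).trans hc
  omega

/-- two commuting elements -/
theorem card_cent_two_le [Finite K] (n m : normalizer (EE F : Set K)) (h2 : pp F n * pp F n = 1) (h1 : pp F n ≠ 1)
    {p₀ : GolayPt} (hp₀ : pp F n p₀ = p₀) (hmn : (m : K) * n = n * m) (hfree : ∀ p, pp F n p = p → pp F m p ≠ p) :
    Nat.card ↥(EE F ⊓ centralizer ({(n : K)} : Set K) ⊓ centralizer ({(m : K)} : Set K)) ≤ 2 ^ 5 := by
  classical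
  set A : Subgroup K := EE F ⊓ centralizer ({(n : K)} : Set K) with hA
  have hAel : IsElem2 A := ⟨fun a ha => (EE_el F).1 a ha.1, fun a ha b hb => (EE_el F).2 a ha.1 b hb.1⟩
  set s : Finset GolayPt := Finset.univ.filter fun p => pp F n p = p with hs
  have hc := mul_card_le A hAel (t := (m : K)) (fun f hf => by
      refine ⟨conj_mem_EE F m hf.1, ?_⟩
      have h3 := mem_centralizer_singleton_iff.1 hf.2
      refine mem_centralizer_singleton_iff.2 ?_
      have h4 : (m : K)⁻¹ * n = n * (m : K)⁻¹ := by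
        rw [inv_mul_eq_iff_eq_mul, ← mul_assoc, hmn, mul_inv_cancel_right]
      calc (m : K) * f * (m : K)⁻¹ * n = (m : K) * f * ((m : K)⁻¹ * n) := by group
        _ = (m : K) * (f * n) * (m : K)⁻¹ := by rw [h4]; group
        _ = (m : K) * n * f * (m : K)⁻¹ := by rw [h3]; group
        _ = n * ((m : K) * f * (m : K)⁻¹) := by rw [hmn]; group)
    (s.image fun x => F.ε (symmDiff (S (pp F m) x) (S (pp F m) p₀))) (by
      intro x hx
      obtain ⟨y, hy, rfl⟩ := Finset.mem_image.1 hx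
      have hy' : pp F n y = y := (Finset.mem_filter.1 hy).2
      refine ⟨F.ε (symmDiff {y} {p₀}), ⟨F.ε_mem _ (CloseInst.even_pair _ _), ?_⟩, (comm_ε F m y p₀).symm⟩
      refine mem_centralizer_singleton_iff.2 ?_
      have h3 := conj_ε F n y p₀
      rw [hy', hp₀] at h3
      exact (mul_inv_eq_iff_eq_mul.1 h3).symm)
  rw [card_values] at hc
  have h4 := card_le_image (a := pp F m) (s := s) (fun x hx => hfree x (Finset.mem_filter.1 hx).2)
  have h5 : s.card = 8 := FusionM22.card_fix (F.π n).2 h2 h1 hp₀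
  have h6 := card_cent_le F n h2 h1
  have hd : Nat.card ↥(A ⊓ centralizer ({(m : K)} : Set K)) ∣ 2 ^ 11 := by
    rw [← EE_card F]
    exact Subgroup.card_dvd_of_le (inf_le_left.trans inf_le_left)
  refine pow_of_dvd hd ?_
  have h7 : 4 ≤ (s.image (S (pp F m))).card := by omega
  have h8 := (Nat.mul_le_mul_right (Nat.card ↥(A ⊓ centralizer ({(m : K)} : Set K))) h7).trans hc
  have h9 : Nat.card ↥A ≤ 2 ^ 7 := h6
  have h10 : 4 * Nat.card ↥(A ⊓ centralizer ({(m : K)} : Set K)) ≤ 2 ^ 7 := h8.trans h9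
  omega

/-! ### images in `M24` -/

/-- the image of `X ≤ N(E)` in `M24` -/
def bar (X : Subgroup K) : Subgroup M24 := (X.subgroupOf (normalizer (EE F : Set K))).map F.π

theorem mem_bar {X : Subgroup K} (n : normalizer (EE F : Set K)) (h : (n : K) ∈ X) : F.π n ∈ bar F X :=
  ⟨n, h, rfl⟩

theorem card_bar [Finite K] {X : Subgroup K} (hX : X ≤ normalizer (EE F : Set K)) :
    Nat.card ↥X = Nat.card ↥(X ⊓ EE F) * Nat.card ↥(bar F X) := by
  set f : ↥(X.subgroupOf (normalizer (EE F : Set K))) →* M24 :=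
    F.π.comp (X.subgroupOf (normalizer (EE F : Set K))).subtype with hf
  have h1 : f.range = bar F X := by
    rw [hf, MonoidHom.range_comp, range_subtype]; rfl
  have h2 : Nat.card ↥X = Nat.card ↥(X.subgroupOf (normalizer (EE F : Set K))) :=
    (Nat.card_congr (Subgroup.subgroupOfEquivOfLe hX).toEquiv).symm
  have h3 : Nat.card ↥(X ⊓ EE F) = Nat.card f.ker := by
    exact Nat.card_congr
      { toFun := fun x => ⟨⟨⟨x, hX x.2.1⟩, x.2.1⟩, MonoidHom.mem_ker.2 ((F.π_ker _).2 x.2.2)⟩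
        invFun := fun y => ⟨((y.1.1 : normalizer (EE F : Set K)) : K), y.1.2,
          (F.π_ker _).1 (MonoidHom.mem_ker.1 y.2)⟩
        left_inv := fun x => rfl
        right_inv := fun y => rfl }
  rw [h2, h3, ← h1, ← Subgroup.card_mul_index f.ker, Subgroup.index_ker]

theorem π_comm {x y : K} (hx : x ∈ normalizer (EE F : Set K)) (hy : y ∈ normalizer (EE F : Set K))
    (h : x * y * x⁻¹ * y⁻¹ ∈ EE F) : F.π ⟨x, hx⟩ * F.π ⟨y, hy⟩ = F.π ⟨y, hy⟩ * F.π ⟨x, hx⟩ := by
  have h1 : F.π (⟨x, hx⟩ * ⟨y, hy⟩ * ⟨x, hx⟩⁻¹ * ⟨y, hy⟩⁻¹) = 1 := (F.π_ker _).2 h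
  rw [map_mul, map_mul, map_mul, map_inv, map_inv, mul_inv_eq_one, mul_inv_eq_iff_eq_mul] at h1
  exact h1

/-- **The bound** -/
theorem bound [Finite K] {T R U : Subgroup K} (hTN : T ≤ normalizer (EE F : Set K)) (hTc : Nat.card ↥T = 2 ^ 21)
    (hET : EE F ≤ T) (hRT : R ≤ T) (hTR : T ≤ normalizer (R : Set K)) (hUR : U ≤ R)
    (hTU : T ≤ normalizer (U : Set K)) (hUel : IsElem2 U) (hRU : ∀ r ∈ R, ∀ u ∈ U, r * u = u * r)
    (hne : ¬ U ≤ EE F) : Nat.card ↥R ≤ 2 ^ 11 ∧ (Nat.card ↥U ≤ 2 ^ 8 ∨ Nat.card ↥R ≤ 2 ^ 9) := by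
  classical
  have hf2 : Fact (Nat.Prime 2) := ⟨Nat.prime_two⟩
  have hT2 : IsPGroup 2 ↥T := IsPGroup.of_card hTc
  obtain ⟨N, hNU, -, hNE, hNT⟩ := exists_fixed_mod (C := EE F) hT2 (hUR.trans hRT) hTU hne
  obtain ⟨u, huN, huE⟩ := SetLike.not_le_iff_exists.1 hNE
  have huU : u ∈ U := hNU huN
  have huR : u ∈ R := hUR huU
  have huT : u ∈ T := hRT huR
  set n : normalizer (EE F : Set K) := ⟨u, hTN huT⟩ with hn
  set a : Equiv.Perm GolayPt := pp F n with ha'
  have haM : a ∈ M24 := (F.π n).2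
  have ha : a * a = 1 := by
    have h1 : F.π n * F.π n = 1 := by
      rw [← map_mul, F.π_ker]
      show u * u ∈ F.E hex0
      rw [hUel.1 u huU]
      exact one_mem _
    exact congrArg Subtype.val h1
  have ha1 : a ≠ 1 := by
    intro h
    exact huE ((F.π_ker n).1 (Subtype.ext h))
  have hTa : ∀ (t : K) (ht : t ∈ T), F.π ⟨t, hTN ht⟩ * F.π n = F.π n * F.π ⟨t, hTN ht⟩ := by
    intro t ht
    apply Eq.symm
    apply π_comm
    apply hNT
    exact commutator_mem_commutator huN ht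
  -- the image of `T`
  have hTbar : Nat.card ↥(bar F T) = 2 ^ 10 := by
    have h1 := card_bar F hTN
    rw [inf_eq_right.2 hET, EE_card, hTc] at h1
    have h2 : (2 : ℕ) ^ 21 = 2 ^ 11 * 2 ^ 10 := by norm_num
    rw [h2] at h1
    exact (Nat.eq_of_mul_eq_mul_left (by norm_num) h1).symm
  obtain ⟨p₀, hp₀⟩ := fixed_of_central haM ha ha1 (bar F T) hTbar (by
    rintro _ ⟨t, ht, rfl⟩
    exact hTa t ht)
  -- elements of `R`
  have hRa : ∀ (r : K) (hr : r ∈ R), pp F ⟨r, hTN (hRT hr)⟩ * a = a * pp F ⟨r, hTN (hRT hr)⟩ := fun r hr =>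
    congrArg Subtype.val (hTa r (hRT hr))
  have hRS : ∀ (r : K) (hr : r ∈ R) (x : GolayPt), S a (pp F ⟨r, hTN (hRT hr)⟩ x) = S a x := by
    intro r hr x
    set ρ : normalizer (EE F : Set K) := ⟨r, hTN (hRT hr)⟩ with hρ
    have hg := hRa r hr
    -- `r` centralizes the commutator
    have h1 : r * F.ε (symmDiff (S a x) (S a p₀)) * r⁻¹ = F.ε (symmDiff (S a x) (S a p₀)) := by
      have h2 := comm_ε F n x p₀
      rw [← h2]
      set e : K := F.ε (symmDiff {x} {p₀}) with he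
      have heE : e ∈ EE F := F.ε_mem _ (CloseInst.even_pair _ _)
      show r * (e * (u * e * u⁻¹)) * r⁻¹ = e * (u * e * u⁻¹)
      have hfE : r * e * r⁻¹ * e⁻¹ ∈ EE F := mul_mem (conj_mem_EE F ρ heE) (inv_mem heE)
      have hfR : r * e * r⁻¹ * e⁻¹ ∈ R := by
        have h3 := (mem_normalizer_iff.1 (hTR (hET heE)) r⁻¹).1 (inv_mem hr)
        have e1 : r * e * r⁻¹ * e⁻¹ = r * (e * r⁻¹ * e⁻¹) := by group
        rw [e1]
        exact mul_mem hr h3
      set f : K := r * e * r⁻¹ * e⁻¹ with hf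
      have h3 : r * e * r⁻¹ = f * e := by rw [hf, inv_mul_cancel_right]
      have h4 : r * u = u * r := hRU r hr u huU
      have h5 : f * u = u * f := hRU f hfR u huU
      have h6 : r⁻¹ * u = u * r⁻¹ := by
        rw [inv_mul_eq_iff_eq_mul, ← mul_assoc, h4, mul_inv_cancel_right]
      have h7 : u⁻¹ * r⁻¹ = r⁻¹ * u⁻¹ := by
        have := congrArg (fun z => z⁻¹) h4
        simpa [mul_inv_rev] using this
      have hee : u * e * u⁻¹ ∈ EE F := conj_mem_EE F n heE
      calc r * (e * (u * e * u⁻¹)) * r⁻¹ = (r * e * r⁻¹) * ((r * u) * e * (u⁻¹ * r⁻¹)) := by group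
        _ = (r * e * r⁻¹) * (u * (r * e * r⁻¹) * u⁻¹) := by rw [h4, h7]; group
        _ = f * e * ((u * f) * e * u⁻¹) := by rw [h3]; group
        _ = f * e * f * (u * e * u⁻¹) := by rw [← h5]; group
        _ = e * f * f * (u * e * u⁻¹) := by rw [(EE_el F).2 f hfE e heE]
        _ = e * (f * f) * (u * e * u⁻¹) := by group
        _ = e * (u * e * u⁻¹) := by rw [(EE_el F).1 f hfE, mul_one]
    have h2 : r * F.ε (symmDiff (S a x) (S a p₀)) * r⁻¹ =
        F.ε (symmDiff (S a (pp F ρ x)) (S a (pp F ρ p₀))) := by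
      have h3 := F.π_smul ρ _ (even_symmDiff (S_even a x) (S_even a p₀))
      rw [Finset.smul_finset_symmDiff] at h3
      have h4 : (F.π ρ : Equiv.Perm GolayPt) • S a x = S a (pp F ρ x) := smul_S hg x
      have h5 : (F.π ρ : Equiv.Perm GolayPt) • S a p₀ = S a (pp F ρ p₀) := smul_S hg p₀
      rw [h4, h5] at h3
      exact h3
    have h3 : S a (pp F ρ p₀) = S a p₀ := by
      rw [S_eq_empty.2 hp₀, S_eq_empty, ← Equiv.Perm.mul_apply, ← hg, Equiv.Perm.mul_apply, hp₀]
    rw [h2, h3] at h1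
    exact ε_S_inj F h1
  have hRN : R ≤ normalizer (EE F : Set K) := hRT.trans hTN
  -- the image of `R`
  have hRbar : Nat.card ↥(bar F R) ≤ 16 := by
    have h1 : Nat.card ↥(bar F R) = Nat.card ↥((bar F R).map M24.subtype) :=
      (Subgroup.card_map_of_injective M24.subtype_injective).symm
    rw [h1]
    refine card_le haM ha ha1 hp₀ ((bar F R).map M24.subtype) (map_subtype_le _) ?_ ?_ ?_
    · have h2 : IsPGroup 2 ↥R := hT2.to_le hRT
      exact ((h2.comap_of_injective (normalizer (EE F : Set K)).subtype (subtype_injective _)).map F.π).map M24.subtype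
    · rintro _ ⟨_, ⟨r, hr, rfl⟩, rfl⟩
      exact hRa r hr
    · rintro _ ⟨_, ⟨r, hr, rfl⟩, rfl⟩ x
      exact hRS r hr x
  have hRE1 : R ⊓ EE F ≤ EE F ⊓ centralizer ({(n : K)} : Set K) := by
    rintro x ⟨hx1, hx2⟩
    exact ⟨hx2, mem_centralizer_singleton_iff.2 (hRU x hx1 u huU)⟩
  have hREc : Nat.card ↥(R ⊓ EE F) ≤ 2 ^ 7 :=
    (Subgroup.card_le_of_le hRE1).trans (card_cent_le F n ha ha1)
  have hRc := card_bar F hRN
  refine ⟨?_, ?_⟩
  · rw [hRc]
    calc _ ≤ 2 ^ 7 * 16 := Nat.mul_le_mul hREc hRbar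
      _ = 2 ^ 11 := by norm_num
  by_cases hcase : ∀ v (hv : v ∈ U), pp F ⟨v, hTN (hRT (hUR hv))⟩ = 1 ∨ pp F ⟨v, hTN (hRT (hUR hv))⟩ = a
  · left
    have hUc := card_bar F (hUR.trans hRN)
    have h1 : Nat.card ↥(bar F U) ≤ 2 := by
      have h2 : (bar F U : Set M24) ⊆ (({1, F.π n} : Finset M24) : Set M24) := by
        rintro _ ⟨v, hv, rfl⟩
        rw [Finset.coe_insert, Finset.coe_singleton]
        rcases hcase v hv with h | h
        · exact Or.inl (Subtype.ext h)
        · exact Or.inr (Subtype.ext h)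
      have h3 := Set.ncard_le_ncard h2 (Finset.finite_toSet _)
      rw [Set.ncard_coe_finset] at h3
      exact h3.trans Finset.card_le_two
    have h2 : Nat.card ↥(U ⊓ EE F) ≤ 2 ^ 7 :=
      (Subgroup.card_le_of_le (inf_le_inf_right _ hUR)).trans hREc
    rw [hUc]
    calc _ ≤ 2 ^ 7 * 2 := Nat.mul_le_mul h2 h1
      _ = 2 ^ 8 := by norm_num
  · right
    push Not at hcase
    obtain ⟨v, hv, hv1, hva⟩ := hcase
    set m : normalizer (EE F : Set K) := ⟨v, hTN (hRT (hUR hv))⟩ with hm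
    have hb : pp F m * pp F m = 1 := by
      have h1 : F.π m * F.π m = 1 := by
        rw [← map_mul, F.π_ker]
        show v * v ∈ F.E hex0
        rw [hUel.1 v hv]
        exact one_mem _
      exact congrArg Subtype.val h1
    have hfree : ∀ p, pp F n p = p → pp F m p ≠ p := by
      intro p hp hmp
      rcases eq_of_fix haM ha ha1 hp (F.π m).2 (k := 1) (by rw [pow_one, pow_two]; exact hb) (hRa v (hUR hv))
        (hRS v (hUR hv)) hmp with h | h
      · exact hv1 h
      · exact hva h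
    have h1 := card_cent_two_le F n m ha ha1 hp₀ (hUel.2 v hv u huU) hfree
    have h2 : R ⊓ EE F ≤ EE F ⊓ centralizer ({(n : K)} : Set K) ⊓ centralizer ({(m : K)} : Set K) := by
      intro x hx
      exact ⟨hRE1 hx, mem_centralizer_singleton_iff.2 (hRU x hx.1 v hv)⟩
    have h3 := (Subgroup.card_le_of_le h2).trans h1
    rw [hRc]
    calc _ ≤ 2 ^ 5 * 16 := Nat.mul_le_mul h3 hRbar
      _ = 2 ^ 9 := by norm_num

end Cfsg.Agent.H7.J4Bound
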