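import Cfsg.Agent.J4Type.DuadCent
import Cfsg.Agent.KFacts.M24Two.Orders

/-!
# The even cocode as a module for 2-subgroups of `M24` (helper7)

`S a x = {x} + {a x}`.

* `nine_le`: for an involution `a` of `M24` the sets `S a x` take at least 9 values;
* `card_le`: a 2-subgroup `B` of `C(a)` with `S a (g x) = S a x` for all `g ∈ B`, `a` an involution with a fixed point,
  has order at most 16, and its elements other than `1`, `a` fix no fixed point of `a`;
* `fixed_of_central`: an involution of `M24` centralized by a subgroup of order `2^10` has a fixed point.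
-/

set_option autoImplicit false

namespace Cfsg.Agent.H7.J4Mod

open Cfsg Subgroup Cfsg.Agent.J4Type Cfsg.Agent.J4Type.FusionM22
open scoped Pointwise

theorem eq_one_of_nine : ∀ (k : ℕ) {g : Equiv.Perm GolayPt}, g ∈ M24 → g ^ 2 ^ k = 1 →
    9 ≤ (Finset.univ.filter fun p : GolayPt => g p = p).card → g = 1
  | 0, g, _, hk, _ => by simpa using hk
  | k + 1, g, hM, hk, h9 => by
    have h1 : g * g = 1 := by
      refine eq_one_of_nine k (mul_mem hM hM) ?_ (h9.trans (Finset.card_le_card fun p hp => ?_))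
      · rw [← pow_two, ← pow_mul, ← pow_succ']; exact hk
      · rw [Finset.mem_filter] at hp ⊢
        refine ⟨hp.1, ?_⟩
        rw [Equiv.Perm.mul_apply, hp.2, hp.2]
    by_contra hne
    have := DuadM24.card_fix_le hM h1 hne
    omega

/-! ### the sets `{x} + {a x}` -/

/-- `{x} + {a x}` -/
def S (a : Equiv.Perm GolayPt) (x : GolayPt) : Finset GolayPt := symmDiff {x} {a x}

theorem S_even (a : Equiv.Perm GolayPt) (x : GolayPt) : Even (S a x).card := CloseInst.even_pair _ _

theorem S_eq_empty {a : Equiv.Perm GolayPt} {x : GolayPt} : S a x = ∅ ↔ a x = x := by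
  unfold S
  constructor
  · intro h
    have h1 : ({x} : Finset GolayPt) = {a x} := symmDiff_eq_bot.1 h
    exact (Finset.singleton_injective h1).symm
  · intro h
    rw [h]
    exact symmDiff_self _

theorem mem_S {a : Equiv.Perm GolayPt} {x y : GolayPt} : y ∈ S a x ↔ (y = x ∧ y ≠ a x) ∨ (y = a x ∧ y ≠ x) := by
  unfold S
  rw [Finset.mem_symmDiff, Finset.mem_singleton, Finset.mem_singleton]

theorem self_mem_S {a : Equiv.Perm GolayPt} {x : GolayPt} (h : a x ≠ x) : x ∈ S a x :=
  mem_S.2 (Or.inl ⟨rfl, h.symm⟩)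

theorem S_card_le (a : Equiv.Perm GolayPt) (x : GolayPt) : (S a x).card ≤ 2 := by
  have h1 : S a x ⊆ {x} ∪ {a x} := Finset.symmDiff_subset_union
  refine (Finset.card_le_card h1).trans ((Finset.card_union_le _ _).trans ?_)
  simp

theorem eq_or_of_S_eq {a : Equiv.Perm GolayPt} {x y : GolayPt} (hx : a x ≠ x) (h : S a y = S a x) :
    y = x ∨ y = a x := by
  have hy : a y ≠ y := by
    intro h1
    rw [S_eq_empty.2 h1] at h
    exact hx (S_eq_empty.1 h.symm)
  have h1 := self_mem_S hy
  rw [h, mem_S] at h1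
  rcases h1 with h1 | h1
  · exact Or.inl h1.1
  · exact Or.inr h1.1

theorem smul_S {a g : Equiv.Perm GolayPt} (h : g * a = a * g) (x : GolayPt) : g • S a x = S a (g x) := by
  unfold S
  rw [Finset.smul_finset_symmDiff, Finset.smul_finset_singleton, Finset.smul_finset_singleton]
  congr 2
  show g (a x) = a (g x)
  rw [← Equiv.Perm.mul_apply, h]; rfl

theorem card_le_image {a : Equiv.Perm GolayPt} {s : Finset GolayPt} (hs : ∀ x ∈ s, a x ≠ x) :
    s.card ≤ 2 * (s.image (S a)).card := by
  refine Finset.card_le_mul_card_image s 2 ?_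
  intro t ht
  obtain ⟨x, hx, rfl⟩ := Finset.mem_image.1 ht
  have h1 : (s.filter fun y => S a y = S a x) ⊆ {x, a x} := by
    intro y hy
    rw [Finset.mem_filter] at hy
    rw [Finset.mem_insert, Finset.mem_singleton]
    exact eq_or_of_S_eq (hs x hx) hy.2
  exact (Finset.card_le_card h1).trans Finset.card_le_two

/-- at least nine values -/
theorem nine_le {a : Equiv.Perm GolayPt} (hM : a ∈ M24) (ha : a * a = 1) (h1 : a ≠ 1) :
    9 ≤ (Finset.univ.image (S a)).card := by
  have hfix := DuadM24.card_fix_le hM ha h1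
  have hsum := Finset.card_filter_add_card_filter_not (s := (Finset.univ : Finset GolayPt)) (fun p => a p = p)
  have h24 : (Finset.univ : Finset GolayPt).card = 24 := by decide +kernel
  rw [h24] at hsum
  set s : Finset GolayPt := Finset.univ.filter fun p : GolayPt => ¬ a p = p with hs
  have h2 := card_le_image (a := a) (s := s) (fun x hx => (Finset.mem_filter.1 hx).2)
  by_cases hex : ∃ p, a p = p
  · obtain ⟨p, hp⟩ := hex
    have h3 : insert ∅ (s.image (S a)) ⊆ Finset.univ.image (S a) := by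
      rw [Finset.insert_subset_iff]
      exact ⟨Finset.mem_image.2 ⟨p, Finset.mem_univ _, S_eq_empty.2 hp⟩,
        Finset.image_subset_image (Finset.subset_univ _)⟩
    have h4 : (∅ : Finset GolayPt) ∉ s.image (S a) := by
      intro h
      obtain ⟨x, hx, hx2⟩ := Finset.mem_image.1 h
      exact (Finset.mem_filter.1 hx).2 (S_eq_empty.1 hx2)
    have h5 := Finset.card_le_card h3
    rw [Finset.card_insert_of_notMem h4] at h5
    omega
  · push Not at hex
    have h3 : (Finset.univ.filter fun p : GolayPt => a p = p) = ∅ := Finset.filter_false_of_mem fun p _ => hex p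
    have h4 := Finset.card_le_card (Finset.image_subset_image (f := S a) (Finset.subset_univ s))
    rw [h3, Finset.card_empty] at hsum
    omega

/-! ### the subgroup fixing the pairs -/

section Pairs

variable {a : Equiv.Perm GolayPt} (hM : a ∈ M24) (ha : a * a = 1) (h1 : a ≠ 1)

include hM ha h1

/-- an element of `B` fixing a fixed point of `a` is `1` or `a` -/
theorem eq_of_fix {p₀ : GolayPt} (hp₀ : a p₀ = p₀) {g : Equiv.Perm GolayPt} (hg : g ∈ M24) {k : ℕ}
    (hk : g ^ 2 ^ k = 1) (hga : g * a = a * g) (hS : ∀ x, S a (g x) = S a x) (hgp : g p₀ = p₀) :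
    g = 1 ∨ g = a := by
  have haa : ∀ x, a (a x) = x := fun x => by rw [← Equiv.Perm.mul_apply, ha]; rfl
  have hfixa := card_fix hM ha h1 hp₀
  have h24 : (Finset.univ : Finset GolayPt).card = 24 := by decide +kernel
  have hsum := Finset.card_filter_add_card_filter_not (s := (Finset.univ : Finset GolayPt)) (fun p => a p = p)
  rw [h24, hfixa] at hsum
  -- on moved points
  have hmv : ∀ x, a x ≠ x → g x = x ∨ g x = a x := fun x hx => eq_or_of_S_eq hx (hS x)
  have hgg : g * g = 1 := by
    refine eq_one_of_nine k (mul_mem hg hg) ?_ ?_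
    · rw [← pow_two, ← pow_mul, mul_comm, pow_mul, hk, one_pow]
    · have h2 : (Finset.univ.filter fun p : GolayPt => ¬ a p = p) ⊆
          Finset.univ.filter fun p : GolayPt => (g * g) p = p := by
        intro x hx
        rw [Finset.mem_filter] at hx ⊢
        refine ⟨hx.1, ?_⟩
        rw [Equiv.Perm.mul_apply]
        rcases hmv x hx.2 with h | h
        · rw [h, h]
        · have h3 : g (a x) = a (g x) := by
            rw [← Equiv.Perm.mul_apply, hga]; rfl
          rw [h, h3, h, haa]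
      have h3 := Finset.card_le_card h2
      omega
  by_cases hg1 : g = 1
  · exact Or.inl hg1
  right
  by_contra hne
  have hag1 : a * g ≠ 1 := by
    intro h
    apply hne
    have h2 : g = a⁻¹ := (inv_eq_of_mul_eq_one_right h).symm
    have h3 : a⁻¹ = a := inv_eq_of_mul_eq_one_left ha
    rw [h2, h3]
  have hag : (a * g) * (a * g) = 1 := by
    calc (a * g) * (a * g) = a * (g * a) * g := by group
      _ = a * (a * g) * g := by rw [hga]
      _ = (a * a) * (g * g) := by group
      _ = 1 := by rw [ha, hgg, one_mul]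
  have hf1 := card_fix hg hgg hg1 hgp
  have hf2 := card_fix (mul_mem hM hg) hag hag1 (p₀ := p₀) (by rw [Equiv.Perm.mul_apply, hgp, hp₀])
  have hcov : insert p₀ (Finset.univ.filter fun p : GolayPt => ¬ a p = p) ⊆
      (Finset.univ.filter fun p : GolayPt => g p = p) ∪ ((Finset.univ.filter fun p : GolayPt => (a * g) p = p).erase p₀) := by
    intro x hx
    rw [Finset.mem_insert, Finset.mem_filter] at hx
    rw [Finset.mem_union, Finset.mem_filter, Finset.mem_erase, Finset.mem_filter]
    rcases hx with rfl | hx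
    · exact Or.inl ⟨Finset.mem_univ _, hgp⟩
    · rcases hmv x hx.2 with h | h
      · exact Or.inl ⟨Finset.mem_univ _, h⟩
      · refine Or.inr ⟨?_, Finset.mem_univ _, ?_⟩
        · rintro rfl
          exact hx.2 hp₀
        · rw [Equiv.Perm.mul_apply, h, haa]
  have hc := Finset.card_le_card hcov
  have h2 : p₀ ∉ (Finset.univ.filter fun p : GolayPt => ¬ a p = p) := by
    rw [Finset.mem_filter]
    exact fun h => h.2 hp₀
  rw [Finset.card_insert_of_notMem h2] at hc
  have h3 := Finset.card_union_le (Finset.univ.filter fun p : GolayPt => g p = p)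
    ((Finset.univ.filter fun p : GolayPt => (a * g) p = p).erase p₀)
  have h4 : p₀ ∈ (Finset.univ.filter fun p : GolayPt => (a * g) p = p) := by
    rw [Finset.mem_filter]
    exact ⟨Finset.mem_univ _, by rw [Equiv.Perm.mul_apply, hgp, hp₀]⟩
  rw [Finset.card_erase_of_mem h4, hf1, hf2] at h3
  omega

/-- `|B| ≤ 16` -/
theorem card_le {p₀ : GolayPt} (hp₀ : a p₀ = p₀) (B : Subgroup (Equiv.Perm GolayPt)) (hB : B ≤ M24)
    (hB2 : IsPGroup 2 ↥B) (hBa : ∀ g ∈ B, g * a = a * g) (hS : ∀ g ∈ B, ∀ x, S a (g x) = S a x) :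
    Nat.card ↥B ≤ 16 := by
  classical
  have hfixa := card_fix hM ha h1 hp₀
  have hpow : ∀ g ∈ B, ∃ k : ℕ, g ^ 2 ^ k = 1 := by
    intro g hg
    obtain ⟨k, hk⟩ := hB2 ⟨g, hg⟩
    exact ⟨k, congrArg Subtype.val hk⟩
  -- the stabilizer
  have hst : Nat.card ↥(MulAction.stabilizer ↥B p₀) ≤ 2 := by
    have h2 : ∀ x : ↥(MulAction.stabilizer ↥B p₀), ((x : ↥B) : Equiv.Perm GolayPt) ∈ ({1, a} : Finset (Equiv.Perm GolayPt)) := by
      rintro ⟨⟨g, hg⟩, hgs⟩
      obtain ⟨k, hk⟩ := hpow g hg
      rw [Finset.mem_insert, Finset.mem_singleton]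
      exact eq_of_fix hM ha h1 hp₀ (hB hg) hk (hBa g hg) (hS g hg) hgs
    have h3 : Nat.card ↥(MulAction.stabilizer ↥B p₀) ≤ Nat.card ↥({1, a} : Finset (Equiv.Perm GolayPt)) := by
      refine Nat.card_le_card_of_injective (fun x => ⟨_, h2 x⟩) ?_
      intro x y hxy
      exact Subtype.ext (Subtype.ext (congrArg (fun z : ↥({1, a} : Finset (Equiv.Perm GolayPt)) => (z : Equiv.Perm GolayPt)) hxy))
    refine h3.trans ?_
    rw [Nat.card_eq_fintype_card, Fintype.card_coe]
    exact Finset.card_le_two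
  have horb : Nat.card ↥(MulAction.orbit ↥B p₀) ≤ 8 := by
    have h2 : MulAction.orbit ↥B p₀ ⊆ ((Finset.univ.filter fun p : GolayPt => a p = p : Finset GolayPt) : Set GolayPt) := by
      rintro _ ⟨⟨g, hg⟩, rfl⟩
      rw [Finset.coe_filter]
      refine ⟨Finset.mem_univ _, ?_⟩
      have h3 := hS g hg p₀
      rw [S_eq_empty.2 hp₀, S_eq_empty] at h3
      exact h3
    have h3 := Set.ncard_le_ncard h2 (Finset.finite_toSet _)
    rw [Set.ncard_coe_finset, hfixa] at h3
    exact h3
  have h2 := MulAction.card_orbit_mul_card_stabilizer_eq_card_group ↥B p₀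
  have h3 : Nat.card ↥B = Nat.card ↥(MulAction.orbit ↥B p₀) * Nat.card ↥(MulAction.stabilizer ↥B p₀) := by
    rw [Nat.card_eq_fintype_card, Nat.card_eq_fintype_card, Nat.card_eq_fintype_card]
    exact h2.symm
  rw [h3]
  exact (Nat.mul_le_mul horb hst)

end Pairs

/-! ### 2-central involutions -/

theorem fixed_of_central {a : Equiv.Perm GolayPt} (hM : a ∈ M24) (ha : a * a = 1) (h1 : a ≠ 1)
    (B : Subgroup M24) (hB : Nat.card ↥B = 2 ^ 10) (hBa : ∀ g ∈ B, g * ⟨a, hM⟩ = ⟨a, hM⟩ * g) :
    ∃ p : GolayPt, a p = p := by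
  by_contra hno
  push Not at hno
  obtain ⟨g, hg⟩ := Cfsg.Agent.J4.M24Invol.invol_conj ⟨a, hM⟩ (Subtype.ext ha) (fun h => h1 (congrArg Subtype.val h))
  have key : ∀ (v : M24), g * ⟨a, hM⟩ * g⁻¹ = v → ∀ p : GolayPt, v • p ≠ p := by
    intro v hv p hp
    rw [← hv, mul_smul, mul_smul] at hp
    have h2 : (⟨a, hM⟩ : M24) • g⁻¹ • p = g⁻¹ • p := by
      rw [← smul_left_cancel_iff g, smul_inv_smul]; exact hp
    exact hno _ h2
  rcases hg with hg | hg
  · have h2 : (Finset.univ.filter fun p : GolayPt => Cfsg.Agent.SporadicA.GolayBase.pt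
        (Cfsg.Agent.SporadicA.GolayPerm.papp Cfsg.Agent.J4.M24InvolData.P1 (Cfsg.Agent.SporadicA.GolayBase.idx p)) = p).Nonempty := by
      rw [← Finset.card_pos, fix_P1]; norm_num
    obtain ⟨p, hp⟩ := h2
    rw [Finset.mem_filter] at hp
    apply key _ hg p
    rw [Cfsg.Agent.SporadicStructure.M24El.el_smul_pt Cfsg.Agent.J4.M24Invol.ok_P1]
    exact hp.2
  · have h2 : B.map (MulAut.conj g).toMonoidHom ≤
        centralizer ({Cfsg.Agent.KFacts.M24Two.Count.w} : Set M24) := by
      rintro _ ⟨b, hb, rfl⟩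
      rw [mem_centralizer_singleton_iff]
      show g * b * g⁻¹ * Cfsg.Agent.KFacts.M24Two.Count.w = Cfsg.Agent.KFacts.M24Two.Count.w * (g * b * g⁻¹)
      have h3 : Cfsg.Agent.KFacts.M24Two.Count.w = g * ⟨a, hM⟩ * g⁻¹ := hg.symm
      rw [h3]
      calc g * b * g⁻¹ * (g * ⟨a, hM⟩ * g⁻¹) = g * (b * ⟨a, hM⟩) * g⁻¹ := by group
        _ = g * (⟨a, hM⟩ * b) * g⁻¹ := by rw [hBa b hb]
        _ = g * ⟨a, hM⟩ * g⁻¹ * (g * b * g⁻¹) := by group
    have h3 := Subgroup.card_dvd_of_le h2
    rw [Subgroup.card_map_of_injective (MulAut.conj g).injective, hB,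
      Cfsg.Agent.KFacts.M24Two.Orders.card_centralizer_w] at h3
    revert h3
    norm_num

end Cfsg.Agent.H7.J4Mod
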