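import Cfsg.Agent.H4.Row128
import Cfsg.Agent.H4.LfTrans
import Cfsg.Agent.H5.Small
import Cfsg.Agent.S1820
import Cfsg.Agent.S1162
import Cfsg.Agent.S1163
import Cfsg.Agent.SporRec.J1.Words
import Cfsg.Agent.TwoFusion.SLTwoFacts
import Cfsg.Agent.ClassicalGeometry.PSL2Basic

/-!
# `J4`: `T` normalizes the members of `ℒ(G, T)` (helper7)

`le_normalizer`: for `G` of the order of `J4` satisfying `IsQTKE`, every `L ∈ ℒ(G, T)` is normalized by `T`.
-/

set_option autoImplicit false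

namespace Cfsg.Agent.H7.J4Norm

open Cfsg Subgroup Cfsg.Agent.H4

universe u

/-- the order of `J4` -/
abbrev ord : ℕ := 86775571046077562880

theorem dvd_of_prime {p : ℕ} (hp : p.Prime) (h : p ∣ ord) : p = 2 ∨ p = 3 ∨ p = 5 ∨ p = 7 ∨ p = 11 ∨ p = 23 ∨
    p = 29 ∨ p = 31 ∨ p = 37 ∨ p = 43 := by
  have h1 : ord = 2 ^ 21 * (3 ^ 3 * (5 * (7 * (11 ^ 3 * (23 * (29 * (31 * (37 * 43)))))))) := by norm_num
  rw [h1] at h
  have aux : ∀ {q : ℕ}, q.Prime → p ∣ q → p = q := fun hq h => (Nat.prime_dvd_prime_iff_eq hp hq).1 h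
  rcases (Nat.Prime.dvd_mul hp).1 h with h | h
  · exact Or.inl (aux (by norm_num) (hp.dvd_of_dvd_pow h))
  rcases (Nat.Prime.dvd_mul hp).1 h with h | h
  · exact Or.inr (Or.inl (aux (by norm_num) (hp.dvd_of_dvd_pow h)))
  rcases (Nat.Prime.dvd_mul hp).1 h with h | h
  · have := aux (by norm_num) h; omega
  rcases (Nat.Prime.dvd_mul hp).1 h with h | h
  · have := aux (by norm_num) h; omega
  rcases (Nat.Prime.dvd_mul hp).1 h with h | h
  · have := aux (by norm_num) (hp.dvd_of_dvd_pow h); omega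
  rcases (Nat.Prime.dvd_mul hp).1 h with h | h
  · have := aux (by norm_num) h; omega
  rcases (Nat.Prime.dvd_mul hp).1 h with h | h
  · have := aux (by norm_num) h; omega
  rcases (Nat.Prime.dvd_mul hp).1 h with h | h
  · have := aux (by norm_num) h; omega
  rcases (Nat.Prime.dvd_mul hp).1 h with h | h
  · have := aux (by norm_num) h; omega
  · have := aux (by norm_num) h; omega

/-- the prime divisors of `|J4|` of multiplicity one -/
def One (p : ℕ) : Prop := p.Prime ∧ p ≠ 2 ∧ ¬ p * p ∣ ord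

theorem one_of {p : ℕ} (hp : p.Prime) (h5 : 5 ≤ p) (h11 : p ≠ 11) (h : p ∣ ord) : One p := by
  refine ⟨hp, by omega, ?_⟩
  rcases dvd_of_prime hp h with rfl | rfl | rfl | rfl | rfl | rfl | rfl | rfl | rfl | rfl
  · omega
  · omega
  · norm_num
  · norm_num
  · omega
  · norm_num
  · norm_num
  · norm_num
  · norm_num
  · norm_num

theorem one_five : One 5 := ⟨by norm_num, by norm_num, by norm_num⟩

/-- the orders `q (q² - 1)`, `q = 2^n`, dividing `|J4|` -/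
theorem two_pow_cases {n : ℕ} (hn : 2 ≤ n) (h : 2 ^ n * ((2 ^ n) ^ 2 - 1) ∣ ord) : n = 2 ∨ n = 3 ∨ n = 5 := by
  have h1 : 2 ^ n ∣ 2 ^ 21 := by
    have h2 : 2 ^ n ∣ 2 ^ 21 * 41378000758208 := by
      have h3 : ord = 2 ^ 21 * (3 ^ 3 * (5 * (7 * (11 ^ 3 * (23 * (29 * (31 * (37 * 43)))))))) := by norm_num
      have h4 : (2 : ℕ) ^ n ∣ 2 ^ 21 * (3 ^ 3 * (5 * (7 * (11 ^ 3 * (23 * (29 * (31 * (37 * 43)))))))) := by
        rw [← h3]; exact (Dvd.intro _ rfl).trans h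
      have h5 : Nat.Coprime (2 ^ n) (3 ^ 3 * (5 * (7 * (11 ^ 3 * (23 * (29 * (31 * (37 * 43)))))))) :=
        Nat.Coprime.pow_left n (by norm_num)
      exact (h5.dvd_of_dvd_mul_right h4).trans (Dvd.intro _ rfl)
    have h3 : (2 : ℕ) ^ n ∣ 2 ^ 21 * (3 ^ 3 * (5 * (7 * (11 ^ 3 * (23 * (29 * (31 * (37 * 43)))))))) := by
      have h3 : ord = 2 ^ 21 * (3 ^ 3 * (5 * (7 * (11 ^ 3 * (23 * (29 * (31 * (37 * 43)))))))) := by norm_num
      rw [← h3]; exact (Dvd.intro _ rfl).trans h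
    have h5 : Nat.Coprime (2 ^ n) (3 ^ 3 * (5 * (7 * (11 ^ 3 * (23 * (29 * (31 * (37 * 43)))))))) :=
      Nat.Coprime.pow_left n (by norm_num)
    exact h5.dvd_of_dvd_mul_right h3
  have h2 : n ≤ 21 := (Nat.pow_dvd_pow_iff_le_right (by norm_num)).1 h1
  interval_cases n <;> first | omega | (exfalso; revert h; norm_num)

variable {G : Type u} [Group G]

/-- the types of `L / O_2(L)` give a prime -/
theorem exists_prime [Finite G] (T : Sylow 2 G) {L : Subgroup G} (hL : L ∈ calL (T : Subgroup G))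
    (hcard : Nat.card G = ord)
    (h : (∃ (F : Type) (_ : Field F) (_ : Fintype F), CharP F 2 ∧
              Nonempty (↥L ⧸ Cfsg.pCore 2 ↥L ≃* Matrix.ProjectiveSpecialLinearGroup (Fin 2) F)) ∨
            Cfsg.Lie.IsoSuzuki (↥L ⧸ Cfsg.pCore 2 ↥L) ∨
            (∃ (F : Type) (_ : Field F) (_ : Fintype F), (Fintype.card F).Prime ∧ Fintype.card F ≠ 2 ∧
              Nonempty (↥L ⧸ Cfsg.pCore 2 ↥L ≃* Matrix.ProjectiveSpecialLinearGroup (Fin 2) F)) ∨
            Cfsg.Spor.IsoJ1 (↥L ⧸ Cfsg.pCore 2 ↥L)) :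
    IsSimpleGroup (↥L ⧸ pCore 2 ↥L) ∧ ∃ p, One p ∧ p ∣ Nat.card (↥L ⧸ pCore 2 ↥L) := by
  have h2f : Fact (Nat.Prime 2) := ⟨Nat.prime_two⟩
  have hd : Nat.card (↥L ⧸ pCore 2 ↥L) ∣ ord := by
    rw [← hcard]
    exact (Subgroup.card_quotient_dvd_card (pCore 2 ↥L)).trans (Subgroup.card_subgroup_dvd_card L)
  have hns : ¬ Group.IsSolvable (↥L ⧸ pCore 2 ↥L) := by
    intro hs
    apply Lf.not_solvable hL
    have hpg : Group.IsSolvable ↥(pCore 2 ↥L) := by
      have := (Cfsg.Agent.Lib.Cores.pCore_isPGroup (G := ↥L) 2).isNilpotent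
      infer_instance
    have hN : (pCore 2 ↥L).Normal := Cfsg.Agent.Lib.Cores.pCore_normal 2
    exact Group.isSolvable_of_ker_le_range (pCore 2 ↥L).subtype (QuotientGroup.mk' (pCore 2 ↥L)) (by
      rw [QuotientGroup.ker_mk', range_subtype])
  have h60 : 60 ≤ Nat.card (↥L ⧸ pCore 2 ↥L) := by
    by_contra hlt
    exact hns (H5.Small.solvable_of_lt _ rfl (by omega))
  rcases h with ⟨F, _, _, hch, ⟨e⟩⟩ | h | ⟨F, _, _, hp, hp2, ⟨e⟩⟩ | h
  · obtain ⟨n, hn⟩ := FiniteField.card F 2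
    have hev : Even (Fintype.card F) := by
      rw [hn.2]
      exact (Nat.even_pow).2 ⟨even_two, n.ne_zero⟩
    have hc : Nat.card (↥L ⧸ pCore 2 ↥L) = Fintype.card F * (Fintype.card F ^ 2 - 1) := by
      rw [Nat.card_congr e.toEquiv, Cfsg.Agent.ClassicalGeometry.PSL2Basic.card_PSL2_even _ hev]
    have hn2 : 2 ≤ (n : ℕ) := by
      by_contra hlt
      have h1 : (n : ℕ) = 1 := by have := n.pos; omega
      rw [hc, hn.2, h1] at h60
      norm_num at h60
    have h4 : 3 < Fintype.card F := by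
      rw [hn.2]
      have : 2 ^ 2 ≤ 2 ^ (n : ℕ) := Nat.pow_le_pow_right (by norm_num) hn2
      omega
    have hs := Cfsg.Agent.TwoFusion.SLTwoFacts.isSimpleGroup_psl h4
    refine ⟨e.isSimpleGroup, ?_⟩
    rw [hc, hn.2]
    rw [hc, hn.2] at hd
    rcases two_pow_cases hn2 hd with h | h | h
    · rw [h]; exact ⟨5, one_five, by norm_num⟩
    · rw [h]; exact ⟨7, one_of (by norm_num) (by norm_num) (by norm_num) (by norm_num), by norm_num⟩
    · rw [h]; exact ⟨31, one_of (by norm_num) (by norm_num) (by norm_num) (by norm_num), by norm_num⟩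
  · obtain ⟨F, _, _, m, hm, hF, ⟨e⟩⟩ := h
    have hs : IsSimpleGroup ↥(Cfsg.Lie.Sz F (2 ^ (m + 1))) := Cfsg.Agent.S1162.result hm hF
    refine ⟨e.isSimpleGroup, 5, one_five, ?_⟩
    obtain ⟨hc, -⟩ := Cfsg.Agent.S1163.result hm hF
    rw [Nat.card_congr e.toEquiv, hc]
    refine Dvd.dvd.mul_left ?_ _
    have h1 : (2 ^ (2 * m + 1)) ^ 2 + 1 = 4 * 16 ^ m + 1 := by
      rw [← pow_mul, show (2 * m + 1) * 2 = 4 * m + 2 by ring, pow_add, pow_mul]
      norm_num [mul_comm]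
    rw [h1, Nat.dvd_iff_mod_eq_zero, Nat.add_mod, Nat.mul_mod, Nat.pow_mod]
    norm_num
  · have hodd : Odd (Fintype.card F) := hp.odd_of_ne_two hp2
    have hc : Nat.card (↥L ⧸ pCore 2 ↥L) * 2 = Fintype.card F * (Fintype.card F ^ 2 - 1) := by
      rw [Nat.card_congr e.toEquiv, Cfsg.Agent.ClassicalGeometry.PSL2Basic.card_PSL2_odd _ hodd]
    have h3 : Fintype.card F ≠ 3 := by
      intro h3
      rw [h3] at hc
      omega
    have h5 : 5 ≤ Fintype.card F := by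
      have := hp.two_le
      rcases Nat.lt_or_ge (Fintype.card F) 5 with hlt | hge
      · interval_cases h : Fintype.card F
        · exact absurd rfl hp2
        · exact absurd rfl h3
        · exact absurd hp (by norm_num)
      · exact hge
    have hs := Cfsg.Agent.TwoFusion.SLTwoFacts.isSimpleGroup_psl (F := F) (by omega)
    refine ⟨e.isSimpleGroup, ?_⟩
    have hpd : Fintype.card F ∣ Nat.card (↥L ⧸ pCore 2 ↥L) := by
      have h1 : Fintype.card F ∣ Nat.card (↥L ⧸ pCore 2 ↥L) * 2 := by rw [hc]; exact Dvd.intro _ rfl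
      exact Nat.Coprime.dvd_of_dvd_mul_right ((Nat.coprime_primes hp Nat.prime_two).2 hp2) h1
    by_cases h11 : Fintype.card F = 11
    · refine ⟨5, one_five, ?_⟩
      rw [h11] at hc
      have h6 : Nat.card (↥L ⧸ pCore 2 ↥L) = 660 := by omega
      rw [h6]; norm_num
    · exact ⟨_, one_of hp h5 h11 (hpd.trans hd), hpd⟩
  · exfalso
    obtain ⟨e⟩ := h
    rw [Nat.card_congr e.toEquiv, Cfsg.Agent.SporRec.J1.Words.card_J1] at hd
    revert hd
    norm_num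

/-- **`T` normalizes `L`** -/
theorem le_normalizer [Finite G] [IsSimpleGroup G] (hG : ¬ IsMulCommutative G) (hQ : IsQTKE G)
    (hcard : Nat.card G = ord) (T : Sylow 2 G) {L : Subgroup G} (hL : L ∈ calL (T : Subgroup G)) :
    (T : Subgroup G) ≤ normalizer (L : Set G) := by
  obtain ⟨-, -, h3⟩ := Cfsg.Agent.S1820.result hG hQ (L ⊔ (T : Subgroup G)) hL.2.2
  have e : ↥(L.subgroupOf (L ⊔ (T : Subgroup G))) ≃* ↥L := subgroupOfEquivOfLe le_sup_left
  obtain ⟨e'⟩ := LfTrans.nonempty_quot ⟨e⟩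
  rcases h3 _ hL.1 with h | ⟨-, h⟩
  · have h1 := (normal_subgroupOf_iff_le_normalizer (le_sup_left : L ≤ L ⊔ (T : Subgroup G))).1 h
    exact le_sup_right.trans h1
  · obtain ⟨hs, p, ⟨hp, hp2, hpp⟩, hpd⟩ := exists_prime T hL hcard (by
      rcases h with ⟨F, i1, i2, hch, ⟨f⟩⟩ | h | ⟨F, i1, i2, hp, hp2, ⟨f⟩⟩ | h
      · exact Or.inl ⟨F, i1, i2, hch, ⟨e'.symm.trans f⟩⟩
      · obtain ⟨F, i1, i2, m, hm, hF, ⟨f⟩⟩ := h
        exact Or.inr (Or.inl ⟨F, i1, i2, m, hm, hF, ⟨e'.symm.trans f⟩⟩)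
      · exact Or.inr (Or.inr (Or.inl ⟨F, i1, i2, hp, hp2, ⟨e'.symm.trans f⟩⟩))
      · obtain ⟨f⟩ := h
        exact Or.inr (Or.inr (Or.inr ⟨e'.symm.trans f⟩)))
    have hpL : p ∣ Nat.card ↥L := hpd.trans (Subgroup.card_quotient_dvd_card (pCore 2 ↥L))
    exact H4.Row128.le_normalizer T hL hp hp2 hpL (by rw [hcard]; exact hpp) hs

end Cfsg.Agent.H7.J4Norm
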