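import Cfsg.Agent.H7.StdLieDefs
import Cfsg.Agent.H291.BabyTab
import Cfsg.Agent.H340.BabyTe

/-!
# Standard subgroups of the Baby Monster (helper7)

`baby` : there is no `Sit X`, `X` the Baby Monster: in case II (`u = d d'` a product of two commuting transpositions) the
components of `C(u)` centralize `d`, in case I the component is `2.²E₆(2)`.
-/

set_option autoImplicit false
set_option maxRecDepth 100000
set_option linter.unusedSectionVars false

open Subgroup

namespace Cfsg.Agent.H7.StdLie.Baby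

open Cfsg Cfsg.Agent.CTwoTab

universe u v w

/-- the two possibilities -/
def Pr (E : Type v) [Group E] {X : Type u} [Group X] (u : X) (K : Subgroup X) : Prop :=
  (∃ f : ↥K →* E, Function.Surjective f ∧ Nat.card ↥f.ker ≤ 2 ∧ f.ker ≤ center ↥K) ∨
    ∃ d : X, d * d = 1 ∧ d ≠ 1 ∧ d ≠ u ∧ u * d = d * u ∧ ∀ k ∈ K, k * d = d * k

theorem Pr.conj {E : Type v} [Group E] {X : Type u} [Group X] {u : X} {K : Subgroup X} (h : Pr E u K) {Y : Type w}
    [Group Y] (g : X ≃* Y) : Pr E (g u) (K.map g.toMonoidHom) := by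
  rcases h with ⟨f, h1, h2, h3⟩ | ⟨d, h1, h2, h3, h4, h5⟩
  · left
    let e : ↥K ≃* ↥(K.map g.toMonoidHom) := K.equivMapOfInjective g.toMonoidHom g.injective
    refine ⟨f.comp e.symm.toMonoidHom, h1.comp e.symm.surjective, ?_, ?_⟩
    · refine le_trans (le_of_eq (Nat.card_congr
        { toFun := fun z => (⟨e.symm z, z.2⟩ : ↥f.ker)
          invFun := fun z => ⟨e z, by
            rw [MonoidHom.mem_ker]
            show f (e.symm (e z)) = 1
            rw [e.symm_apply_apply]
            exact z.2⟩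
          left_inv := fun z => Subtype.ext (e.apply_symm_apply _)
          right_inv := fun z => Subtype.ext (e.symm_apply_apply _) })) h2
    · intro z hz
      have h4 : e.symm z ∈ center ↥K := h3 hz
      rw [mem_center_iff] at h4 ⊢
      intro g'
      have h5 := congrArg e (h4 (e.symm g'))
      rwa [map_mul, map_mul, e.apply_symm_apply, e.apply_symm_apply] at h5
  · right
    refine ⟨g d, by rw [← map_mul, h1, map_one], fun h => h2 (g.injective (by rw [h, map_one])),
      fun h => h3 (g.injective h), by rw [← map_mul, h4, map_mul], ?_⟩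
    rintro _ ⟨k, hk, rfl⟩
    change g k * g d = g d * g k
    rw [← map_mul, h5 k hk, map_mul]

section all

open Cfsg.Agent.R01.Lifts Cfsg.Agent.MonsterN Cfsg.Agent.MonsterN.Lit Cfsg.Agent.BabyComp.Main
open Cfsg.Agent.BabyComp Cfsg.Agent.BabyComp.NoSpec

variable {B : Type*} {X : Type u} {E : Type v} [Group B] [Group X] [Group E] [Finite B] [Finite X] [Finite E]
  {q : B →* X} {τ : B} {R : Set E}
variable {y : ℕ → B} {h : Pre y} {π : KK y →* E} {f₁ f₂ f₃ f₄ : B}

/-- A conjugation invariant property of the components follows from the class of `t` and case II. -/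
theorem comp_all' [IsSimpleGroup E] {Γ : Type*} [Group Γ] [Finite Γ] (hq : Ext q τ) (h10 : y 10 = τ) (D : KD h R π)
    (Fc : FusionType.Facts τ f₁ f₂ f₃ f₄) {θ : B →* Γ} {z : Γ}
    (hθ : Function.Injective θ) (hr : ∀ x : Γ, x * θ τ = θ τ * x → ∃ b, θ b = x)
    (hcz : IsConj z (θ (τ * (f₁ * f₂)))) (hcd : IsConj z (θ (f₁ * f₂ * f₃)))
    {Q : Subgroup Γ} (hL : Cfsg.Agent.Co2Type.Quad.Large Q z)
    (hc5 : IsConj f₁ (y 5)) (big : KEq.Big B τ (y 5))
    {F : Type*} [Field F] [Fintype F] {hF : Fintype.card F = 2 ^ 2}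
    (hR : Cfsg.Agent.BabyU.RootCfg.RootFacts hF R) (hX : Cfsg.Agent.BabyU.Key.Extra hF R)
    (Rt : Cfsg.Agent.BabyU.Lab.Roots E R) {M₁ : Subgroup X} (Bs : Base (q (y 5)) M₁)
    {Pr : X → Subgroup X → Prop}
    (hPr : ∀ (g v : X) (K : Subgroup X), Pr v K → Pr (MulAut.conj g v) (K.map (MulAut.conj g).toMonoidHom))
    (hA : ∀ K : Subgroup X, IsComponentOf K (centralizer ({q (y 5)} : Set X)) → Pr (q (y 5)) K)
    (hB : ∀ u d : X, u * u = 1 → u ≠ 1 → IsConj (q (y 5)) d → u * d = d * u → IsConj (q (y 5)) (u * d) →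
      ∀ K : Subgroup X, IsComponentOf K (centralizer ({u} : Set X)) → Pr u K)
    (u : X) (hu : orderOf u = 2) (K : Subgroup X) (hK : IsComponentOf K (centralizer ({u} : Set X))) : Pr u K := by
  have huu : u * u = 1 := by rw [← pow_two, ← hu, pow_orderOf_eq_one]
  have hu1 : u ≠ 1 := by
    rintro rfl
    rw [orderOf_one] at hu
    omega
  -- conjugation
  have hconj : ∀ g v : X, (∀ K : Subgroup X, IsComponentOf K (centralizer ({v} : Set X)) → Pr v K) →
      ∀ K : Subgroup X, IsComponentOf K (centralizer ({g * v * g⁻¹} : Set X)) → Pr (g * v * g⁻¹) K := by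
    intro g v hv K hK
    have h1 := isComponentOf_map (MulAut.conj g⁻¹) hK
    rw [map_centralizer_singleton] at h1
    have e : (MulAut.conj g⁻¹) (g * v * g⁻¹) = v := by
      rw [MulAut.conj_apply]; group
    rw [e] at h1
    have h2 := hPr g v _ (hv _ h1)
    have h3 : (K.map (MulAut.conj g⁻¹).toMonoidHom).map (MulAut.conj g).toMonoidHom = K := by
      rw [map_map]
      have h4 : (MulAut.conj g).toMonoidHom.comp (MulAut.conj g⁻¹).toMonoidHom = MonoidHom.id X := by
        ext x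
        change g * (g⁻¹ * x * (g⁻¹)⁻¹) * g⁻¹ = x
        group
      rw [h4, map_id]
    rw [MulAut.conj_apply] at h2
    rwa [h3] at h2
  rcases Bs.classes u huu hu1 with ⟨g, hg⟩ | ⟨d, hd, hc, hud⟩
  · -- case I
    obtain ⟨k, hk, hqk⟩ := M_le hq h10 big Bs _ hg
    have hgu : u = g * q k * g⁻¹ := by rw [hqk]; group
    rw [hgu] at hK ⊢
    refine hconj g (q k) ?_ K hK
    clear hK K
    intro K hK
    have hkk : k * k = 1 := by
      refine lift_sq hR hX Rt hq h10 D hk ?_
      rw [hqk]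
      calc g⁻¹ * u * g * (g⁻¹ * u * g) = g⁻¹ * (u * u) * g := by group
        _ = 1 := by rw [huu]; group
    have hqk1 : q k ≠ 1 := by
      intro e
      apply hu1
      rw [hgu, e]; group
    have hk1 : k ≠ 1 := fun e => hqk1 (by rw [e, map_one])
    have hkτ : k ≠ τ := fun e => hqk1 (by rw [e, hq.mapz])
    rcases Fc.classes k hkk hk1 hkτ with h1 | h1 | h1 | h1
    · obtain ⟨c, hc⟩ := isConj_iff.1 (q.map_isConj (hc5.symm.trans h1))
      rw [← hc] at hK ⊢
      exact hconj c _ hA K hK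
    · refine absurd hK ?_
      refine no_comp_of_large hq hθ hr hL (v := k) (w := k * τ) (Or.inr rfl) ?_ K
      refine hcz.trans (θ.map_isConj ?_)
      rw [hq.comm]
      exact FusionType.conj_mul_t Fc.cen h1
    · exact absurd hK (no_comp_of_large hq hθ hr hL (v := k) (w := k) (Or.inl rfl) (hcz.trans (θ.map_isConj h1)) K)
    · exact absurd hK (no_comp_of_large hq hθ hr hL (v := k) (w := k) (Or.inl rfl) (hcd.trans (θ.map_isConj h1)) K)
  · exact hB u d huu hu1 hd hc hud K hK

theorem pr_all [IsSimpleGroup E] {Γ : Type*} [Group Γ] [Finite Γ] (hq : Ext q τ) (h10 : y 10 = τ) (D : KD h R π)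
    (Fc : FusionType.Facts τ f₁ f₂ f₃ f₄) {θ : B →* Γ} {z : Γ}
    (hθ : Function.Injective θ) (hr : ∀ x : Γ, x * θ τ = θ τ * x → ∃ b, θ b = x)
    (hcz : IsConj z (θ (τ * (f₁ * f₂)))) (hcd : IsConj z (θ (f₁ * f₂ * f₃)))
    {Q : Subgroup Γ} (hL : Cfsg.Agent.Co2Type.Quad.Large Q z)
    (hc5 : IsConj f₁ (y 5)) (big : KEq.Big B τ (y 5))
    {F : Type*} [Field F] [Fintype F] {hF : Fintype.card F = 2 ^ 2}
    (hR : Cfsg.Agent.BabyU.RootCfg.RootFacts hF R) (hX : Cfsg.Agent.BabyU.Key.Extra hF R)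
    (Rt : Cfsg.Agent.BabyU.Lab.Roots E R)
    {M₁ : Subgroup X} (Bs : Base (q (y 5)) M₁)
    (u : X) (hu : orderOf u = 2)
    (K : Subgroup X) (hK : IsComponentOf K (centralizer ({u} : Set X))) : Pr E u K := by
  obtain ⟨σ, hσ⟩ := exists_sigma hq h10 D
  have H := data hq h10 D big hσ
  refine comp_all' hq h10 D Fc hθ hr hcz hcd hL hc5 big hR hX Rt Bs (Pr := fun v K => Pr E v K)
    (fun g v K h => h.conj (MulAut.conj g)) ?_ ?_ u hu K hK
  · intro K hK
    left
    obtain ⟨f, hf, hk, hcen⟩ := TwoA.exists_hom H hK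
    refine ⟨f, hf, ?_, hcen⟩
    have hinj : Function.Injective (fun k : ↥f.ker => (⟨((k : ↥K) : X), by
        have := (hk k).1 k.2
        rcases this with h | h
        · rw [h]; exact one_mem _
        · rw [h]; exact mem_zpowers (q (y 5))⟩ : ↥(zpowers (q (y 5))))) := by
      intro a b hab
      have h := congrArg (fun y' : ↥(zpowers (q (y 5))) => (y' : X)) hab
      exact Subtype.ext (Subtype.ext h)
    refine (Nat.card_le_card_of_injective _ hinj).trans ?_
    rw [Nat.card_zpowers]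
    exact orderOf_le_of_pow_eq_one (by norm_num) (by rw [pow_two, H.t_sq])
  · intro u d huu hu1 hd hc hud K hK
    right
    have HT := Bs.trans H.t_sq H.t_ne
    refine ⟨d, HT.sq d hd, HT.ne d hd, ?_, hc, Pair.comm_of_pair HT huu hu1 hd hc hud hK⟩
    rintro rfl
    exact HT.ne _ hud huu

end all

section par

open Cfsg.Lie Cfsg.Agent.Bimonster Cfsg.Agent.BabyU Cfsg.Agent.TwoESix.Cover
open Cfsg.Agent.MonsterX.KSide Cfsg.Agent.MonsterX.KLift Cfsg.Agent.MonsterX.KModel
open Cfsg.Agent.MonsterX.Model Cfsg.Agent.MonsterX.MainPack Cfsg.Agent.MonsterX.MainSimple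
open Cfsg.Agent.MonsterX.MainBasic Cfsg.Agent.MonsterU.Assembly Cfsg.Agent.MonsterN Cfsg.Agent.MonsterN.Lit
open Cfsg.Agent.MonsterN.LitInst Cfsg.Agent.MonsterU.Lam2 Cfsg.Agent.MonsterU.TwoCls
open Cfsg.Agent.BabyComp Cfsg.Agent.BabyComp.Par

variable {V P W : Type} [AddCommGroup V] [Module ℚ V] [Group P] [AddCommGroup W] [Module ℚ W]
  {D : MData V} {M : KS ↥D.G V P W} {x₀ : P} {θ : leechLattice → P} {K₀ : Type} [Group K₀]

theorem par (A : All D K₀) (H : Link D M x₀) (L : Lift M θ) {τ : D.G} {y' : P}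
    (T : Cfsg.Agent.MonsterU.InvTwo.TauHyp M θ ⊤ τ y') {y : ℕ → D.G} (hP : PRel y) (hne : y 0 ≠ y 1)
    (hy : ∃ g : D.G, g * tG A.hG A.hR * g⁻¹ = y 10)
    (K : Type) [Field K] [Fintype K] (hK : Fintype.card K = 4) :
    ∀ u : Spor.BabyMonster, orderOf u = 2 → ∀ C : Subgroup Spor.BabyMonster,
      IsComponentOf C (centralizer ({u} : Set Spor.BabyMonster)) → Pr (twistedE6 K 2) u C := by
  have hfin : Finite D.G := G_finite A.hO
  have hB : Cfsg.IsB Cfsg.Spor.BabyMonster := Cfsg.Agent.S1704.result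
  obtain ⟨⟨h1, h2, h3⟩, h43⟩ := ModelB.fieldsKS A H L hP hne hy hB H.x₀_mem
  obtain ⟨f₁, f₂, f₃, f₄, Fc, hcz, hcd, p, hp, hp2, hp2'⟩ := FusInst.exists_facts A H L T H.x₀_mem
  have hzm : M.z ∈ BB M x₀ := mem_centralizer_singleton_iff.2 (by
    show M.ι M.zc * M.ι x₀ = M.ι x₀ * M.ι M.zc
    rw [← map_mul, ← map_mul, M.zc_comm])
  have hE : Emb (BB M x₀).subtype M.z (tb M x₀) f₁ f₂ f₃ :=
    ⟨Subtype.val_injective, nineteen H A, ((BB M x₀).subtype.map_isConj (hcz hzm)).symm, hcd⟩
  have hF : Fintype.card K = 2 ^ 2 := by rw [hK]; norm_num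
  have hsE := EInst.isSimple K hK
  obtain ⟨e0, r, he0, hgen, hr, -, hconj⟩ := TwoESix.GoodInst.exists_good K hK
  have hR : ∀ i, e0 i ∈ rootClass K := fun i => by
    obtain ⟨g, hg⟩ := hconj i
    exact ⟨g, r, hr, hg⟩
  have hHB : Finite HB := Cfsg.Agent.BM.HBFinal.finite_HB
  have hcard := Cfsg.Agent.BM.HBFinal.hcard K hK
  have big_a : KEq.Big (BB M x₀) (tb M x₀) f₁ := by
    have hm : M.ι p ∈ BB M x₀ := by rw [← hp]; exact f₁.2
    have e : f₁ = ⟨M.ι p, hm⟩ := Subtype.ext hp
    rw [e]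
    exact BigAConf.big_a L T H.x₀_mem h43 hp2 hp2'
  obtain ⟨q, yB, hpre, π, hq, h10, DK, hc5, hq5⟩ :=
    NodesB.nodes he0 hgen hcard (Cfsg.Agent.BM.HBFinal.card_E K hK) hR h1 h2 h3 Fc hE
  obtain ⟨M₁, Bs⟩ := BaseB.exists_base hq5
  have hfX : Finite Spor.BabyMonster := Finite.of_surjective q hq.surj
  have big : KEq.Big (BB M x₀) (tb M x₀) (yB 5) := big_a.conj (fun x => (Fc.cen x).symm) hc5
  have hz : M.z = zG A.hG := Subtype.ext H.z_eq.symm
  have hL : Cfsg.Agent.Co2Type.Quad.Large (D.Q.subgroupOf D.G) M.z := by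
    rw [hz]
    exact Cfsg.Agent.MonsterU.ModelChart.large A.hG A.hR A.hL A.hO A.hT
  have hr : ∀ x : D.G, x * (BB M x₀).subtype (tb M x₀) = (BB M x₀).subtype (tb M x₀) * x →
      ∃ b, (BB M x₀).subtype b = x := fun x hx => ⟨⟨x, mem_centralizer_singleton_iff.2 hx⟩, rfl⟩
  intro u hu K' hK'
  exact pr_all (E := twistedE6 K 2) (hF := hF) hq h10 DK Fc hE.inj hr hE.conj_z hE.conj_d hL hc5 big
    (Cfsg.Agent.TwoESix.LeviG.rootFacts hK hF) (KeyInst.extra hF) (Cfsg.Agent.TwoESix.RootsInst.roots K hF)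
    Bs u hu K' hK'

end par

open Cfsg.Agent.MonsterX Cfsg.Agent.MonsterX.Space Cfsg.Agent.MonsterX.Conc Cfsg.Agent.MonsterX.Model
open Cfsg.Agent.MonsterX.InstData Cfsg.Agent.MonsterX.MainPack Cfsg.Agent.MonsterU
open Cfsg.Agent.MonsterP Cfsg.Agent.MonsterP.NodeData Cfsg.Agent.MonsterP.NodesConj Cfsg.Agent.CTwoTab.BInst

/-- **The components of the involution centralizers of the Baby Monster.** -/
theorem table (K : Type) [Field K] [Fintype K] (hK : Fintype.card K = 4) (u : Spor.BabyMonster) (hu : orderOf u = 2)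
    (C : Subgroup Spor.BabyMonster) (hC : IsComponentOf C (centralizer ({u} : Set Spor.BabyMonster))) :
    Pr (Cfsg.Lie.twistedE6 K 2) u C :=
  par all KDone.lnk KDone.lft
    (TauInst.tauHyp (Final.cent InstanceFinal.mOrbit Instance.mTrans)) (NodesGrp.prel H) (NodesNe.ne H)
    conj_ten K hK u hu C hC

/-- **There is no standard subgroup with odd centre in the Baby Monster.** -/
theorem baby {X : Type u} [Group X] [Finite X] [IsSimpleGroup X] (h : Spor.IsoB X) (S : Sit X) : False := by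
  obtain ⟨K4, _, _, hK4⟩ := H291.BabyTab.exists_field
  have hB : Cfsg.IsB Cfsg.Spor.BabyMonster := Cfsg.Agent.S1704.result
  obtain ⟨e⟩ := id h
  have hfin : Finite Spor.BabyMonster := Nat.finite_of_card_ne_zero (by rw [hB.2]; norm_num)
  have hcX : Nat.card X = 4154781481226426191177580544000000 := by rw [Nat.card_congr e.toEquiv, hB.2]
  have hc : center X = ⊥ := CpAut.TwoInner.center_eq_bot_of_card ‹_› (by rw [hcX]; norm_num)
  obtain ⟨x, L, xx, x1, nrm, comp, odd, uniq⟩ := S
  obtain ⟨g, rfl⟩ := CpAut.TwoInner.inner_congr e (fun α => H287.inner_of_out S2084.result α) x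
  have hinj : Function.Injective (MulAut.conj : X →* MulAut X) := by
    rw [injective_iff_map_eq_one]
    intro a ha
    have h1 : a ∈ center X := by
      rw [mem_center_iff]
      intro y
      have h2 := congrArg (fun f : MulAut X => f y) ha
      change a * y * a⁻¹ = y at h2
      exact (mul_inv_eq_iff_eq_mul.1 h2).symm
    rw [hc] at h1
    exact mem_bot.1 h1
  have hx : orderOf (MulAut.conj g) = 2 := orderOf_eq_prime (by rw [pow_two]; exact xx) x1
  have hg : orderOf g = 2 := by rwa [CpAut.orderOf_conj hc] at hx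
  -- `L` as a component of `C_X(g)`
  have hmap : (L.map (fixedSubgroup (MulAut.conj g)).subtype).subgroupOf (fixedSubgroup (MulAut.conj g)) = L := by
    rw [subgroupOf, comap_map_eq_self_of_injective (fixedSubgroup (MulAut.conj g)).subtype_injective]
  have h1 : IsComponentOf (L.map (fixedSubgroup (MulAut.conj g)).subtype) (centralizer ({g} : Set X)) := by
    rw [← CpAut.fixedSubgroup_conj]
    exact ⟨map_subtype_le L, by rwa [hmap]⟩
  have e2 : ↥L ≃* ↥(L.map (fixedSubgroup (MulAut.conj g)).subtype) :=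
    L.equivMapOfInjective _ (fixedSubgroup (MulAut.conj g)).subtype_injective
  have h2 := isComponentOf_map e h1
  rw [map_centralizer_singleton] at h2
  have h3 := table K4 hK4 (e g) (by rw [MulEquiv.orderOf_eq, hg]) _ h2
  have h4 := h3.conj e.symm
  rw [e.symm_apply_apply] at h4
  have h5 : ((L.map (fixedSubgroup (MulAut.conj g)).subtype).map e.toMonoidHom).map e.symm.toMonoidHom =
      L.map (fixedSubgroup (MulAut.conj g)).subtype := by
    rw [map_map (g := e.symm.toMonoidHom) (f := e.toMonoidHom)]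
    have h6 : e.symm.toMonoidHom.comp e.toMonoidHom = MonoidHom.id X := by
      ext x
      exact e.symm_apply_apply x
    rw [h6, map_id]
  rw [h5] at h4
  have : Finite (Lie.twistedE6 K4 2) := Nat.finite_of_card_ne_zero (by rw [H291.BabyTab.card_E K4 hK4]; norm_num)
  rcases h4 with ⟨f, hf, hk, hcen⟩ | ⟨d, hdd, hd1, hdg, hgd, hLd⟩
  · have hE : center (Lie.twistedE6 K4 2) = ⊥ := CpAut.TwoInner.center_eq_bot_of_card
      (MonsterN.EInst.isSimple K4 hK4) (by rw [H291.BabyTab.card_E K4 hK4]; norm_num)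
    have h6 := Nat.card_congr (quoCenterEquiv hf hE hcen).toEquiv
    rw [H291.BabyTab.card_E K4 hK4] at h6
    rcases H340.BabyTe.comp h hg h1 with ⟨-, h7⟩ | h7
    · have h8 : Nat.card ↥(center ↥L) = Nat.card ↥(center ↥(L.map (fixedSubgroup (MulAut.conj g)).subtype)) :=
        Nat.card_congr (Subgroup.centerCongr e2).toEquiv
      rw [h8] at odd
      exact (Nat.not_even_iff_odd.2 odd) (even_iff_two_dvd.2 h7)
    · have h8 : Nat.card (↥(L.map (fixedSubgroup (MulAut.conj g)).subtype) ⧸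
          center ↥(L.map (fixedSubgroup (MulAut.conj g)).subtype)) ≤
          Nat.card ↥(L.map (fixedSubgroup (MulAut.conj g)).subtype) :=
        Nat.card_le_card_of_surjective _ (QuotientGroup.mk'_surjective _)
      rw [h6] at h8
      omega
  · have hdf : d ∈ fixedSubgroup (MulAut.conj g) := by
      change g * d * g⁻¹ = d
      rw [hgd, mul_inv_cancel_right]
    have h6 := uniq ⟨d, hdf⟩ (by
      rw [mem_centralizer_iff]
      intro y hy
      apply Subtype.ext
      exact hLd _ ⟨y, hy, rfl⟩) (by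
      rw [← Subgroup.orderOf_coe]
      exact orderOf_eq_prime (by rw [pow_two]; exact hdd) hd1)
    exact hdg (hinj h6)

end Cfsg.Agent.H7.StdLie.Baby
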