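import Cfsg.Agent.S1347
import Cfsg.Agent.S1754
import Cfsg.Agent.H284.FStd
import Cfsg.Agent.H474.TwoPerf
import Cfsg.Agent.OddHalf.Known
import Cfsg.Agent.CTwoTab.Base
import Cfsg.Prelude.Def_ClassificationK
import Cfsg.Prelude.Def_LieTypeChar
import Cfsg.Prelude.Def_LieTwisted
import Cfsg.Prelude.Def_Spor_Conway
import Cfsg.Prelude.Def_Spor_Fi22
import Cfsg.Prelude.Def_KGroupFacts

/-!
# Standard subgroups of Lie type in characteristic 2, Lie rank at least 3: definitions and the reduction (helper7)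

* `Fam` : the list of the statement S3152; `Small` : the four groups of its hypothesis (*);
* `Sit X` : an involutory automorphism `x` of `X` with a normal component `L` of `C_X(x)`, `|Z(L)|` odd, such that `x` is
  the only involution of `C(L)` in `C_X(x)`;
* `reduce` : S3152 from the rows `Sit X → Out X`.
-/

set_option autoImplicit false

namespace Cfsg.Agent.H7.StdLie

open Cfsg Subgroup Cfsg.Agent.SignalizersComponents Cfsg.Agent.SignalizersComponents.Components
open Cfsg.Agent.H284.FStd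

universe u

/-- the list of the statement -/
def Fam (S : Type u) [Group S] : Prop :=
  ((∃ (F : Type) (_ : Field F) (_ : Fintype F) (_ : CharP F 2) (n : ℕ), 4 ≤ n ∧ Nonempty (S ≃* Matrix.ProjectiveSpecialLinearGroup (Fin n) F)) ∨
      (∃ (F : Type) (_ : Field F) (_ : Fintype F) (_ : CharP F 2) (k : ℕ), 3 ≤ k ∧ Nonempty (S ≃* Cfsg.PSp k F)) ∨
      (∃ (F : Type) (_ : Field F) (_ : Fintype F) (_ : CharP F 2) (n q : ℕ), 6 ≤ n ∧ Fintype.card F = q ^ 2 ∧ Nonempty (S ≃* Cfsg.PSU n F q)) ∨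
      (∃ (F : Type) (_ : Field F) (_ : Fintype F) (_ : CharP F 2) (k : ℕ), 4 ≤ k ∧
        (Nonempty (S ≃* Cfsg.POmega F (Cfsg.quadFormPlus k F)) ∨
          ∃ a b : F, (∀ z₁ z₂ : F, z₁ ^ 2 + a * z₁ * z₂ + b * z₂ ^ 2 = 0 → z₁ = 0 ∧ z₂ = 0) ∧ Nonempty (S ≃* Cfsg.POmega F (Cfsg.quadFormMinus (k - 1) F a b)))) ∨
      (∃ (F : Type) (_ : Field F) (_ : Fintype F) (_ : CharP F 2),
        Nonempty (S ≃* ↥(Cfsg.Lie.chevF4.group F)) ∨ Nonempty (S ≃* ↥(Cfsg.Lie.chevE6.group F)) ∨
          Nonempty (S ≃* ↥(Cfsg.Lie.chevE7.group F)) ∨ Nonempty (S ≃* ↥(Cfsg.Lie.chevE8.group F))) ∨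
      (∃ (K : Type) (_ : Field K) (_ : Fintype K) (_ : CharP K 2) (q : ℕ), Fintype.card K = q ^ 2 ∧ Nonempty (S ≃* ↥(Cfsg.Lie.twistedE6 K q))))

/-- the four groups of the hypothesis (*) -/
def Small (S : Type u) [Group S] : Prop :=
  (∃ (F : Type) (_ : Field F) (_ : Fintype F), Fintype.card F = 2 ∧
          (Nonempty (S ≃* Cfsg.PSp 3 F) ∨ Nonempty (S ≃* Cfsg.POmega F (Cfsg.quadFormPlus 4 F)) ∨
            ∃ a b : F, (∀ z₁ z₂ : F, z₁ ^ 2 + a * z₁ * z₂ + b * z₂ ^ 2 = 0 → z₁ = 0 ∧ z₂ = 0) ∧ Nonempty (S ≃* Cfsg.POmega F (Cfsg.quadFormMinus 3 F a b)))) ∨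
        ∃ (F : Type) (_ : Field F) (_ : Fintype F), Fintype.card F = 4 ∧ Nonempty (S ≃* Cfsg.PSU 6 F 2)

/-- the situation in `X` -/
structure Sit (X : Type u) [Group X] where
  x : MulAut X
  L : Subgroup ↥(fixedSubgroup x)
  xx : x * x = 1
  x1 : x ≠ 1
  nrm : L.Normal
  comp : IsComponent L
  odd : Odd (Nat.card ↥(center ↥L))
  /-- `x` is the only involution -/
  uniq : ∀ y : ↥(fixedSubgroup x), y ∈ centralizer (L : Set ↥(fixedSubgroup x)) → orderOf y = 2 →
    MulAut.conj ((y : ↥(fixedSubgroup x)) : X) = x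

/-- `x` is not inner -/
def Sit.Outer {X : Type u} [Group X] (S : Sit X) : Prop := ¬ ∃ g : X, MulAut.conj g = S.x

/-- the conclusion in `X` -/
inductive Out {X : Type u} [Group X] (S : Sit X) : Prop
  | lie (h : IsLieTypeChar 2 X ∨ Lie.IsoTits X) (ho : S.Outer)
  | hs (h : Spor.IsoHS X) (ho : S.Outer) (hL : ∃ (F : Type) (_ : Field F) (_ : Fintype F), Fintype.card F = 2 ∧
      Nonempty (↥S.L ≃* Matrix.ProjectiveSpecialLinearGroup (Fin 4) F))
  | fi (h : Spor.IsoFi22 X) (ho : S.Outer) (hL : ∃ (F : Type) (_ : Field F) (_ : Fintype F), Fintype.card F = 2 ∧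
      Nonempty ((↥S.L ⧸ center ↥S.L) ≃* Cfsg.POmega F (Cfsg.quadFormPlus 4 F)))
  | alt (h : Nonempty (X ≃* ↥(alternatingGroup (Fin 10)))) (hL : ∃ (F : Type) (_ : Field F) (_ : Fintype F), Fintype.card F = 2 ∧
      Nonempty ((↥S.L ⧸ center ↥S.L) ≃* Matrix.ProjectiveSpecialLinearGroup (Fin 4) F))

/-- the conclusion of the statement -/
def Concl (G : Type u) [Group G] (A : Subgroup G) (t : G) : Prop :=
    A ≤ Cfsg.layer G ∧
    (t ∈ Subgroup.center G ∨
      Nonempty ((↥(Cfsg.layer G) ⧸ Subgroup.center ↥(Cfsg.layer G)) ≃* (↥A ⧸ Subgroup.center ↥A) × (↥A ⧸ Subgroup.center ↥A)) ∨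
      ((Cfsg.IsLieTypeChar 2 (↥(Cfsg.layer G) ⧸ Subgroup.center ↥(Cfsg.layer G)) ∨ Cfsg.Lie.IsoTits (↥(Cfsg.layer G) ⧸ Subgroup.center ↥(Cfsg.layer G))) ∧ ¬ (∃ e : G, e ∈ Cfsg.layer G ∧ ∀ x ∈ Cfsg.layer G, t * x * t⁻¹ = e * x * e⁻¹)) ∨
      (∃ (F : Type) (_ : Field F) (_ : Fintype F), Fintype.card F = 2 ∧ Nonempty (↥A ≃* Matrix.ProjectiveSpecialLinearGroup (Fin 4) F) ∧
        Nonempty (G ≃* MulAut ↥Cfsg.Spor.HS)) ∨
      (∃ (F : Type) (_ : Field F) (_ : Fintype F), Fintype.card F = 2 ∧ Nonempty ((↥A ⧸ Subgroup.center ↥A) ≃* Cfsg.POmega F (Cfsg.quadFormPlus 4 F)) ∧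
        Nonempty (G ≃* MulAut Cfsg.Spor.Fi22)) ∨
      (∃ (F : Type) (_ : Field F) (_ : Fintype F), Fintype.card F = 2 ∧ Nonempty ((↥A ⧸ Subgroup.center ↥A) ≃* Matrix.ProjectiveSpecialLinearGroup (Fin 4) F) ∧
        Nonempty ((↥(Cfsg.layer G) ⧸ Subgroup.center ↥(Cfsg.layer G)) ≃* ↥(alternatingGroup (Fin 10)))))

/-- The hypothesis on the centralizer -/
def Cyc {G : Type u} [Group G] (A : Subgroup G) : Prop :=
  ∀ R : Sylow 2 ↥(Subgroup.centralizer (A : Set G)), IsCyclic ↥(R : Subgroup ↥(Subgroup.centralizer (A : Set G)))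

section tools

/-- a cyclic group has at most one involution -/
theorem cyclic_uniq {R : Type u} [Group R] [Finite R] [IsCyclic R] {a b : R} (ha : a * a = 1) (ha1 : a ≠ 1)
    (hb : b * b = 1) (hb1 : b ≠ 1) : a = b := by
  classical
  have hf := Fintype.ofFinite R
  by_contra hab
  have h1 := IsCyclic.card_pow_eq_one_le (α := R) (n := 2) (by norm_num)
  have h2 : ({1, a, b} : Finset R) ⊆ Finset.univ.filter (fun x : R => x ^ 2 = 1) := by
    intro x hx
    rw [Finset.mem_filter]
    refine ⟨Finset.mem_univ _, ?_⟩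
    simp only [Finset.mem_insert, Finset.mem_singleton] at hx
    rcases hx with rfl | rfl | rfl
    · exact one_pow 2
    · rw [pow_two]; exact ha
    · rw [pow_two]; exact hb
  have h3 := Finset.card_le_card h2
  have h4 : ({1, a, b} : Finset R).card = 3 := by
    rw [Finset.card_insert_of_notMem, Finset.card_pair hab]
    simp only [Finset.mem_insert, Finset.mem_singleton, not_or]
    exact ⟨fun h => ha1 h.symm, fun h => hb1 h.symm⟩
  omega

/-- the involutions commuting with `t` in a group with cyclic Sylow 2-subgroups -/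
theorem eq_of_comm {C : Type u} [Group C] [Finite C] (hR : ∀ R : Sylow 2 C, IsCyclic ↥(R : Subgroup C)) {a b : C}
    (ha : orderOf a = 2) (hb : orderOf b = 2) (hab : a * b = b * a) : a = b := by
  have : Fact (Nat.Prime 2) := ⟨Nat.prime_two⟩
  have haa : a * a = 1 := by rw [← pow_two, ← ha, pow_orderOf_eq_one]
  have hbb : b * b = 1 := by rw [← pow_two, ← hb, pow_orderOf_eq_one]
  have ha1 : a ≠ 1 := by
    rintro rfl
    rw [orderOf_one] at ha
    omega
  have hb1 : b ≠ 1 := by
    rintro rfl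
    rw [orderOf_one] at hb
    omega
  -- the group generated by `a` and `b` is a 2-group
  let H : Subgroup C := closure {a, b}
  have hcomm : ∀ x ∈ H, ∀ y ∈ H, x * y = y * x := by
    have h1 : H ≤ centralizer (H : Set C) := by
      rw [closure_le]
      have h2 : ∀ z ∈ ({a, b} : Set C), ∀ w ∈ ({a, b} : Set C), z * w = w * z := by
        rintro z (rfl | rfl) w (rfl | rfl)
        · rfl
        · exact hab
        · exact hab.symm
        · rfl
      intro z hz
      rw [SetLike.mem_coe, mem_centralizer_iff]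
      intro w hw
      have h3 : H ≤ centralizer ({z} : Set C) := by
        rw [closure_le]
        intro v hv
        rw [SetLike.mem_coe, mem_centralizer_singleton_iff]
        exact h2 v hv z hz
      exact mem_centralizer_singleton_iff.1 (h3 hw)
    intro x hx y hy
    exact (mem_centralizer_iff.1 (h1 hx) y hy).symm
  have hsq : ∀ x ∈ H, x * x = 1 := by
    intro x hx
    induction hx using closure_induction with
    | mem y hy =>
      rcases hy with rfl | rfl
      · exact haa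
      · exact hbb
    | one => rw [one_mul]
    | mul y z hy hz ihy ihz =>
      calc y * z * (y * z) = y * (z * y) * z := by group
        _ = y * (y * z) * z := by rw [hcomm z hz y hy]
        _ = (y * y) * (z * z) := by group
        _ = 1 := by rw [ihy, ihz, one_mul]
    | inv y hy ih => rw [← mul_inv_rev, ih, inv_one]
  have hp : IsPGroup 2 ↥H := by
    intro x
    refine ⟨1, Subtype.ext ?_⟩
    rw [pow_one, coe_pow, pow_two]
    exact hsq x x.2
  obtain ⟨R, hR1⟩ := hp.exists_le_sylow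
  have hc := hR R
  have haR : a ∈ (R : Subgroup C) := hR1 (subset_closure (Or.inl rfl))
  have hbR : b ∈ (R : Subgroup C) := hR1 (subset_closure (Or.inr rfl))
  have h1 := cyclic_uniq (R := ↥(R : Subgroup C)) (a := ⟨a, haR⟩) (b := ⟨b, hbR⟩) (Subtype.ext haa)
    (fun h => ha1 (congrArg Subtype.val h)) (Subtype.ext hbb) (fun h => hb1 (congrArg Subtype.val h))
  exact congrArg Subtype.val h1

variable {G : Type u} [Group G]

/-- **The normal case.** -/
theorem central_of_normal [Finite G] (hO : oddCore G = ⊥) {A : Subgroup G} (hn : A.Normal) (hR : Cyc A) {t : G}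
    (ht : orderOf t = 2) (htA : t ∈ centralizer (A : Set G)) : t ∈ center G := by
  have : Fact (Nat.Prime 2) := ⟨Nat.prime_two⟩
  have hCn : (centralizer (A : Set G)).Normal := inferInstance
  have hOC : oddCore ↥(centralizer (A : Set G)) = ⊥ := by
    have h0 : (oddCore ↥(centralizer (A : Set G))).Normal := Lib.Cores.pPrimeCore_normal 2
    have h1 : ((oddCore ↥(centralizer (A : Set G))).map (centralizer (A : Set G)).subtype).IsSubnormal :=
      h0.isSubnormal.trans' hCn.isSubnormal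
    have h2 : (Nat.card ↥((oddCore ↥(centralizer (A : Set G))).map (centralizer (A : Set G)).subtype)).Coprime 2 := by
      rw [← Nat.card_congr ((oddCore ↥(centralizer (A : Set G))).equivMapOfInjective _
        (centralizer (A : Set G)).subtype_injective).toEquiv]
      exact Lib.Cores.pPrimeCore_coprime 2
    have h3 := CompBasic.subnormal_coprime_le_pPrimeCore h1 h2
    have h4 : pPrimeCore 2 G = ⊥ := hO
    rw [h4, le_bot_iff, Subgroup.map_eq_bot_iff_of_injective _ (centralizer (A : Set G)).subtype_injective] at h3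
    exact h3
  obtain ⟨T⟩ : Nonempty (Sylow 2 ↥(centralizer (A : Set G))) := inferInstance
  have hT := hR T
  have h1 := (H474.TwoPerf.isPGroup_of_cyclic hOC T hT).1
  rw [mem_center_iff]
  intro g
  have h2 : g * t * g⁻¹ ∈ centralizer (A : Set G) := hCn.conj_mem t htA g
  have h3 : orderOf (g * t * g⁻¹) = 2 := by
    rw [← ht]
    exact (MulAut.conj g).orderOf_eq t
  have sq : ∀ y : G, orderOf y = 2 → y * y = 1 := fun y hy => by rw [← pow_two, ← hy, pow_orderOf_eq_one]
  have ne : ∀ y : G, orderOf y = 2 → y ≠ 1 := by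
    rintro y hy rfl
    rw [orderOf_one] at hy
    omega
  have h4 := cyclic_uniq (R := ↥(T : Subgroup ↥(centralizer (A : Set G))))
    (a := ⟨⟨g * t * g⁻¹, h2⟩, by rw [h1]; trivial⟩) (b := ⟨⟨t, htA⟩, by rw [h1]; trivial⟩)
    (Subtype.ext (Subtype.ext (sq _ h3))) (fun h => ne _ h3 (congrArg (fun z : ↥(T : Subgroup ↥(centralizer (A : Set G))) =>
      ((z : ↥(centralizer (A : Set G))) : G)) h)) (Subtype.ext (Subtype.ext (sq _ ht)))
    (fun h => ne _ ht (congrArg (fun z : ↥(T : Subgroup ↥(centralizer (A : Set G))) =>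
      ((z : ↥(centralizer (A : Set G))) : G)) h))
  have h5 : g * t * g⁻¹ = t := congrArg (fun z : ↥(T : Subgroup ↥(centralizer (A : Set G))) =>
      ((z : ↥(centralizer (A : Set G))) : G)) h4
  exact mul_inv_eq_iff_eq_mul.1 h5

/-- `BB X A t` is normal -/
theorem BB_normal [Finite G] {X A : Subgroup G} [hX : X.Normal] (hA : IsStandardSubgroup A)
    {t : G} (ht : orderOf t = 2) (htA : t ∈ centralizer (A : Set G)) : (BB X A t).Normal := by
  refine ⟨fun a ha y => ?_⟩
  have hy : ((y : ↥X) : G) ∈ centralizer ({t} : Set G) := by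
    rw [mem_centralizer_singleton_iff]
    exact (mem_fix.1 y.2).symm
  have hn := StandardTrichotomy.centralizer_involution_le hA ht htA hy
  exact (mem_normalizer_iff.1 hn _).1 ha

/-- **The situation in a normal subgroup.** -/
def sit [Finite G] {X A : Subgroup G} [hX : X.Normal] (hc : centralizer (X : Set G) = ⊥) (hA : IsStandardSubgroup A)
    (hAX : A ≤ X) (hZ : Odd (Nat.card ↥(center ↥A))) (hR : Cyc A) {t : G}
    (ht : orderOf t = 2) (htA : t ∈ centralizer (A : Set G)) : Sit ↥X where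
  x := MulAut.conjNormal t
  L := BB X A t
  xx := (comp_fix hc hA hAX ht htA).1
  x1 := (comp_fix hc hA hAX ht htA).2.1
  nrm := BB_normal hA ht htA
  comp := (comp_fix hc hA hAX ht htA).2.2
  odd := by
    rw [Nat.card_congr (CTwoTab.centerEquiv (BBequiv hAX htA)).toEquiv]
    exact hZ
  uniq := by
    intro y hy hy2
    have h1 : ((y : ↥X) : G) ∈ centralizer (A : Set G) := by
      rw [mem_centralizer_iff]
      intro a ha
      have haX : a ∈ X := hAX ha
      have h2 : (⟨a, haX⟩ : ↥X) ∈ fixedSubgroup (MulAut.conjNormal t : MulAut ↥X) :=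
        le_fix htA (mem_subgroupOf.2 ha)
      have h3 := mem_centralizer_iff.1 hy ⟨⟨a, haX⟩, h2⟩ ha
      exact congrArg (fun z : ↥(fixedSubgroup (MulAut.conjNormal t : MulAut ↥X)) => ((z : ↥X) : G)) h3
    have h4 : orderOf ((y : ↥X) : G) = 2 := by rw [Subgroup.orderOf_coe, Subgroup.orderOf_coe, hy2]
    have h5 := eq_of_comm hR (a := (⟨((y : ↥X) : G), h1⟩ : ↥(centralizer (A : Set G)))) (b := ⟨t, htA⟩)
      (by rw [← Subgroup.orderOf_coe]; exact h4) (by rw [← Subgroup.orderOf_coe]; exact ht)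
      (Subtype.ext (mem_fix.1 y.2).symm)
    have h6 : ((y : ↥X) : G) = t := congrArg Subtype.val h5
    ext z
    rw [MulAut.conjNormal_apply, MulAut.conj_apply]
    change ((y : ↥X) : G) * (z : G) * ((y : ↥X) : G)⁻¹ = t * (z : G) * t⁻¹
    rw [h6]

/-- the quotient by the trivial centre -/
theorem quo_simple {Y : Type u} [Group Y] [IsSimpleGroup Y] (hna : ¬ IsMulCommutative Y) : Nonempty (Y ⧸ center Y ≃* Y) := by
  have h1 : center Y = ⊥ := by
    rcases IsSimpleGroup.eq_bot_or_eq_top_of_normal (center Y) inferInstance with h | h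
    · exact h
    · exfalso
      exact hna ⟨⟨fun a b => (mem_center_iff.1 (by rw [h]; trivial : b ∈ center Y) a)⟩⟩
  exact ⟨(QuotientGroup.quotientMulEquivOfEq h1).trans QuotientGroup.quotientBot⟩

/-- the automorphism group of a normal subgroup `X` of index at most 2 in its automorphism group -/
theorem mulAut_of_out [Finite G] {X : Subgroup G} [hX : X.Normal] (hc : centralizer (X : Set G) = ⊥) {t : G}
    (ho : ¬ ∃ g : ↥X, MulAut.conj g = (MulAut.conjNormal t : MulAut ↥X)) {Y : Type*} [Group Y] (e : ↥X ≃* Y)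
    (h2 : Nat.card (Cfsg.Out Y) = 2) : Nonempty (G ≃* MulAut Y) := by
  let φ : G →* MulAut ↥X := MulAut.conjNormal
  let ψ : G →* MulAut Y := (MulAut.congr e).toMonoidHom.comp φ
  have hψ : ∀ g y, ψ g y = e (φ g (e.symm y)) := fun _ _ => rfl
  have hin : ∀ y : Y, ψ ((e.symm y : ↥X) : G) = MulAut.conj y := by
    intro y
    ext z
    rw [hψ]
    have h3 : φ ((e.symm y : ↥X) : G) (e.symm z) = e.symm y * e.symm z * (e.symm y)⁻¹ := by
      apply Subtype.ext
      exact MulAut.conjNormal_apply _ _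
    rw [h3, map_mul, map_mul, map_inv, e.apply_symm_apply, e.apply_symm_apply]
    rfl
  have hto : ψ t ∉ Cfsg.Inn Y := by
    rintro ⟨y, hy⟩
    apply ho
    refine ⟨e.symm y, ?_⟩
    have h3 : ψ ((e.symm y : ↥X) : G) = ψ t := (hin y).trans hy
    have h4 : φ ((e.symm y : ↥X) : G) = φ t := (MulAut.congr e).injective h3
    have h5 : φ ((e.symm y : ↥X) : G) = MulAut.conj (e.symm y) := by
      ext z
      exact MulAut.conjNormal_apply _ _
    rw [← h5, h4]
  have h1 : (QuotientGroup.mk (ψ t) : Cfsg.Out Y) ≠ 1 := by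
    intro h
    exact hto ((QuotientGroup.eq_one_iff _).1 h)
  have hfin : Finite (Cfsg.Out Y) := Nat.finite_of_card_ne_zero (by rw [h2]; norm_num)
  have h3 : ∀ q : Cfsg.Out Y, q = 1 ∨ q = QuotientGroup.mk (ψ t) := by
    intro q
    by_contra hq
    push Not at hq
    classical
    have hf := Fintype.ofFinite (Cfsg.Out Y)
    have h4 : ({1, QuotientGroup.mk (ψ t), q} : Finset (Cfsg.Out Y)).card = 3 := by
      rw [Finset.card_insert_of_notMem, Finset.card_pair (fun h => hq.2 h.symm)]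
      simp only [Finset.mem_insert, Finset.mem_singleton, not_or]
      exact ⟨fun h => h1 h.symm, fun h => hq.1 h.symm⟩
    have h5 := Finset.card_le_univ ({1, QuotientGroup.mk (ψ t), q} : Finset (Cfsg.Out Y))
    rw [h4, ← Nat.card_eq_fintype_card, h2] at h5
    omega
  refine ⟨MulEquiv.ofBijective ψ ⟨?_, ?_⟩⟩
  · rw [injective_iff_map_eq_one]
    intro g hg
    have h4 : φ g = 1 := (MulAut.congr e).injective (by rw [map_one]; exact hg)
    have h5 : g ∈ centralizer (X : Set G) := by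
      rw [mem_centralizer_iff]
      intro y hy
      have h6 := congrArg (fun f : MulAut ↥X => ((f ⟨y, hy⟩ : ↥X) : G)) h4
      change (((MulAut.conjNormal g : MulAut ↥X) ⟨y, hy⟩ : ↥X) : G) = y at h6
      rw [MulAut.conjNormal_apply] at h6
      exact (mul_inv_eq_iff_eq_mul.1 h6).symm
    rw [hc] at h5
    exact mem_bot.1 h5
  · intro α
    rcases h3 (QuotientGroup.mk α) with h | h
    · obtain ⟨y, hy⟩ := (QuotientGroup.eq_one_iff _).1 h
      exact ⟨_, (hin y).trans hy⟩
    · obtain ⟨y, hy⟩ := QuotientGroup.eq.1 h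
      refine ⟨t * ((e.symm y : ↥X) : G)⁻¹, ?_⟩
      rw [map_mul, map_inv, hin]
      have h6 : MulAut.conj y = α⁻¹ * ψ t := hy
      rw [h6]
      group

/-- the quotient of a direct square by its centre -/
theorem quo_prod {Y : Type u} [Group Y] [IsSimpleGroup Y] (hna : ¬ IsMulCommutative Y) {H : Type u} [Group H]
    (e : H ≃* Y × Y) : Nonempty ((H ⧸ center H) ≃* (Y ⧸ center Y) × (Y ⧸ center Y)) := by
  obtain ⟨f⟩ := quo_simple hna
  have h1 : center Y = ⊥ := by
    rcases IsSimpleGroup.eq_bot_or_eq_top_of_normal (center Y) inferInstance with h | h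
    · exact h
    · exfalso
      exact hna ⟨⟨fun a b => (mem_center_iff.1 (by rw [h]; trivial : b ∈ center Y) a)⟩⟩
  have h2 : center (Y × Y) = ⊥ := by
    rw [eq_bot_iff]
    rintro ⟨a, b⟩ h
    rw [mem_center_iff] at h
    have ha : a ∈ center Y := mem_center_iff.2 fun y => congrArg Prod.fst (h (y, 1))
    have hb : b ∈ center Y := mem_center_iff.2 fun y => congrArg Prod.snd (h (1, y))
    rw [h1, mem_bot] at ha hb
    rw [ha, hb]
    exact one_mem _
  exact ⟨((CTwoTab.quoEquiv e).trans ((QuotientGroup.quotientMulEquivOfEq h2).trans QuotientGroup.quotientBot)).trans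
    (MulEquiv.prodCongr f.symm f.symm)⟩

/-- internal direct products -/
theorem prod_equiv {Y Y' E : Subgroup G} (hc : ∀ a ∈ Y, ∀ b ∈ Y', a * b = b * a) (hi : Y ⊓ Y' = ⊥) (hs : Y ⊔ Y' = E) :
    Nonempty (↥E ≃* ↥Y × ↥Y') := by
  have comm : ∀ (m : ↥Y) (n : ↥Y'), Commute (Y.subtype m) (Y'.subtype n) := fun m n => hc m m.2 n n.2
  have h1 : Function.Injective (MonoidHom.noncommCoprod Y.subtype Y'.subtype comm) := by
    rw [MonoidHom.noncommCoprod_injective]
    refine ⟨Y.subtype_injective, Y'.subtype_injective, ?_⟩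
    rw [Subgroup.range_subtype, Subgroup.range_subtype, disjoint_iff]
    exact hi
  have h2 : (MonoidHom.noncommCoprod Y.subtype Y'.subtype comm).range = E := by
    rw [MonoidHom.noncommCoprod_range, Subgroup.range_subtype, Subgroup.range_subtype]
    exact hs
  exact ⟨((MonoidHom.ofInjective h1).trans (MulEquiv.subgroupCongr h2)).symm⟩

end tools

/-- **The reduction.** -/
theorem reduce {G : Type u} [Group G] [Finite G] (hO : oddCore G = ⊥) {A : Subgroup G} (hA : IsStandardSubgroup A)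
    (hZ : Odd (Nat.card ↥(center ↥A))) (hR : Cyc A) {t : G} (ht : orderOf t = 2) (htA : t ∈ centralizer (A : Set G))
    (hHS : Nat.card (Cfsg.Out ↥Spor.HS) = 2) (hFi : Nat.card (Cfsg.Out Spor.Fi22) = 2)
    (hrow : IsSimpleGroup ↥(layer G) → ¬ IsMulCommutative ↥(layer G) → ∀ S : Sit ↥(layer G), Nonempty (↥S.L ≃* ↥A) → Out S) :
    Concl G A t := by
  have hEn : (layer G).Normal := layer_normal G
  by_cases hn : A.Normal
  · refine ⟨?_, Or.inl (central_of_normal hO hn hR ht htA)⟩
    exact component_le_layer ⟨hn.isSubnormal, hA.1⟩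
  rcases S1347.result A hA hO t ht htA with h | ⟨Y, hY, hYn, ⟨e⟩, hcomm, hinf, hsup, -⟩ | ⟨hAE, hs, hna⟩
  · exact absurd h hn
  · -- the wreathed case
    have h2 : pCore 2 G = ⊥ := by
      by_contra h2
      exact hn (StandardTrichotomy.normal_of_pCore_ne_bot hA ht htA h2)
    have hC := StandardTrichotomy.centralizer_layer_eq_bot hO h2
    refine ⟨S1347.le_layer hA hO t ht htA hC, Or.inr (Or.inl ?_)⟩
    obtain ⟨f⟩ := prod_equiv hcomm hinf hsup
    have g : ↥(Y.map (MulAut.conj t).toMonoidHom) ≃* ↥Y :=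
      (Y.equivMapOfInjective _ (MulAut.conj t).injective).symm
    have hsA : IsSimpleGroup ↥A := e.symm.isSimpleGroup
    have hnA : ¬ IsMulCommutative ↥A := fun h => hYn ⟨⟨fun a b => e.injective (by
      rw [map_mul, map_mul]
      exact h.1.1 _ _)⟩⟩
    exact quo_prod hnA (f.trans (MulEquiv.prodCongr e (g.trans e)))
  · have h2 : pCore 2 G = ⊥ := by
      by_contra h2
      exact hn (StandardTrichotomy.normal_of_pCore_ne_bot hA ht htA h2)
    have hC := StandardTrichotomy.centralizer_layer_eq_bot hO h2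
    let S := sit hC hA hAE hZ hR ht htA
    have e : ↥S.L ≃* ↥A := BBequiv hAE htA
    obtain ⟨f⟩ := quo_simple hna
    refine ⟨hAE, ?_⟩
    rcases hrow hs hna S ⟨e⟩ with ⟨h, ho⟩ | ⟨⟨k⟩, ho, F, i1, i2, hF, ⟨g⟩⟩ | ⟨⟨k⟩, ho, F, i1, i2, hF, ⟨g⟩⟩ | ⟨⟨k⟩, F, i1, i2, hF, ⟨g⟩⟩
    · refine Or.inr (Or.inr (Or.inl ⟨?_, ?_⟩))
      · rcases h with h | h
        · exact Or.inl (OddHalf.Known.isLieTypeChar_congr f.symm h)
        · exact Or.inr (OddHalf.Known.isoTits_congr f.symm h)
      · rintro ⟨c, hc, hc'⟩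
        refine ho ⟨⟨c, hc⟩, ?_⟩
        ext z
        rw [MulAut.conj_apply]
        change c * (z : G) * c⁻¹ = (((MulAut.conjNormal t : MulAut ↥(layer G)) z : ↥(layer G)) : G)
        rw [MulAut.conjNormal_apply]
        exact (hc' z z.2).symm
    · exact Or.inr (Or.inr (Or.inr (Or.inl ⟨F, i1, i2, hF, ⟨e.symm.trans g⟩, mulAut_of_out hC ho k hHS⟩)))
    · exact Or.inr (Or.inr (Or.inr (Or.inr (Or.inl ⟨F, i1, i2, hF, ⟨(CTwoTab.quoEquiv e).symm.trans g⟩,
        mulAut_of_out hC ho k hFi⟩))))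
    · exact Or.inr (Or.inr (Or.inr (Or.inr (Or.inr ⟨F, i1, i2, hF, ⟨(CTwoTab.quoEquiv e).symm.trans g⟩,
        ⟨f.trans k⟩⟩))))

end Cfsg.Agent.H7.StdLie
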