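import Cfsg.Agent.H7.StdLieTyp
import Cfsg.Agent.H340.ExcTab
import Cfsg.Agent.H298.EO

/-!
# The rows: alternating, characteristic 2, odd characteristic (helper7)
-/

set_option autoImplicit false
set_option linter.unusedSectionVars false

namespace Cfsg.Agent.H7.StdLie

open Cfsg Subgroup Cfsg.Agent.NotCT Cfsg.Agent.SignalizersComponents Cfsg.Agent.SignalizersComponents.Components

universe u

variable {X : Type u} [Group X] [Finite X] [IsSimpleGroup X]

/-- the centre of a nonabelian simple group -/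
theorem cent_bot {Y : Type u} [Group Y] [IsSimpleGroup Y] (hna : ¬ IsMulCommutative Y) : center Y = ⊥ := by
  rcases IsSimpleGroup.eq_bot_or_eq_top_of_normal (center Y) inferInstance with h | h
  · exact h
  · exfalso
    exact hna ⟨⟨fun a b => (mem_center_iff.1 (by rw [h]; trivial : b ∈ center Y) a)⟩⟩

theorem conj_inj {Y : Type u} [Group Y] (h : center Y = ⊥) : Function.Injective (MulAut.conj : Y →* MulAut Y) := by
  rw [injective_iff_map_eq_one]
  intro g hg
  have h1 : g ∈ center Y := by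
    rw [mem_center_iff]
    intro y
    have h2 := congrArg (fun f : MulAut Y => f y) hg
    change g * y * g⁻¹ = y at h2
    exact (mul_inv_eq_iff_eq_mul.1 h2).symm
  rw [h] at h1
  exact mem_bot.1 h1

/-- the quotient of the component -/
theorem Sit.simple (S : Sit X) : IsSimpleGroup (↥S.L ⧸ center ↥S.L) := S.comp.2.2

theorem Sit.na (S : Sit X) : ¬ IsMulCommutative (↥S.L ⧸ center ↥S.L) := not_comm_quot S.comp.2

omit [IsSimpleGroup X] in
theorem Sit.card_dvd (S : Sit X) : Nat.card (↥S.L ⧸ center ↥S.L) ∣ Nat.card X :=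
  ((card_quotient_dvd_card (center ↥S.L)).trans (card_subgroup_dvd_card S.L)).trans
    (card_subgroup_dvd_card (fixedSubgroup S.x))

/-- **Characteristic 2.** -/
theorem out_lie (hna : ¬ IsMulCommutative X) (h : IsLieTypeChar 2 X ∨ Lie.IsoTits X) (S : Sit X) : Out S := by
  have h1 : IsChevSimple 2 X := by
    rcases h with h | h
    · exact Or.inl h
    · exact Or.inr (Or.inl ⟨rfl, Or.inr (Or.inr h)⟩)
  have hact : H284.CharTwoComp.ACT X := fun u hu =>
    Cfsg.Agent.EvenType.CharTwoCent.char2_centralizer (Cfsg.Agent.EvenType.ChevTwo.charTwo hna h1) hu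
  obtain ⟨-, -, hc, -⟩ := H284.CharTwoComp.of_fix hact S.xx S.comp
  refine Out.lie h ?_
  rintro ⟨g, hg⟩
  have h2 : g ∈ fixedSubgroup S.x := by
    change S.x g = g
    rw [← hg, MulAut.conj_apply, mul_inv_cancel_right]
  have h3 : (⟨g, h2⟩ : ↥(fixedSubgroup S.x)) ∈ centralizer (S.L : Set ↥(fixedSubgroup S.x)) := by
    rw [mem_centralizer_iff]
    intro y _
    apply Subtype.ext
    have h4 : S.x (y : X) = y := y.2
    have h5 : g * (y : X) * g⁻¹ = S.x (y : X) := congrArg (fun f : MulAut X => f (y : X)) hg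
    rw [h4] at h5
    exact (mul_inv_eq_iff_eq_mul.1 h5).symm
  rw [hc, mem_bot] at h3
  have h4 : g = 1 := congrArg Subtype.val h3
  apply S.x1
  rw [← hg, h4, map_one]

/-- **Alternating groups.** -/
theorem out_alt (hna : ¬ IsMulCommutative X) (h : IsAlternating X) (S : Sit X) (hF : Fam (↥S.L ⧸ center ↥S.L)) :
    Out S := by
  obtain ⟨m, hm, ⟨e⟩⟩ := h
  obtain ⟨n, k, hn, hk, hmn, ⟨f⟩, -, h2⟩ := H284.AltComp.table hm e S.xx S.x1 S.comp
  have hsA : IsSimpleGroup ↥(alternatingGroup (Fin n)) :=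
    alternatingGroup.isSimpleGroup (by rw [Nat.card_eq_fintype_card, Fintype.card_fin]; exact hn)
  have hsL : IsSimpleGroup ↥S.L := f.isSimpleGroup
  have hZ := center_eq_bot_of_simple S.comp.2
  obtain ⟨rfl, hL⟩ := fam_alt hF hn
    ⟨((QuotientGroup.quotientMulEquivOfEq hZ).trans QuotientGroup.quotientBot).trans f⟩
  have hk1 : k = 1 := by
    by_contra hk1
    obtain ⟨a, b, ha, hb, ha2, hb2, hab, -⟩ := h2 (by omega)
    apply hab
    apply Subtype.ext
    apply conj_inj (cent_bot hna)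
    rw [S.uniq a ha ha2, S.uniq b hb hb2]
  subst hk1
  subst hmn
  exact Out.alt ⟨e⟩ hL

theorem no_exc {r : ℕ} (hr : r.Prime) (hr2 : r ≠ 2) (hX : IsLieTypeChar r X) (S : Sit X) {τ : H340.ExcId.Ty} {k : ℕ}
    (hk : 1 ≤ k) (h : H340.ExcId.Is τ k (↥S.L ⧸ center ↥S.L)) : False :=
  H340.ExcTab.odd (τ := τ) (n := k) (S := (↥S.L ⧸ center ↥S.L)) ⟨hk, S.xx, S.x1, S.comp, S.odd, ⟨MulEquiv.refl _⟩, h⟩ hr hr2 hX

/-- **Odd characteristic** (classical quotient: helper298). -/
theorem no_odd {r : ℕ} (hr : r.Prime) (hr2 : r ≠ 2) (hX : IsLieTypeChar r X) (S : Sit X)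
    (hF : Fam (↥S.L ⧸ center ↥S.L)) : False := by
  have hn := S.nrm
  rcases hF with h | h | h | h | h | h
  · exact H298.EO.odd_row hr hr2 hX S.x S.xx S.L S.comp.2 S.odd (Or.inl h)
  · exact H298.EO.odd_row hr hr2 hX S.x S.xx S.L S.comp.2 S.odd (Or.inr (Or.inl h))
  · exact H298.EO.odd_row hr hr2 hX S.x S.xx S.L S.comp.2 S.odd (Or.inr (Or.inr (Or.inl h)))
  · exact H298.EO.odd_row hr hr2 hX S.x S.xx S.L S.comp.2 S.odd (Or.inr (Or.inr (Or.inr h)))
  · obtain ⟨F, _, _, _, e⟩ := h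
    obtain ⟨a, ha, hF⟩ := card_pow F 2
    rcases e with e | e | e | e
    · exact no_exc hr hr2 hX S (τ := .F4) ha ⟨F, _, _, hF, e⟩
    · exact no_exc hr hr2 hX S (τ := .E6) ha ⟨F, _, _, hF, e⟩
    · exact no_exc hr hr2 hX S (τ := .E7) ha ⟨F, _, _, hF, e⟩
    · exact no_exc hr hr2 hX S (τ := .E8) ha ⟨F, _, _, hF, e⟩
  · obtain ⟨F, _, _, _, q, hq, e⟩ := h
    obtain ⟨a, ha, hF⟩ := card_pow F 2
    obtain ⟨k, hk, rfl⟩ := exists_root Nat.prime_two two_ne_zero ha (hq.symm.trans hF)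
    exact no_exc hr hr2 hX S (τ := .TE6) hk ⟨F, _, _, hq, e⟩

end Cfsg.Agent.H7.StdLie
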