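import Cfsg.Agent.H7.StdLieBaby
import Cfsg.Agent.H7.StdLieRows
import Cfsg.Agent.H291.PslRow
import Cfsg.Agent.H291.AltSpor
import Cfsg.Agent.S0892
import Cfsg.Agent.S0256

/-!
# The rows: sporadic groups (helper7)

`out_spor` : `X` sporadic, `S : Sit X`, the quotient of the component in the list `Fam`, but not one of the four small groups:
`Out S`.
-/

set_option autoImplicit false
set_option linter.unusedSectionVars false

namespace Cfsg.Agent.H7.StdLie

open Cfsg Subgroup Cfsg.Agent.NotCT Cfsg.Agent.SignalizersComponents Cfsg.Agent.SignalizersComponents.Components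
open Cfsg.Agent.H287

universe u

variable {X : Type u} [Group X] [Finite X]

/-- the check for one type, equality -/
def echk1 (n0 j : ℕ) (ex : List (Typ × ℕ)) (t : Typ) : Bool :=
  !famT t || t.N == 0 || j % t.N != 0 || !decide (t.Valid 2 (j / t.N)) ||
    ((2 ^ (j / t.N)) ^ t.N * t.P (2 ^ (j / t.N)) / t.D (2 ^ (j / t.N)) != n0) || ex.contains (t, j / t.N)

/-- the check of the orders equal to `n0` -/
def echk (n0 a : ℕ) (ex : List (Typ × ℕ)) : Bool := (List.range (a + 1)).all fun j => (typs j).all (echk1 n0 j ex)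

/-- **The types of `Fam` of order `n0`.** -/
theorem mem_of_eq {S : Type u} {t : Typ} {k : ℕ} (hf : famT t = true) (hv : t.Valid 2 k) (h : HasOrd t (2 ^ k) S)
    {n0 a : ℕ} (hd : Nat.card S = n0) (h2 : ¬ 2 ^ (a + 1) ∣ n0) {ex : List (Typ × ℕ)} (hchk : echk n0 a ex = true) :
    (t, k) ∈ ex := by
  have hN := N_pos hv
  have hle : k * t.N ≤ a := by
    by_contra hc
    apply h2
    exact ((pow_dvd_pow 2 (by omega)).trans (dvd_card Nat.prime_two hv h)).trans (dvd_of_eq hd)
  have h1 := (List.all_eq_true.1 hchk) (k * t.N) (List.mem_range.2 (by omega))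
  have h3 := (List.all_eq_true.1 h1) t (mem_typs hv rfl)
  have h4 : k * t.N % t.N = 0 := Nat.mul_mod_left _ _
  have h5 : k * t.N / t.N = k := Nat.mul_div_cancel _ hN
  have hD := D_pos Nat.prime_two hv
  have hc : (2 ^ k) ^ t.N * t.P (2 ^ k) / t.D (2 ^ k) = Nat.card S := by
    have h6 : t.D (2 ^ k) * Nat.card S = (2 ^ k) ^ t.N * t.P (2 ^ k) := h
    rw [← h6]
    exact Nat.mul_div_cancel_left _ hD
  unfold echk1 at h3
  rw [h4, h5, hc] at h3
  simp only [Bool.or_eq_true, beq_iff_eq, bne_iff_ne, ne_eq, Bool.not_eq_true', decide_eq_false_iff_not,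
    List.contains_iff_mem] at h3
  rcases h3 with ((((h3 | h3) | h3) | h3) | h3) | h3
  · rw [hf] at h3; exact absurd h3 (by decide)
  · omega
  · exact absurd trivial h3
  · exact absurd hv h3
  · exact absurd hd h3
  · exact h3

/-- the list for the sporadic groups -/
def exL : List (Typ × ℕ) := smallT ++ [(.L 4, 1), (.L 5, 1), (.L 6, 1), (.L 4, 2), (.L 5, 2), (.L 6, 2)]

/-- the goal for the type -/
def Ok (t : Typ) (k : ℕ) : Prop := (t, k) ∈ smallT ∨ ∃ n, t = .L n

theorem ok_of_mem {t : Typ} {k : ℕ} (h : (t, k) ∈ exL) : Ok t k := by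
  rw [exL, List.mem_append] at h
  rcases h with h | h
  · exact Or.inl h
  · right
    simp only [List.mem_cons, Prod.mk.injEq, List.not_mem_nil, or_false] at h
    rcases h with ⟨h, -⟩ | ⟨h, -⟩ | ⟨h, -⟩ | ⟨h, -⟩ | ⟨h, -⟩ | ⟨h, -⟩ <;> exact ⟨_, h⟩

theorem Sit.orderOf (S : Sit X) : orderOf S.x = 2 := orderOf_eq_prime (by rw [pow_two]; exact S.xx) S.x1

section row

variable (S : Sit X) {t : Typ} {k : ℕ} (hf : famT t = true) (hv : t.Valid 2 k)
  (ht : IsTyp t (2 ^ k) (↥S.L ⧸ center ↥S.L))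

include hf hv ht

theorem row_dvd {n0 : ℕ} (a : ℕ) (hX : Nat.card X = n0) {ex : List (Typ × ℕ)}
    (hc : (decide (n0 % 2 ^ (a + 1) ≠ 0) && dchk n0 a ex) = true) : (t, k) ∈ ex := by
  rw [Bool.and_eq_true, decide_eq_true_eq] at hc
  refine mem_of_dvd hf hv (card_eq Nat.prime_two hv ht) (n0 := n0) ?_ (fun h => hc.1 (Nat.mod_eq_zero_of_dvd h)) hc.2
  rw [← hX]
  exact ((card_quotient_dvd_card (center ↥S.L)).trans (card_subgroup_dvd_card S.L)).trans
    (card_subgroup_dvd_card (fixedSubgroup S.x))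

theorem row_eq {n0 : ℕ} (a : ℕ) (hX : Nat.card (↥S.L ⧸ center ↥S.L) = n0) {ex : List (Typ × ℕ)}
    (hc : (decide (n0 % 2 ^ (a + 1) ≠ 0) && echk n0 a ex) = true) : (t, k) ∈ ex := by
  rw [Bool.and_eq_true, decide_eq_true_eq] at hc
  exact mem_of_eq hf hv (card_eq Nat.prime_two hv ht) hX (fun h => hc.1 (Nat.mod_eq_zero_of_dvd h)) hc.2

/-- **The types.** -/
theorem typ_spor [IsSimpleGroup X] (h : IsSporadicGroup X) : Ok t k := by
  rcases h with h | h | h | h | h | h | h | h | h | h | h | h | h | h | h | h | h | h | h | h | h | h | h | h | h | h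
  · exact ok_of_mem (row_dvd S hf hv ht 4 (Orders.m11 h) (by decide +kernel))
  · exact ok_of_mem (row_dvd S hf hv ht 6 (Orders.m12 h) (by decide +kernel))
  · exact ok_of_mem (row_dvd S hf hv ht 7 (Orders.m22 h) (by decide +kernel))
  · exact ok_of_mem (row_dvd S hf hv ht 7 (Orders.m23 h) (by decide +kernel))
  · exact ok_of_mem (row_dvd S hf hv ht 10 (Orders.m24 h) (by decide +kernel))
  · exact ok_of_mem (row_dvd S hf hv ht 3 (Orders.j1 h) (by decide +kernel))
  · exact ok_of_mem (row_dvd S hf hv ht 7 (Orders.j2 h) (by decide +kernel))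
  · exact ok_of_mem (row_dvd S hf hv ht 7 (Orders.j3 h) (by decide +kernel))
  · exact ok_of_mem (row_dvd S hf hv ht 21 (Orders.j4 h) (by decide +kernel))
  · exact ok_of_mem (row_dvd S hf hv ht 21 (Orders.co1 h) (by decide +kernel))
  · exact ok_of_mem (row_dvd S hf hv ht 18 (Orders.co2 h) (by decide +kernel))
  · exact ok_of_mem (row_dvd S hf hv ht 10 (Orders.co3 h) (by decide +kernel))
  · exact ok_of_mem (row_dvd S hf hv ht 7 (Orders.mcl h) (by decide +kernel))
  · exact ok_of_mem (row_dvd S hf hv ht 9 (Orders.hs h) (by decide +kernel))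
  · exact ok_of_mem (row_dvd S hf hv ht 13 (Orders.suz h) (by decide +kernel))
  · exact ok_of_mem (row_dvd S hf hv ht 10 (Orders.he h) (by decide +kernel))
  · exact ok_of_mem (row_dvd S hf hv ht 14 (Orders.ru h) (by decide +kernel))
  · exact ok_of_mem (row_dvd S hf hv ht 9 (Orders.on h) (by decide +kernel))
  · exact ok_of_mem (row_dvd S hf hv ht 8 (Orders.ly h) (by decide +kernel))
  · exact ok_of_mem (row_dvd S hf hv ht 17 (Orders.fi22 h) (by decide +kernel))
  · -- `Fi23`
    rcases fix_fi23 h S.x S.orderOf S.L S.comp with ⟨-, h1⟩ | ⟨h1, -⟩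
    · exact ok_of_mem (row_eq S hf hv ht 17 h1 (by decide +kernel))
    · exact ok_of_mem (row_eq S hf hv ht 15 h1 (by decide +kernel))
  · -- `Fi24'`
    have hc : center X = ⊥ := CpAut.TwoInner.center_eq_bot_of_card inferInstance (by rw [Orders.fi24 h]; norm_num)
    have hF : FixCard (fun _ m => m = 64561751654400 ∨ m = 4089470473293004800 ∨ m = 9196830720) X := by
      refine FixCard.mk hc ((compCard_fi24 h).mono ?_) (fun x hx ho => ((H291.FiOut.outCard h) x hx ho).mono ?_)
      · intro n m h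
        omega
      · intro n m h
        unfold H291.FiOut.SF at h
        omega
    rcases hF S.x S.orderOf S.L S.comp with h1 | h1 | h1
    · exact ok_of_mem (row_eq S hf hv ht 17 h1 (by decide +kernel))
    · exact ok_of_mem (row_eq S hf hv ht 18 h1 (by decide +kernel))
    · exact ok_of_mem (row_eq S hf hv ht 15 h1 (by decide +kernel))
  · exact ok_of_mem (row_dvd S hf hv ht 14 (Orders.hn h) (by decide +kernel))
  · exact ok_of_mem (row_dvd S hf hv ht 15 (Orders.th h) (by decide +kernel))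
  · exact (Baby.baby h S).elim
  · obtain ⟨-, h1⟩ := fix_m h S.x S.orderOf S.L S.comp
    exact ok_of_mem (row_eq S hf hv ht 41 h1 (by decide +kernel))

end row

/-- a component `2.A₈` has even centre -/
theorem Sit.alt (S : Sit X) {F : Type} [Field F] [Fintype F] (hF : Fintype.card F = 2)
    (e : (↥S.L ⧸ center ↥S.L) ≃* Matrix.ProjectiveSpecialLinearGroup (Fin 4) F) :
    center ↥S.L = ⊥ ∧ Nonempty (↥S.L ≃* ↥(alternatingGroup (Fin 8))) ∧
      Nonempty (↥S.L ≃* Matrix.ProjectiveSpecialLinearGroup (Fin 4) F) := by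
  obtain ⟨f⟩ := S0256.result hF
  have h1 : Nat.card ↥(center ↥S.L) ≤ 2 := S0892.result 8 (by norm_num) (by norm_num) (by norm_num) (center ↥S.L) le_rfl
    (by rw [S.comp.2.1.commutator_eq_top]; exact le_top) (e.trans f)
  have h2 : 0 < Nat.card ↥(center ↥S.L) := Nat.card_pos
  have h3 : Nat.card ↥(center ↥S.L) = 1 := by
    obtain ⟨m, hm⟩ := S.odd
    omega
  have h4 : center ↥S.L = ⊥ := Subgroup.card_eq_one.1 h3
  have e1 : ↥S.L ≃* (↥S.L ⧸ center ↥S.L) :=
    ((QuotientGroup.quotientMulEquivOfEq h4).trans QuotientGroup.quotientBot).symm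
  exact ⟨h4, ⟨(e1.trans e).trans f⟩, ⟨e1.trans e⟩⟩

/-- **Sporadic groups.** -/
theorem out_spor [IsSimpleGroup X] (H1170 : GTwoRows.ONQuot.H1170) (HT : CpAut.TwoRows) (hna : ¬ IsMulCommutative X)
    (h : IsSporadicGroup X) (S : Sit X)
    (hF : Fam (↥S.L ⧸ center ↥S.L)) (hs : ¬ Small (↥S.L ⧸ center ↥S.L)) : Out S := by
  obtain ⟨t, k, hf, hv, ht⟩ := fam_typ hF
  have hk := one_le_k hv
  rcases typ_spor S hf hv ht h with h1 | ⟨n, rfl⟩
  · exact absurd (small_of_typ ht h1) hs
  have hn : 4 ≤ n := of_decide_eq_true hf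
  obtain ⟨F, _, _, hFc, ⟨e⟩⟩ := ht
  by_cases hnk : n = 4 ∧ k = 1
  · obtain ⟨rfl, rfl⟩ := hnk
    have hF2 : Fintype.card F = 2 := by simpa using hFc
    obtain ⟨-, ⟨e1⟩, ⟨e2⟩⟩ := S.alt hF2 e
    have hout : S.Outer := by
      rintro ⟨g, hg⟩
      obtain ⟨x, L, xx, x1, nrm, comp, odd, uniq⟩ := S
      subst hg
      have hc := cent_bot hna
      have hx : orderOf (MulAut.conj g) = 2 := orderOf_eq_prime (by rw [pow_two]; exact xx) x1
      rw [CpAut.orderOf_conj hc] at hx
      have hmap : (L.map (fixedSubgroup (MulAut.conj g)).subtype).subgroupOf (fixedSubgroup (MulAut.conj g)) = L := by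
        rw [subgroupOf, comap_map_eq_self_of_injective (fixedSubgroup (MulAut.conj g)).subtype_injective]
      have h1 : IsComponentOf (L.map (fixedSubgroup (MulAut.conj g)).subtype) (centralizer ({g} : Set X)) := by
        rw [← CpAut.fixedSubgroup_conj]
        exact ⟨map_subtype_le L, by rwa [hmap]⟩
      exact H291.RowsI.inner (Or.inl h) hx h1 le_rfl
        ((L.equivMapOfInjective _ (fixedSubgroup (MulAut.conj g)).subtype_injective).symm.trans e1)
    have hodd : (∀ k, S.x ≠ MulAut.conj k) → ∀ u : ↥(fixedSubgroup S.x), orderOf u = 2 → ∃ a ∈ S.L, u * a ≠ a * u := by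
      intro ho u hu
      by_contra hcon
      push Not at hcon
      refine ho _ (S.uniq u ?_ hu).symm
      rw [mem_centralizer_iff]
      intro y hy
      exact (hcon y hy).symm
    rcases H291.AltSpor.main H1170 HT (Or.inl h) S.xx S.x1 S.nrm le_rfl e1 hodd with ⟨-, h1⟩ | ⟨h1, -⟩
    · exact Out.hs h1 hout ⟨F, _, _, hF2, ⟨e2⟩⟩
    · omega
  · exact (H291.PslRow.row (Or.inl h) S.orderOf S.comp (F := F) ⟨hn, hk, hnk, hFc⟩ e).elim

end Cfsg.Agent.H7.StdLie
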