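import Cfsg.Agent.H7.StdLieDefs
import Cfsg.Agent.NotCT.Fam

/-!
# Lie type in characteristic 2, Lie rank at least 3: types and orders (helper7)

* `famT` : the types of the list `Fam`; `fam_typ` : a group of `Fam` has such a type; `small_iff` : the four small groups;
* `mem_of_dvd` : the types of `Fam` whose order divides `n₀` (checked by the kernel);
* `fam_alt`, `fam_odd`, `fam_spor` : a group of `Fam` is alternating only if it is `A₈`, not of Lie type in odd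
  characteristic, not sporadic.
-/

set_option autoImplicit false

namespace Cfsg.Agent.H7.StdLie

open Cfsg Subgroup Cfsg.Agent.NotCT

universe u

/-- the types of the list -/
def famT : Typ → Bool
  | .L n => decide (4 ≤ n)
  | .S m => decide (3 ≤ m)
  | .U n => decide (6 ≤ n)
  | .OP m => decide (4 ≤ m)
  | .OM m => decide (4 ≤ m)
  | .F4 => true
  | .E6 => true
  | .E7 => true
  | .E8 => true
  | .TE6 => true
  | _ => false

theorem fam_typ {S : Type u} [Group S] (h : Fam S) :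
    ∃ (t : Typ) (k : ℕ), famT t = true ∧ t.Valid 2 k ∧ IsTyp t (2 ^ k) S := by
  rcases h with h | h | h | h | h | h
  · obtain ⟨F, _, _, _, n, hn, e⟩ := h
    obtain ⟨a, ha, hF⟩ := card_pow F 2
    exact ⟨.L n, a, decide_eq_true hn, ⟨ha, by omega, fun h => by omega⟩, F, _, _, hF, e⟩
  · obtain ⟨F, _, _, _, n, hn, e⟩ := h
    obtain ⟨a, ha, hF⟩ := card_pow F 2
    exact ⟨.S n, a, decide_eq_true hn, ⟨ha, by omega, fun h => by omega⟩, F, _, _, hF, e⟩
  · obtain ⟨F, _, _, _, n, q, hn, hq, e⟩ := h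
    obtain ⟨a, ha, hF⟩ := card_pow F 2
    obtain ⟨k, hk, rfl⟩ := exists_root Nat.prime_two two_ne_zero ha (hq.symm.trans hF)
    exact ⟨.U n, k, decide_eq_true hn, ⟨hk, by omega, fun h => by omega⟩, F, _, _, hq, e⟩
  · obtain ⟨F, _, _, _, n, hn, e | ⟨b, c, hbc, e⟩⟩ := h
    · obtain ⟨a, ha, hF⟩ := card_pow F 2
      exact ⟨.OP n, a, decide_eq_true hn, ⟨ha, hn⟩, F, _, _, hF, e⟩
    · obtain ⟨a, ha, hF⟩ := card_pow F 2
      exact ⟨.OM n, a, decide_eq_true hn, ⟨ha, hn⟩, F, _, _, b, c, hF, hbc, e⟩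
  · obtain ⟨F, _, _, _, e⟩ := h
    obtain ⟨a, ha, hF⟩ := card_pow F 2
    rcases e with e | e | e | e
    · exact ⟨.F4, a, rfl, ha, F, _, _, hF, e⟩
    · exact ⟨.E6, a, rfl, ha, F, _, _, hF, e⟩
    · exact ⟨.E7, a, rfl, ha, F, _, _, hF, e⟩
    · exact ⟨.E8, a, rfl, ha, F, _, _, hF, e⟩
  · obtain ⟨F, _, _, _, q, hq, e⟩ := h
    obtain ⟨a, ha, hF⟩ := card_pow F 2
    obtain ⟨k, hk, rfl⟩ := exists_root Nat.prime_two two_ne_zero ha (hq.symm.trans hF)
    exact ⟨.TE6, k, rfl, hk, F, _, _, hq, e⟩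

/-- the four small groups -/
def smallT : List (Typ × ℕ) := [(.S 3, 1), (.OP 4, 1), (.OM 4, 1), (.U 6, 1)]

theorem small_of_typ {S : Type u} [Group S] {t : Typ} {k : ℕ} (h : IsTyp t (2 ^ k) S) (hm : (t, k) ∈ smallT) :
    Small S := by
  simp only [smallT, List.mem_cons, Prod.mk.injEq, List.not_mem_nil, or_false] at hm
  rcases hm with ⟨rfl, rfl⟩ | ⟨rfl, rfl⟩ | ⟨rfl, rfl⟩ | ⟨rfl, rfl⟩
  · obtain ⟨F, i1, i2, hF, e⟩ := h
    exact Or.inl ⟨F, i1, i2, by simpa using hF, Or.inl e⟩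
  · obtain ⟨F, i1, i2, hF, e⟩ := h
    exact Or.inl ⟨F, i1, i2, by simpa using hF, Or.inr (Or.inl e)⟩
  · obtain ⟨F, i1, i2, b, c, hF, hbc, e⟩ := h
    exact Or.inl ⟨F, i1, i2, by simpa using hF, Or.inr (Or.inr ⟨b, c, hbc, e⟩)⟩
  · obtain ⟨F, i1, i2, hF, e⟩ := h
    exact Or.inr ⟨F, i1, i2, by simpa using hF, e⟩

/-- the check for one type -/
def dchk1 (n0 j : ℕ) (ex : List (Typ × ℕ)) (t : Typ) : Bool :=
  !famT t || t.N == 0 || j % t.N != 0 || !decide (t.Valid 2 (j / t.N)) ||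
    n0 % ((2 ^ (j / t.N)) ^ t.N * t.P (2 ^ (j / t.N)) / t.D (2 ^ (j / t.N))) != 0 || ex.contains (t, j / t.N)

/-- the check of the orders dividing `n0` -/
def dchk (n0 a : ℕ) (ex : List (Typ × ℕ)) : Bool := (List.range (a + 1)).all fun j => (typs j).all (dchk1 n0 j ex)

/-- **The types of `Fam` whose order divides `n0`.** -/
theorem mem_of_dvd {S : Type u} {t : Typ} {k : ℕ} (hf : famT t = true) (hv : t.Valid 2 k) (h : HasOrd t (2 ^ k) S)
    {n0 a : ℕ} (hd : Nat.card S ∣ n0) (h2 : ¬ 2 ^ (a + 1) ∣ n0) {ex : List (Typ × ℕ)} (hchk : dchk n0 a ex = true) :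
    (t, k) ∈ ex := by
  have hN := N_pos hv
  have hle : k * t.N ≤ a := by
    by_contra hc
    apply h2
    exact ((pow_dvd_pow 2 (by omega)).trans (dvd_card Nat.prime_two hv h)).trans hd
  have h1 := (List.all_eq_true.1 hchk) (k * t.N) (List.mem_range.2 (by omega))
  have h3 := (List.all_eq_true.1 h1) t (mem_typs hv rfl)
  have h4 : k * t.N % t.N = 0 := Nat.mul_mod_left _ _
  have h5 : k * t.N / t.N = k := Nat.mul_div_cancel _ hN
  have hD := D_pos Nat.prime_two hv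
  have hc : (2 ^ k) ^ t.N * t.P (2 ^ k) / t.D (2 ^ k) = Nat.card S := by
    have h6 : t.D (2 ^ k) * Nat.card S = (2 ^ k) ^ t.N * t.P (2 ^ k) := h
    rw [← h6]
    exact Nat.mul_div_cancel_left _ hD
  unfold dchk1 at h3
  rw [h4, h5, hc] at h3
  have h6 : n0 % Nat.card S = 0 := Nat.mod_eq_zero_of_dvd hd
  simp only [Bool.or_eq_true, beq_iff_eq, bne_iff_ne, ne_eq, Bool.not_eq_true', decide_eq_false_iff_not,
    List.contains_iff_mem] at h3
  rcases h3 with ((((h3 | h3) | h3) | h3) | h3) | h3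
  · rw [hf] at h3; exact absurd h3 (by decide)
  · omega
  · exact absurd trivial h3
  · exact absurd hv h3
  · exact absurd h6 h3
  · exact h3

/-- `|S|` divides the order of `S` of a group of the list: at least `20160` divides -/
theorem fam_alt {S : Type u} [Group S] (h : Fam S) {n : ℕ} (hn : 5 ≤ n) (e : Nonempty (S ≃* ↥(alternatingGroup (Fin n)))) :
    n = 8 ∧ ∃ (F : Type) (_ : Field F) (_ : Fintype F), Fintype.card F = 2 ∧
      Nonempty (S ≃* Matrix.ProjectiveSpecialLinearGroup (Fin 4) F) := by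
  obtain ⟨t, k, hf, hv, ht⟩ := fam_typ h
  rcases no_alt hv (card_eq Nat.prime_two hv ht) hn e with ⟨-, rfl, -⟩ | ⟨hn, ⟨rfl, rfl⟩ | ⟨rfl, -⟩⟩
  · exact absurd hf (by decide)
  · obtain ⟨F, i1, i2, hF, e⟩ := ht
    exact ⟨hn, F, i1, i2, by simpa using hF, e⟩
  · exact absurd hf (by decide)

theorem fam_lie {S : Type u} [Group S] (h : Fam S) : IsLieTypeChar 2 S := by
  obtain ⟨t, k, hf, hv, ht⟩ := fam_typ h
  exact lie_of_typ Nat.prime_two hv ht

theorem fam_odd {S : Type u} [Group S] [Finite S] [IsSimpleGroup S] (hna : ¬ IsMulCommutative S) (h : Fam S) {p : ℕ}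
    (hp : p.Prime) (hp2 : p ≠ 2) : ¬ IsLieTypeChar p S := by
  intro hl
  obtain ⟨t, k, hf, hv, ht⟩ := fam_typ h
  rcases no_lie hv (card_eq Nat.prime_two hv ht) (noComp_of_chev hna (Or.inl (fam_lie h))) hp hp2 hl with
    ⟨-, rfl, -⟩ | ⟨-, rfl, -⟩ | ⟨-, rfl, -⟩
  · exact absurd hf (by decide)
  · exact absurd hf (by decide)
  · exact absurd hf (by decide)

theorem fam_spor {S : Type u} [Group S] (h : Fam S) : ¬ IsSporadicGroup S := by
  obtain ⟨t, k, hf, hv, ht⟩ := fam_typ h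
  exact no_spor hv (card_eq Nat.prime_two hv ht)

end Cfsg.Agent.H7.StdLie
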