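import Cfsg.Agent.H4.Lf
import Cfsg.Agent.OddOrderLocal.FrobAct
import Cfsg.Agent.LThreeFi24.EmptyAbs
import Cfsg.Agent.Lib.ComponentSolvable

/-!
# The action of `T` on `L / O_2(L)` (helper7)

`T` a 2-subgroup of `G` normalizing the perfect subgroup `L`, `X = L / O_2(L)`, `R = O_2(⟨L, T⟩)`.

* `mem_core`: elements of `T` acting trivially on `X` lie in `R`;
* `cent_le_core`: if `X` is quasisimple, `⟨L, T⟩` normalizes `U` and `L` does not centralize `U`, then `C_T(U) ≤ R`;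
* `exists_card_mul`: if `X` is quasisimple, `|T| = |R ∩ T| m` with `m` dividing `|Aut (X / Z(X))|`.
-/

set_option autoImplicit false

namespace Cfsg.Agent.H7.TopAut

open Subgroup Cfsg.Agent.QTUniq.Local Cfsg.Agent.OddOrderLocal.FrobAct

universe u

variable {G : Type u} [Group G]

/-- `O_2(L)` as a subgroup of `G`. -/
abbrev PP (L : Subgroup G) : Subgroup G := (pCore 2 ↥L).map L.subtype

theorem coreChar {X : Type*} [Group X] : (pCore 2 X).Characteristic := Cfsg.Agent.Lib.Cores.pCore_characteristic 2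

/-- the action of `T` on `L / O_2(L)` -/
noncomputable def act {L T : Subgroup G} (hTL : T ≤ normalizer (L : Set G)) : ↥T →* MulAut (↥L ⧸ pCore 2 ↥L) :=
  have : (pCore 2 ↥L).Characteristic := coreChar
  (quotAut (pCore 2 ↥L)).comp (L.normalizerMonoidHom.comp (inclusion hTL))

theorem act_mk {L T : Subgroup G} (hTL : T ≤ normalizer (L : Set G)) (t : ↥T) (l : ↥L)
    (h : (t : G) * l * (t : G)⁻¹ ∈ L) :
    act hTL t (l : ↥L ⧸ pCore 2 ↥L) = ((⟨(t : G) * l * (t : G)⁻¹, h⟩ : ↥L) : ↥L ⧸ pCore 2 ↥L) := rfl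

theorem conj_mem {L T : Subgroup G} (hTL : T ≤ normalizer (L : Set G)) {t l : G} (ht : t ∈ T) (hl : l ∈ L) :
    t * l * t⁻¹ ∈ L := (mem_normalizer_iff.1 (hTL ht) l).1 hl

theorem mem_PP {L : Subgroup G} {x : G} (hx : x ∈ L) : x ∈ PP L ↔ (⟨x, hx⟩ : ↥L) ∈ pCore 2 ↥L := by
  constructor
  · rintro ⟨⟨y, hy⟩, h1, h2⟩
    have h3 : y = x := h2
    subst h3
    exact h1
  · intro h
    exact ⟨⟨x, hx⟩, h, rfl⟩

theorem act_eq_one_iff {L T : Subgroup G} (hTL : T ≤ normalizer (L : Set G)) (t : ↥T) :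
    act hTL t = 1 ↔ ∀ l ∈ L, (t : G) * l * (t : G)⁻¹ * l⁻¹ ∈ PP L := by
  have hN : (pCore 2 ↥L).Normal := Cfsg.Agent.Lib.Cores.pCore_normal 2
  constructor
  · intro h l hl
    have h1 := congrArg (fun f : MulAut (↥L ⧸ pCore 2 ↥L) => f ((⟨l, hl⟩ : ↥L) : ↥L ⧸ pCore 2 ↥L)) h
    have h2 : (((⟨(t : G) * l * (t : G)⁻¹, conj_mem hTL t.2 hl⟩ : ↥L)) : ↥L ⧸ pCore 2 ↥L) =
      ((⟨l, hl⟩ : ↥L) : ↥L ⧸ pCore 2 ↥L) := h1
    have h3 := QuotientGroup.eq.1 h2.symm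
    have h4 := hN.conj_mem _ h3 ⟨l, hl⟩
    have h5 : (⟨l, hl⟩ : ↥L) * (⟨l, hl⟩⁻¹ * ⟨(t : G) * l * (t : G)⁻¹, conj_mem hTL t.2 hl⟩) * ⟨l, hl⟩⁻¹ =
        ⟨(t : G) * l * (t : G)⁻¹ * l⁻¹, mul_mem (conj_mem hTL t.2 hl) (inv_mem hl)⟩ := by
      apply Subtype.ext
      show l * (l⁻¹ * ((t : G) * l * (t : G)⁻¹)) * l⁻¹ = (t : G) * l * (t : G)⁻¹ * l⁻¹
      group
    rw [h5] at h4
    exact (mem_PP _).2 h4
  · intro h
    apply MulEquiv.ext
    intro x
    obtain ⟨⟨l, hl⟩, rfl⟩ := QuotientGroup.mk_surjective x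
    show (((⟨(t : G) * l * (t : G)⁻¹, conj_mem hTL t.2 hl⟩ : ↥L)) : ↥L ⧸ pCore 2 ↥L) =
      ((⟨l, hl⟩ : ↥L) : ↥L ⧸ pCore 2 ↥L)
    apply Eq.symm
    rw [QuotientGroup.eq]
    have h1 := (mem_PP (mul_mem (conj_mem hTL t.2 hl) (inv_mem hl))).1 (h l hl)
    have h4 := hN.conj_mem _ h1 ⟨l, hl⟩⁻¹
    have h5 : (⟨l, hl⟩ : ↥L)⁻¹ * ⟨(t : G) * l * (t : G)⁻¹ * l⁻¹, mul_mem (conj_mem hTL t.2 hl) (inv_mem hl)⟩ *
        (⟨l, hl⟩⁻¹)⁻¹ = (⟨l, hl⟩⁻¹ * ⟨(t : G) * l * (t : G)⁻¹, conj_mem hTL t.2 hl⟩) := by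
      apply Subtype.ext
      show l⁻¹ * ((t : G) * l * (t : G)⁻¹ * l⁻¹) * l⁻¹⁻¹ = l⁻¹ * ((t : G) * l * (t : G)⁻¹)
      group
    rwa [h5] at h4

theorem normalizer_le_PP (L : Subgroup G) : normalizer (L : Set G) ≤ normalizer (PP L : Set G) := by
  have key : ∀ g ∈ normalizer (L : Set G), ∀ x ∈ PP L, g * x * g⁻¹ ∈ PP L := by
    rintro g hg _ ⟨⟨x, hx⟩, hxP, rfl⟩
    have h1 : (L.normalizerMonoidHom ⟨g, hg⟩) ⟨x, hx⟩ ∈ pCore 2 ↥L := by
      have := (coreChar (X := ↥L)).fixed (L.normalizerMonoidHom ⟨g, hg⟩)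
      rw [← this] at hxP
      exact hxP
    exact ⟨_, h1, rfl⟩
  intro g hg
  rw [mem_normalizer_iff]
  intro x
  refine ⟨key g hg x, fun hx => ?_⟩
  have h8 := key g⁻¹ (Subgroup.inv_mem _ hg) _ hx
  have e : g⁻¹ * (g * x * g⁻¹) * g⁻¹⁻¹ = x := by group
  rwa [e] at h8

theorem PP_le (L : Subgroup G) : PP L ≤ L := map_subtype_le _

/-- Elements of `T` acting trivially on `L / O_2(L)` lie in `O_2(⟨L, T⟩)`. -/
theorem mem_core {L T : Subgroup G} (hT2 : IsPGroup 2 ↥T) (hTL : T ≤ normalizer (L : Set G)) {t : G} (ht : t ∈ T)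
    (h : ∀ l ∈ L, t * l * t⁻¹ * l⁻¹ ∈ PP L) : t ∈ (pCore 2 ↥(L ⊔ T)).map (L ⊔ T).subtype := by
  set D : Subgroup G := (act hTL).ker.map T.subtype with hD
  have hDmem : ∀ {x : G}, x ∈ D ↔ x ∈ T ∧ ∀ l ∈ L, x * l * x⁻¹ * l⁻¹ ∈ PP L := by
    intro x
    constructor
    · rintro ⟨⟨y, hy⟩, h1, h2⟩
      have h3 : y = x := h2
      subst h3
      exact ⟨hy, (act_eq_one_iff hTL ⟨y, hy⟩).1 h1⟩
    · rintro ⟨h1, h2⟩
      exact ⟨⟨x, h1⟩, (act_eq_one_iff hTL ⟨x, h1⟩).2 h2, rfl⟩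
  have hDT : D ≤ T := map_subtype_le _
  have hP2 : IsPGroup 2 ↥(PP L) := map_pCore_isPGroup 2 L
  have hDP : D ≤ normalizer (PP L : Set G) := (hDT.trans hTL).trans (normalizer_le_PP L)
  have h2 : IsPGroup 2 ↥(D ⊔ PP L) := (hT2.to_le hDT).to_sup_of_normal_right' hP2 hDP
  have hle : D ⊔ PP L ≤ L ⊔ T := sup_le (hDT.trans le_sup_right) ((PP_le L).trans le_sup_left)
  have hconj : ∀ g ∈ L ⊔ T, ∀ x ∈ D ⊔ PP L, g * x * g⁻¹ ∈ D ⊔ PP L := by
    have hS : L ⊔ T ≤ normalizer ((D ⊔ PP L : Subgroup G) : Set G) := by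
      have aux : ∀ g : G, (D ⊔ PP L).map (MulAut.conj g).toMonoidHom ≤ D ⊔ PP L →
          (D ⊔ PP L).map (MulAut.conj g⁻¹).toMonoidHom ≤ D ⊔ PP L → g ∈ normalizer ((D ⊔ PP L : Subgroup G) : Set G) := by
        intro g h1 h2
        rw [mem_normalizer_iff]
        intro x
        refine ⟨fun hx => h1 ⟨x, hx, rfl⟩, fun hx => ?_⟩
        have h3 := h2 ⟨_, hx, rfl⟩
        have e : (MulAut.conj g⁻¹).toMonoidHom (g * x * g⁻¹) = x := by
          show g⁻¹ * (g * x * g⁻¹) * g⁻¹⁻¹ = x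
          group
        rwa [e] at h3
      rw [sup_le_iff]
      constructor
      · have aux2 : ∀ l ∈ L, (D ⊔ PP L).map (MulAut.conj l).toMonoidHom ≤ D ⊔ PP L := by
          intro l hl
          rw [Subgroup.map_sup, sup_le_iff]
          constructor
          · rintro _ ⟨d, hd, rfl⟩
            show l * d * l⁻¹ ∈ D ⊔ PP L
            have h3 := (hDmem.1 hd).2 l hl
            have e : l * d * l⁻¹ = (d * l * d⁻¹ * l⁻¹)⁻¹ * d := by group
            rw [e]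
            exact mul_mem (mem_sup_right (inv_mem h3)) (mem_sup_left hd)
          · rintro _ ⟨p, hp, rfl⟩
            exact mem_sup_right ((mem_normalizer_iff.1 (normalizer_le_PP L (le_normalizer hl)) p).1 hp)
        intro l hl
        exact aux l (aux2 l hl) (aux2 l⁻¹ (inv_mem hl))
      · have aux2 : ∀ s ∈ T, (D ⊔ PP L).map (MulAut.conj s).toMonoidHom ≤ D ⊔ PP L := by
          intro s hs
          rw [Subgroup.map_sup, sup_le_iff]
          constructor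
          · rintro _ ⟨_, ⟨d, hd, rfl⟩, rfl⟩
            refine mem_sup_left ⟨⟨s, hs⟩ * d * ⟨s, hs⟩⁻¹, ?_, rfl⟩
            exact (MonoidHom.normal_ker _).conj_mem _ hd _
          · rintro _ ⟨p, hp, rfl⟩
            exact mem_sup_right ((mem_normalizer_iff.1 (normalizer_le_PP L (hTL hs)) p).1 hp)
        intro s hs
        exact aux s (aux2 s hs) (aux2 s⁻¹ (inv_mem hs))
    intro g hg x hx
    exact (mem_normalizer_iff.1 (hS hg) x).1 hx
  have hN : L ⊔ T ≤ normalizer ((D ⊔ PP L : Subgroup G) : Set G) := by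
    intro g hg
    rw [mem_normalizer_iff]
    intro x
    refine ⟨hconj g hg x, fun hx => ?_⟩
    have h3 := hconj g⁻¹ (inv_mem hg) _ hx
    have e : g⁻¹ * (g * x * g⁻¹) * g⁻¹⁻¹ = x := by group
    rwa [e] at h3
  exact le_map_pCore hle h2 hN (mem_sup_left (hDmem.2 ⟨ht, h⟩))

/-- `C_T(U) ≤ O_2(⟨L, T⟩)` -/
theorem cent_le_core [Finite G] {L T U : Subgroup G} (hT2 : IsPGroup 2 ↥T) (hTL : T ≤ normalizer (L : Set G))
    (hp : ⁅L, L⁆ = L) (hq : IsQuasisimple (↥L ⧸ pCore 2 ↥L)) (hU : L ⊔ T ≤ normalizer (U : Set G))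
    (hne : ¬ L ≤ centralizer (U : Set G)) :
    T ⊓ centralizer (U : Set G) ≤ (pCore 2 ↥(L ⊔ T)).map (L ⊔ T).subtype := by
  have hcn : L ⊔ T ≤ normalizer (centralizer (U : Set G) : Set G) := by
    intro g hg
    have hg' := hU hg
    have key : ∀ g ∈ normalizer (U : Set G), ∀ x ∈ centralizer (U : Set G), g * x * g⁻¹ ∈ centralizer (U : Set G) := by
      intro g hg x hx
      rw [mem_centralizer_iff] at hx ⊢
      intro u hu
      have h1 : g⁻¹ * u * g ∈ U := by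
        have := (mem_normalizer_iff.1 (inv_mem hg) u).1 hu
        rwa [inv_inv] at this
      have h2 := hx _ h1
      calc u * (g * x * g⁻¹) = g * ((g⁻¹ * u * g) * x) * g⁻¹ := by group
        _ = g * (x * (g⁻¹ * u * g)) * g⁻¹ := by rw [h2]
        _ = g * x * g⁻¹ * u := by group
    rw [mem_normalizer_iff]
    intro x
    refine ⟨key g hg' x, fun hx => ?_⟩
    have h3 := key g⁻¹ (inv_mem hg') _ hx
    have e : g⁻¹ * (g * x * g⁻¹) * g⁻¹⁻¹ = x := by group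
    rwa [e] at h3
  have hPN : (pCore 2 ↥L).Normal := Cfsg.Agent.Lib.Cores.pCore_normal 2
  set N : Subgroup ↥L := (centralizer (U : Set G)).subgroupOf L with hN
  have hNn : N.Normal := by
    refine ⟨fun n hn g => ?_⟩
    exact (mem_normalizer_iff.1 (hcn (mem_sup_left g.2)) n).1 hn
  -- `N` is central modulo `O_2(L)`
  have hNc : N.map (QuotientGroup.mk' (pCore 2 ↥L)) ≤ center (↥L ⧸ pCore 2 ↥L) := by
    have hNn' : (N.map (QuotientGroup.mk' (pCore 2 ↥L))).Normal :=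
      hNn.map _ (QuotientGroup.mk'_surjective _)
    rcases Cfsg.Agent.Lib.ComponentSolvable.quasisimple_normal_cases hq hNn' with h | h
    · exfalso
      -- `L = N O_2(L)`, so `L / N` is a perfect 2-group
      have h1 : N ⊔ pCore 2 ↥L = ⊤ := by
        have h2 := congrArg (Subgroup.comap (QuotientGroup.mk' (pCore 2 ↥L))) h
        rw [Subgroup.comap_map_eq, QuotientGroup.ker_mk', Subgroup.comap_top] at h2
        exact h2
      have h2 : IsPGroup 2 (↥L ⧸ N) := by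
        have h3 : IsPGroup 2 ↥((pCore 2 ↥L).map (QuotientGroup.mk' N)) :=
          (Cfsg.Agent.Lib.Cores.pCore_isPGroup 2).map _
        have h4 : (pCore 2 ↥L).map (QuotientGroup.mk' N) = ⊤ := by
          have h5 := congrArg (Subgroup.map (QuotientGroup.mk' N)) h1
          rw [Subgroup.map_sup, ← MonoidHom.range_eq_map, MonoidHom.range_eq_top.2 (QuotientGroup.mk'_surjective N)] at h5
          have h6 : N.map (QuotientGroup.mk' N) = ⊥ := by
            rw [eq_bot_iff, map_le_iff_le_comap]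
            intro x hx
            rw [mem_comap, mem_bot]
            exact (QuotientGroup.eq_one_iff x).2 hx
          rwa [h6, bot_sup_eq] at h5
        rw [h4] at h3
        exact h3.of_equiv Subgroup.topEquiv
      have h3 : N = ⊤ := by
        have h4 : ⁅(⊤ : Subgroup (↥L ⧸ N)), (⊤ : Subgroup (↥L ⧸ N))⁆ = ⊤ := by
          have h5 : ⁅(⊤ : Subgroup ↥L), (⊤ : Subgroup ↥L)⁆ = ⊤ := by
            apply Subgroup.map_injective L.subtype_injective
            rw [map_commutator, ← MonoidHom.range_eq_map, range_subtype]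
            exact hp
          have h6 := congrArg (Subgroup.map (QuotientGroup.mk' N)) h5
          rwa [map_commutator, ← MonoidHom.range_eq_map,
            MonoidHom.range_eq_top.2 (QuotientGroup.mk'_surjective N)] at h6
        have hf : Fact (Nat.Prime 2) := ⟨Nat.prime_two⟩
        have h7 : Group.IsSolvable ↥(⊤ : Subgroup (↥L ⧸ N)) := by
          have h8 : IsPGroup 2 ↥(⊤ : Subgroup (↥L ⧸ N)) := h2.of_equiv Subgroup.topEquiv.symm
          have : Group.IsNilpotent ↥(⊤ : Subgroup (↥L ⧸ N)) := h8.isNilpotent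
          exact inferInstance
        have h9 : (⊤ : Subgroup (↥L ⧸ N)) = ⊥ :=
          Cfsg.Agent.TwoFusion.PerfCore.eq_bot_of_perfect_of_solvable h4 h7
        rw [eq_top_iff]
        intro x _
        have h10 : (QuotientGroup.mk' N x) ∈ (⊥ : Subgroup (↥L ⧸ N)) := h9 ▸ mem_top _
        exact (QuotientGroup.eq_one_iff x).1 (mem_bot.1 h10)
      apply hne
      intro l hl
      have : (⟨l, hl⟩ : ↥L) ∈ N := by rw [h3]; exact mem_top _
      exact this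
    · exact h
  rintro t ⟨htT, htU⟩
  refine mem_core hT2 hTL htT ?_
  have h1 : act hTL ⟨t, htT⟩ = 1 := by
    refine Cfsg.Agent.LThreeFi24.EmptyAbs.eq_one_of_quot hq.1 _ fun x => ?_
    obtain ⟨⟨l, hl⟩, rfl⟩ := QuotientGroup.mk_surjective x
    apply hNc
    have h2 : t * l * t⁻¹ * l⁻¹ ∈ L := mul_mem (conj_mem hTL htT hl) (inv_mem hl)
    refine ⟨⟨_, h2⟩, ?_, ?_⟩
    · show t * l * t⁻¹ * l⁻¹ ∈ centralizer (U : Set G)
      have h3 := (mem_normalizer_iff.1 (hcn (mem_sup_left hl)) t⁻¹).1 (inv_mem htU)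
      have e : t * l * t⁻¹ * l⁻¹ = t * (l * t⁻¹ * l⁻¹) := by group
      rw [e]
      exact mul_mem htU h3
    · rfl
  exact (act_eq_one_iff hTL ⟨t, htT⟩).1 h1

/-- The index of `O_2(⟨L, T⟩)` in `T` divides `|Aut (X / Z(X))|`, `X = L / O_2(L)`. -/
theorem exists_card_mul [Finite G] (T : Sylow 2 G) {L : Subgroup G}
    (hTL : (T : Subgroup G) ≤ normalizer (L : Set G)) (hq : IsQuasisimple (↥L ⧸ pCore 2 ↥L)) :
    ∃ m, Nat.card ↥(T : Subgroup G) =
      Nat.card ↥((pCore 2 ↥(L ⊔ (T : Subgroup G))).map (L ⊔ (T : Subgroup G)).subtype) * m ∧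
      m ∣ Nat.card (MulAut ((↥L ⧸ pCore 2 ↥L) ⧸ center (↥L ⧸ pCore 2 ↥L))) := by
  set R : Subgroup G := (pCore 2 ↥(L ⊔ (T : Subgroup G))).map (L ⊔ (T : Subgroup G)).subtype with hR
  have hRT : R ≤ (T : Subgroup G) := map_pCore_le_sylow T le_sup_right
  set f : ↥(T : Subgroup G) →* MulAut ((↥L ⧸ pCore 2 ↥L) ⧸ center (↥L ⧸ pCore 2 ↥L)) :=
    (quotAut (center (↥L ⧸ pCore 2 ↥L))).comp (act hTL) with hf
  have hker : f.ker ≤ R.subgroupOf (T : Subgroup G) := by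
    intro t ht
    have h1 : act hTL t = 1 := by
      refine Cfsg.Agent.LThreeFi24.EmptyAbs.eq_one_of_quot hq.1 _ fun x => ?_
      have h2 := congrArg (fun g : MulAut ((↥L ⧸ pCore 2 ↥L) ⧸ center (↥L ⧸ pCore 2 ↥L)) =>
        g ((x : ↥L ⧸ pCore 2 ↥L) : (↥L ⧸ pCore 2 ↥L) ⧸ center (↥L ⧸ pCore 2 ↥L))) (MonoidHom.mem_ker.1 ht)
      have h3 : (((act hTL t) x : ↥L ⧸ pCore 2 ↥L) : (↥L ⧸ pCore 2 ↥L) ⧸ center (↥L ⧸ pCore 2 ↥L)) =
        (x : (↥L ⧸ pCore 2 ↥L) ⧸ center (↥L ⧸ pCore 2 ↥L)) := h2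
      have h4 := QuotientGroup.eq.1 h3.symm
      have h5 : x * (x⁻¹ * act hTL t x) * x⁻¹ ∈ center (↥L ⧸ pCore 2 ↥L) :=
        (inferInstance : (center (↥L ⧸ pCore 2 ↥L)).Normal).conj_mem _ h4 x
      have e : x * (x⁻¹ * act hTL t x) * x⁻¹ = act hTL t x * x⁻¹ := by group
      rwa [e] at h5
    exact mem_core T.isPGroup' hTL t.2 ((act_eq_one_iff hTL t).1 h1)
  refine ⟨(R.subgroupOf (T : Subgroup G)).index, ?_, ?_⟩
  · have h1 : Nat.card ↥(R.subgroupOf (T : Subgroup G)) = Nat.card ↥R :=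
      Nat.card_congr (Subgroup.subgroupOfEquivOfLe hRT).toEquiv
    rw [← h1]
    exact (Subgroup.card_mul_index _).symm
  · refine (Subgroup.index_dvd_of_le hker).trans ?_
    rw [Subgroup.index_ker]
    exact Subgroup.card_subgroup_dvd_card _

end Cfsg.Agent.H7.TopAut
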