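import Cfsg.Agent.H7.XiRepTwo

/-!
# For `p = 5` there are exactly two maximal subgroups of `P` with fixed points outside `C_V(P)`
-/

set_option autoImplicit false

open scoped commutatorElement

namespace Cfsg.Agent.H7.XiRep

open Subgroup Cfsg
open Cfsg.Agent.QTSolv.Data (Dat mem_normalizer_of_conj mem_normalizer_sup)

variable {H : Type*} [Group H]

theorem exists_mul_of_sup {A B : Subgroup H} (h : A ≤ normalizer (B : Set H)) {x : H} (hx : x ∈ A ⊔ B) :
    ∃ a ∈ A, ∃ b ∈ B, a * b = x := by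
  have h1 : x ∈ ((A ⊔ B : Subgroup H) : Set H) := hx
  rw [coe_mul_of_left_le_normalizer_right A B h] at h1
  exact Set.mem_mul.1 h1

theorem mem_normalizer_commutator [Finite H] {V R : Subgroup H} {b : H} (hb : b ∈ normalizer (V : Set H))
    (hbR : b ∈ normalizer (R : Set H)) : b ∈ normalizer ((⁅V, R⁆ : Subgroup H) : Set H) := by
  have h4 : ⁅V, R⁆ ≤ (⁅V, R⁆ : Subgroup H).comap (MulAut.conj b).toMonoidHom := by
    rw [commutator_le]
    intro v hv y hy
    change b * ⁅v, y⁆ * b⁻¹ ∈ (⁅V, R⁆ : Subgroup H)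
    have h5 : b * ⁅v, y⁆ * b⁻¹ = ⁅b * v * b⁻¹, b * y * b⁻¹⁆ := by
      simp only [commutatorElement_def]; group
    rw [h5]
    exact commutator_mem_commutator ((mem_normalizer_iff.1 hb v).1 hv) ((mem_normalizer_iff.1 hbR y).1 hy)
  exact mem_normalizer_of_conj (fun w hw => h4 hw)

/-- an orbit on the nontrivial elements -/
theorem relIndex_lt_card [Finite H] {P W : Subgroup H} (hPW : P ≤ normalizer (W : Set H)) {w : H} (hw : w ∈ W)
    (hw1 : w ≠ 1) : (centralizer ({w} : Set H)).relIndex P < Nat.card W := by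
  let act : MulAction P W :=
    { smul := fun g v => ⟨(g : H) * v * (g : H)⁻¹, (mem_normalizer_iff.1 (hPW g.2) v).1 v.2⟩
      one_smul := fun v => Subtype.ext (by change (1 : H) * v * (1 : H)⁻¹ = v; simp)
      mul_smul := fun a b v => Subtype.ext (by
        change ((a : H) * b) * v * ((a : H) * b)⁻¹ = (a : H) * ((b : H) * v * (b : H)⁻¹) * (a : H)⁻¹
        group) }
  have hact : ∀ (g : P) (v : W), ((g • v : W) : H) = (g : H) * v * (g : H)⁻¹ := fun g v => rfl
  have hst : MulAction.stabilizer P (⟨w, hw⟩ : W) = (centralizer ({w} : Set H)).subgroupOf P := by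
    ext g
    rw [MulAction.mem_stabilizer_iff, mem_subgroupOf, mem_cen, Subtype.ext_iff, hact]
    exact mul_inv_eq_iff_eq_mul
  have h1 := MulAction.index_stabilizer P (⟨w, hw⟩ : W)
  rw [hst] at h1
  rw [relIndex, h1, ← Set.ncard_univ]
  apply Set.ncard_lt_ncard _ Set.finite_univ
  rw [Set.ssubset_univ_iff]
  intro h
  have h2 : (1 : W) ∈ MulAction.orbit P (⟨w, hw⟩ : W) := by rw [h]; exact Set.mem_univ _
  obtain ⟨g, hg⟩ := h2
  apply hw1
  have h3 : (g : H) * w * (g : H)⁻¹ = 1 := by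
    have h4 := congrArg Subtype.val hg
    exact h4
  have h4 : w = (g : H)⁻¹ * ((g : H) * w * (g : H)⁻¹) * g := by group
  rw [h4, h3]
  group

/-- a submodule of order 16 with the same stabilizer `Y` for all nontrivial elements. -/
structure Line (P F V W Y : Subgroup H) : Prop where
  WV : W ≤ V
  card : Nat.card W = 16
  norm : P ≤ normalizer (W : Set H)
  comm : W ≤ ⁅V, P⁆
  fix : ∀ w ∈ W, w ≠ 1 → P ⊓ centralizer ({w} : Set H) = Y
  FY : F ≤ Y
  YP : Y ≤ P
  Ycard : Nat.card Y = 5 * Nat.card F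

namespace Conf

variable {p : ℕ} {P S F V : Subgroup H}

theorem exists_gen [Finite H] (C : Conf p P S F V) {x : H} (hx : x ∈ P) (hxF : x ∉ F) :
    ∃ s ∈ S, zpowers x ⊔ zpowers (s * x * s⁻¹) = P := by
  have hFP := C.dat.F_le
  set R : Subgroup H := zpowers x ⊔ F with hR
  have hFR : F ≤ R := le_sup_right
  have hRP : R ≤ P := sup_le ((zpowers_le).2 hx) hFP
  have hxR : x ∈ R := mem_sup_left (mem_zpowers x)
  have hRF : R ≠ F := fun h => hxF (h ▸ hxR)
  have hRne : R ≠ P := C.dat.ne_top_zpowers hx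
  obtain ⟨s, hs, hsR⟩ := C.exists_conj_not_mem hFR hRP hRF hRne
  have hRc := card_mid C.dat.prime C.dat.card hFR hRP hRF hRne
  set x' : H := s * x * s⁻¹ with hx'
  have hx'P : x' ∈ P := (mem_normalizer_iff.1 (C.dat.S_le hs) x).1 hx
  have hFs : F.map (MulAut.conj s).toMonoidHom = F := map_conj_of_mem_normalizer (C.dat.F_norm hs)
  have hx'R : x' ∉ R := by
    intro h
    apply hsR
    have h1 : R.map (MulAut.conj s).toMonoidHom ≤ R := by
      rw [hR, Subgroup.map_sup, hFs]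
      refine sup_le ?_ hFR
      rw [MonoidHom.map_zpowers, zpowers_le]
      exact h
    refine Subgroup.eq_of_le_of_card_ge h1 ?_
    rw [card_map_of_injective (f := (MulAut.conj s).toMonoidHom) (MulAut.conj s).injective]
  refine ⟨s, hs, ?_⟩
  rw [← hx']
  apply C.dat.ngen _ (sup_le ((zpowers_le).2 hx) ((zpowers_le).2 hx'P))
  have h1 : R ≤ (zpowers x ⊔ zpowers x') ⊔ F := sup_le (le_sup_left.trans le_sup_left) le_sup_right
  have h2 : (zpowers x ⊔ zpowers x') ⊔ F ≤ P :=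
    sup_le (sup_le ((zpowers_le).2 hx) ((zpowers_le).2 hx'P)) hFP
  rcases eq_or_of_card C.dat.prime (by rw [hRc, C.dat.card]; ring : Nat.card P = p * Nat.card R) h1 h2 with h | h
  · exfalso
    apply hx'R
    rw [← h]
    exact mem_sup_left (mem_sup_right (mem_zpowers x'))
  · exact h

/-- the commutator of `x` is a line -/
theorem line [Finite H] (C : Conf 5 P S F V) (hFV : F ≤ centralizer (V : Set H)) {x : H} (hx : x ∈ P) (hxF : x ∉ F)
    (hix : ix V x = 16) : ∃ W Y : Subgroup H, Line P F V W Y := by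
  have hpf : Fact (Nat.Prime 5) := ⟨Nat.prime_five⟩
  have hFP := C.dat.F_le
  set R : Subgroup H := zpowers x ⊔ F with hR
  have hFR : F ≤ R := le_sup_right
  have hRP : R ≤ P := sup_le ((zpowers_le).2 hx) hFP
  have hxR : x ∈ R := mem_sup_left (mem_zpowers x)
  have hcR : V ⊓ centralizer (R : Set H) = V ⊓ centralizer ({x} : Set H) := by
    apply le_antisymm
    · exact inf_le_inf_left _ (centralizer_le (Set.singleton_subset_iff.2 hxR))
    · rintro v ⟨hv, hvx⟩
      refine ⟨hv, ?_⟩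
      have h1 : R ≤ centralizer ({v} : Set H) := by
        refine sup_le ?_ (hFV.trans (centralizer_le (Set.singleton_subset_iff.2 hv)))
        rw [zpowers_le, mem_cen]
        exact (mem_cen.1 hvx).symm
      refine mem_centralizer_iff.2 ?_
      intro r hr
      exact mem_cen.1 (h1 hr)
  have hPR : P ≤ normalizer (R : Set H) := C.P_le_normalizer_F hFR hRP
  have hRV : R ≤ normalizer (V : Set H) := hRP.trans C.PV
  have hRodd : Odd (Nat.card R) := by
    obtain ⟨n, hn⟩ := IsPGroup.iff_card.1 (C.dat.pgroup.to_le hRP)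
    rw [hn]
    exact Odd.pow (by decide)
  obtain ⟨h0, h1, h2, h3⟩ := split C.Vc hRV (coprime_of_odd C.Vp hRodd)
  set W : Subgroup H := ⁅V, R⁆ with hW
  rw [hcR] at h1 h2 h3
  have hWc : Nat.card W = 16 := by
    have h4 := card_eq V x
    rw [hix, ← h3] at h4
    have h5 : 0 < Nat.card ↥(V ⊓ centralizer ({x} : Set H)) := Nat.card_pos
    exact (Nat.eq_of_mul_eq_mul_left h5 h4).symm
  have hPW : P ≤ normalizer (W : Set H) := fun y hy => mem_normalizer_commutator (C.PV hy) (hPR hy)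
  have hWx : ∀ w ∈ W, w * x = x * w → w = 1 := by
    intro w hw hwx
    have h4 : w ∈ (V ⊓ centralizer ({x} : Set H)) ⊓ W := ⟨⟨h0 hw, mem_cen.2 hwx⟩, hw⟩
    rw [h1] at h4
    exact mem_bot.1 h4
  -- stabilizers
  have hstab : ∀ w ∈ W, w ≠ 1 → Nat.card ↥(P ⊓ centralizer ({w} : Set H)) = 5 * Nat.card F ∧
      F ≤ P ⊓ centralizer ({w} : Set H) := by
    intro w hw hw1
    have hFw : F ≤ P ⊓ centralizer ({w} : Set H) :=
      le_inf hFP (hFV.trans (centralizer_le (Set.singleton_subset_iff.2 (h0 hw))))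
    refine ⟨?_, hFw⟩
    apply card_mid C.dat.prime C.dat.card hFw inf_le_left
    · intro h
      have h4 := relIndex_lt_card hPW hw hw1
      rw [hWc] at h4
      have h5 := relIndex_mul_relIndex (⊥ : Subgroup H) (P ⊓ centralizer ({w} : Set H)) P bot_le inf_le_left
      rw [relIndex_bot_left, relIndex_bot_left, inf_relIndex_left, h, C.dat.card, mul_comm] at h5
      have h6 := Nat.eq_of_mul_eq_mul_right Nat.card_pos h5
      omega
    · intro h
      apply hw1
      apply hWx w hw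
      have h4 : x ∈ P ⊓ centralizer ({w} : Set H) := by rw [h]; exact hx
      exact (mem_cen.1 h4.2).symm
  -- an element of `W`
  obtain ⟨w, hw, hw1⟩ : ∃ w ∈ W, w ≠ 1 := by
    have h4 : W ≠ ⊥ := by
      intro h
      rw [h, card_bot] at hWc
      omega
    obtain ⟨a, ha⟩ := (Subgroup.ne_bot_iff_exists_ne_one (H := W)).1 h4
    exact ⟨a, a.2, fun h => ha (Subtype.ext h)⟩
  set Y : Subgroup H := P ⊓ centralizer ({w} : Set H) with hY
  obtain ⟨hYc, hFY⟩ := hstab w hw hw1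
  rw [← hY] at hYc hFY
  have hYP : Y ≤ P := inf_le_left
  have hPY : P ≤ normalizer (Y : Set H) := C.P_le_normalizer_F hFY hYP
  -- `Y` centralizes `W`
  set D : Subgroup H := W ⊓ centralizer (Y : Set H) with hD
  have hxD : x ∈ normalizer (D : Set H) := by
    apply mem_normalizer_of_conj
    rintro d ⟨hd1, hd2⟩
    refine ⟨(mem_normalizer_iff.1 (hPW hx) d).1 hd1, ?_⟩
    refine mem_centralizer_iff.2 ?_
    intro y hy
    have h4 : x⁻¹ * y * x ∈ Y := by
      have := (mem_normalizer_iff.1 (inv_mem (hPY hx)) y).1 hy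
      simpa using this
    have h5 := (mem_centralizer_iff.1 hd2) _ h4
    calc y * (x * d * x⁻¹) = x * ((x⁻¹ * y * x) * d) * x⁻¹ := by group
      _ = x * (d * (x⁻¹ * y * x)) * x⁻¹ := by rw [h5]
      _ = _ := by group
  have hDV : D ≤ V := inf_le_left.trans h0
  have hDix : ix D x = Nat.card D := by
    have h4 := card_eq D x
    have h5 : D ⊓ centralizer ({x} : Set H) = ⊥ := by
      rw [eq_bot_iff]
      rintro d ⟨hd1, hd2⟩
      exact mem_bot.2 (hWx d hd1.1 (mem_cen.1 hd2))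
    rw [h5, card_bot, one_mul] at h4
    exact h4
  have hDmod := ix_modEq C.dat.odd (C.Vp.to_le hDV) hxD (C.dat.pow_eq_one x hx)
  rw [hDix] at hDmod
  have hDdvd : Nat.card D ∣ 16 := by rw [← hWc]; exact card_dvd_of_le inf_le_left
  have hDne : Nat.card D ≠ 1 := by
    intro h
    rw [← Subgroup.eq_bot_iff_card] at h
    have h4 : w ∈ D := by
      refine ⟨hw, ?_⟩
      refine mem_centralizer_iff.2 ?_
      intro y hy
      exact mem_cen.1 hy.2
    rw [h] at h4
    exact hw1 (mem_bot.1 h4)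
  have hD16 : Nat.card D = 16 := by
    have h4 : Nat.card D ∈ Nat.divisors 16 := Nat.mem_divisors.2 ⟨hDdvd, by norm_num⟩
    have h5 : Nat.divisors 16 = {1, 2, 4, 8, 16} := by decide
    rw [h5] at h4
    simp only [Finset.mem_insert, Finset.mem_singleton] at h4
    rcases h4 with h4 | h4 | h4 | h4 | h4
    · exact absurd h4 hDne
    · rw [h4] at hDmod; exact absurd hDmod (by decide)
    · rw [h4] at hDmod; exact absurd hDmod (by decide)
    · rw [h4] at hDmod; exact absurd hDmod (by decide)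
    · exact h4
  have hDW : D = W := Subgroup.eq_of_le_of_card_ge inf_le_left (by rw [hD16, hWc])
  have hYW : ∀ w' ∈ W, Y ≤ P ⊓ centralizer ({w'} : Set H) := by
    intro w' hw' y hy
    refine ⟨hYP hy, ?_⟩
    have h4 : w' ∈ D := by rw [hDW]; exact hw'
    exact mem_cen.2 ((mem_centralizer_iff.1 h4.2) y hy)
  refine ⟨W, Y, h0, hWc, hPW, commutator_mono le_rfl hRP, ?_, hFY, hYP, hYc⟩
  intro w' hw' hw'1
  refine (Subgroup.eq_of_le_of_card_ge (hYW w' hw') ?_).symm
  rw [(hstab w' hw' hw'1).1, hYc]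

/-- conjugates of a line -/
theorem line_conj [Finite H] {W Y : Subgroup H} (L : Line P F V W Y) {s : H} (hP : s ∈ normalizer (P : Set H))
    (hF : s ∈ normalizer (F : Set H)) (hV : s ∈ normalizer (V : Set H)) :
    Line P F V (W.map (MulAut.conj s).toMonoidHom) (Y.map (MulAut.conj s).toMonoidHom) := by
  have hinj : Function.Injective (MulAut.conj s).toMonoidHom := (MulAut.conj s).injective
  have hPs := map_conj_of_mem_normalizer hP
  have hFs := map_conj_of_mem_normalizer hF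
  have hVs := map_conj_of_mem_normalizer hV
  refine ⟨?_, ?_, ?_, ?_, ?_, ?_, ?_, ?_⟩
  · calc W.map (MulAut.conj s).toMonoidHom ≤ V.map (MulAut.conj s).toMonoidHom := map_mono L.WV
      _ = V := hVs
  · rw [card_map_of_injective hinj, L.card]
  · intro y hy
    apply mem_normalizer_of_conj
    rintro _ ⟨w, hw, rfl⟩
    have hy' : s⁻¹ * y * s ∈ P := by
      have := (mem_normalizer_iff.1 (inv_mem hP) y).1 hy
      simpa using this
    have h1 := (mem_normalizer_iff.1 (L.norm hy') w).1 hw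
    refine ⟨_, h1, ?_⟩
    change s * (s⁻¹ * y * s * w * (s⁻¹ * y * s)⁻¹) * s⁻¹ = y * (s * w * s⁻¹) * y⁻¹
    group
  · calc W.map (MulAut.conj s).toMonoidHom ≤ (⁅V, P⁆ : Subgroup H).map (MulAut.conj s).toMonoidHom := map_mono L.comm
      _ = ⁅V, P⁆ := by rw [map_commutator, hVs, hPs]
  · rintro _ ⟨w, hw, rfl⟩ hne
    have hw1 : w ≠ 1 := by
      rintro rfl
      exact hne (map_one _)
    have h1 := L.fix w hw hw1
    rw [← h1, map_inf _ _ _ hinj, hPs, map_centralizer_conj]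
    rfl
  · calc F = F.map (MulAut.conj s).toMonoidHom := hFs.symm
      _ ≤ _ := map_mono L.FY
  · calc Y.map (MulAut.conj s).toMonoidHom ≤ P.map (MulAut.conj s).toMonoidHom := map_mono L.YP
      _ = P := hPs
  · rw [card_map_of_injective hinj, L.Ycard]

/-- **The two lines.** -/
theorem pair [Finite H] (C : Conf 5 P S F V) (hFV : F ≤ centralizer (V : Set H)) {x : H} (hx : x ∈ P) (hxF : x ∉ F)
    (hix : ix V x = 16) : ∃ W₁ Y₁ W₂ Y₂ : Subgroup H, Line P F V W₁ Y₁ ∧ Line P F V W₂ Y₂ ∧ Y₁ ≠ Y₂ ∧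
      ∀ Z : Subgroup H, Z ≤ P → Nat.card Z = 5 * Nat.card F →
        ¬ (V ⊓ centralizer (Z : Set H) ≤ centralizer (P : Set H)) → Z = Y₁ ∨ Z = Y₂ := by
  have hpf : Fact (Nat.Prime 5) := ⟨Nat.prime_five⟩
  have hFP := C.dat.F_le
  obtain ⟨W₁, Y₁, L₁⟩ := C.line hFV hx hxF hix
  have hFpos : 0 < Nat.card F := Nat.card_pos
  have hY1F : Y₁ ≠ F := by
    intro h
    have h1 := L₁.Ycard
    rw [h] at h1
    omega
  have hY1P : Y₁ ≠ P := by
    intro h
    have h1 := L₁.Ycard
    rw [h, C.dat.card] at h1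
    omega
  obtain ⟨s, hs, hsY⟩ := C.exists_conj_not_mem L₁.FY L₁.YP hY1F hY1P
  have L₂ := line_conj L₁ (C.dat.S_le hs) (C.dat.F_norm hs) (C.SV hs)
  set W₂ := W₁.map (MulAut.conj s).toMonoidHom with hW₂
  set Y₂ := Y₁.map (MulAut.conj s).toMonoidHom with hY₂
  refine ⟨W₁, Y₁, W₂, Y₂, L₁, L₂, hsY.symm, ?_⟩
  have hWW : W₁ ⊓ W₂ = ⊥ := by
    rw [eq_bot_iff]
    rintro w ⟨h1, h2⟩
    rw [mem_bot]
    by_contra hw1
    exact hsY ((L₂.fix w h2 hw1).symm.trans (L₁.fix w h1 hw1))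
  have hn : W₂ ≤ normalizer (W₁ : Set H) := by
    intro b hb
    apply mem_normalizer_of_conj
    intro w hw
    have h1 : b * w * b⁻¹ = w := by rw [C.Vc b (L₂.WV hb) w (L₁.WV hw)]; group
    rw [h1]; exact hw
  have hWcard := Cfsg.Agent.SignalizersComponents.InvariantHall.card_sup_of_inf_eq_bot hn hWW
  rw [L₁.card, L₂.card] at hWcard
  -- `|[V, P]| ≤ 256`
  have hPodd : Odd (Nat.card P) := by
    obtain ⟨n, hn⟩ := IsPGroup.iff_card.1 C.dat.pgroup
    rw [hn]
    exact Odd.pow (by decide)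
  obtain ⟨h0, h1, h2, h3⟩ := split C.Vc C.PV (coprime_of_odd C.Vp hPodd)
  have hidx : (centralizer (P : Set H)).relIndex V ≤ 256 := by
    obtain ⟨s', hs', hgen⟩ := C.exists_gen hx hxF
    have h4 : centralizer ({x} : Set H) ⊓ centralizer ({s' * x * s'⁻¹} : Set H) ≤ centralizer (P : Set H) := by
      rw [le_centralizer_iff, ← hgen, sup_le_iff, zpowers_le, zpowers_le]
      constructor
      · rw [mem_centralizer_iff]
        rintro v ⟨hv, -⟩
        exact mem_cen.1 hv
      · rw [mem_centralizer_iff]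
        rintro v ⟨-, hv⟩
        exact mem_cen.1 hv
    calc (centralizer (P : Set H)).relIndex V ≤
          (centralizer ({x} : Set H) ⊓ centralizer ({s' * x * s'⁻¹} : Set H)).relIndex V :=
          relIndex_le_of_le_left h4 (pos_index _ _)
      _ ≤ ix V x * ix V (s' * x * s'⁻¹) := relIndex_inf_le
      _ = 256 := by rw [ix_conj (C.SV hs'), hix]
  have hU : Nat.card ↥(⁅V, P⁆ : Subgroup H) ≤ 256 := by
    have h4 := relIndex_mul_relIndex (⊥ : Subgroup H) (V ⊓ centralizer (P : Set H)) V bot_le inf_le_left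
    rw [relIndex_bot_left, relIndex_bot_left, inf_relIndex_left, ← h3] at h4
    have h5 := Nat.eq_of_mul_eq_mul_left Nat.card_pos h4
    rw [← h5]
    exact hidx
  have hUW : W₁ ⊔ W₂ = ⁅V, P⁆ := by
    refine Subgroup.eq_of_le_of_card_ge (sup_le L₁.comm L₂.comm) ?_
    rw [hWcard]
    exact hU
  intro Z hZP hZc hZ
  obtain ⟨v, ⟨hvV, hvZ⟩, hvP⟩ := SetLike.not_le_iff_exists.1 hZ
  have hVn : ∀ A B : Subgroup H, A ≤ V → B ≤ V → A ≤ normalizer (B : Set H) := by
    intro A B hA hB a ha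
    apply mem_normalizer_of_conj
    intro b hb
    have h4 : a * b * a⁻¹ = b := by rw [C.Vc a (hA ha) b (hB hb)]; group
    rw [h4]; exact hb
  have hvV' : v ∈ (V ⊓ centralizer (P : Set H)) ⊔ (W₁ ⊔ W₂) := by rw [hUW, h2]; exact hvV
  obtain ⟨c, hc, u, hu, huv⟩ := exists_mul_of_sup (hVn _ _ inf_le_left (sup_le L₁.WV L₂.WV)) hvV'
  obtain ⟨w₁, hw₁, w₂, hw₂, hww⟩ := exists_mul_of_sup (hVn _ _ L₁.WV L₂.WV) hu
  have hz : ∀ z ∈ Z, w₁ * z = z * w₁ ∧ w₂ * z = z * w₂ := by
    intro z hz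
    have hzP := hZP hz
    have e1 : z * v = v * z := (mem_centralizer_iff.1 hvZ) z hz
    have e2 : z * c = c * z := (mem_centralizer_iff.1 hc.2) z hzP
    have e3 : z * (w₁ * w₂) = (w₁ * w₂) * z := by
      rw [hww]
      have h4 : u = c⁻¹ * v := by rw [← huv]; group
      rw [h4]
      have e4 : z * c⁻¹ = c⁻¹ * z := (show Commute z c from e2).inv_right.eq
      calc z * (c⁻¹ * v) = (z * c⁻¹) * v := by group
        _ = c⁻¹ * (z * v) := by rw [e4]; group
        _ = c⁻¹ * v * z := by rw [e1]; group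
    have m1 : w₁⁻¹ * (z * w₁ * z⁻¹) ∈ W₁ :=
      W₁.mul_mem (W₁.inv_mem hw₁) ((mem_normalizer_iff.1 (L₁.norm hzP) w₁).1 hw₁)
    have m2 : w₂ * (z * w₂ * z⁻¹)⁻¹ ∈ W₂ :=
      W₂.mul_mem hw₂ (W₂.inv_mem ((mem_normalizer_iff.1 (L₂.norm hzP) w₂).1 hw₂))
    have e5 : w₁⁻¹ * (z * w₁ * z⁻¹) = w₂ * (z * w₂ * z⁻¹)⁻¹ := by
      calc w₁⁻¹ * (z * w₁ * z⁻¹) = w₁⁻¹ * (z * (w₁ * w₂)) * w₂⁻¹ * z⁻¹ := by group
        _ = w₁⁻¹ * (w₁ * w₂ * z) * w₂⁻¹ * z⁻¹ := by rw [e3]
        _ = _ := by group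
    have m3 : w₁⁻¹ * (z * w₁ * z⁻¹) ∈ W₁ ⊓ W₂ := ⟨m1, by rw [e5]; exact m2⟩
    rw [hWW, mem_bot] at m3
    have e6 : z * w₁ * z⁻¹ = w₁ := by
      calc z * w₁ * z⁻¹ = w₁ * (w₁⁻¹ * (z * w₁ * z⁻¹)) := by group
        _ = w₁ := by rw [m3, mul_one]
    have e7 : z * w₁ = w₁ * z := mul_inv_eq_iff_eq_mul.1 e6
    refine ⟨e7.symm, ?_⟩
    calc w₂ * z = w₁⁻¹ * ((w₁ * w₂) * z) := by group
      _ = w₁⁻¹ * (z * (w₁ * w₂)) := by rw [e3]
      _ = w₁⁻¹ * (z * w₁) * w₂ := by group
      _ = w₁⁻¹ * (w₁ * z) * w₂ := by rw [e7]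
      _ = _ := by group
  by_cases hw1 : w₁ = 1
  · by_cases hw2 : w₂ = 1
    · exfalso
      apply hvP
      rw [← huv, ← hww, hw1, hw2, mul_one, mul_one]
      exact hc.2
    · right
      have h4 : Z ≤ Y₂ := by
        rw [← L₂.fix w₂ hw₂ hw2]
        exact fun z hz' => ⟨hZP hz', mem_cen.2 (hz z hz').2.symm⟩
      exact Subgroup.eq_of_le_of_card_ge h4 (by rw [L₂.Ycard, hZc])
  · left
    have h4 : Z ≤ Y₁ := by
      rw [← L₁.fix w₁ hw₁ hw1]
      exact fun z hz' => ⟨hZP hz', mem_cen.2 (hz z hz').1.symm⟩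
    exact Subgroup.eq_of_le_of_card_ge h4 (by rw [L₁.Ycard, hZc])

/-- an `r`-group normalizing `F` and `Y`, `|Y : F| = 5`, centralizes `Y`. -/
theorem fixes_line [Finite H] {F Y A : Subgroup H} (hFY : F ≤ Y) (hF : Nat.card F ∣ 5) (hY : Nat.card Y = 5 * Nat.card F)
    {r : ℕ} [hr : Fact r.Prime] (hr2 : r ≠ 2) (hr5 : r ≠ 5) (hA : IsPGroup r A) (hAF : A ≤ normalizer (F : Set H))
    (hAY : A ≤ normalizer (Y : Set H)) : Y ≤ centralizer (A : Set H) := by
  have hr4 : ¬ r ∣ 4 := by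
    intro h
    have h1 : r ∣ 2 ^ 2 := by norm_num; exact h
    exact hr2 ((Nat.prime_dvd_prime_iff_eq hr.out Nat.prime_two).1 (hr.out.dvd_of_dvd_pow h1))
  have hr5' : ¬ r ∣ 5 := fun h => hr5 ((Nat.prime_dvd_prime_iff_eq hr.out Nat.prime_five).1 h)
  have hFA : F ≤ centralizer (A : Set H) := by
    have h1 := card_modEq hA hAF
    have h2 : Nat.card ↥(F ⊓ centralizer (A : Set H)) ∣ Nat.card F := card_dvd_of_le inf_le_left
    have h3 : Nat.card ↥(F ⊓ centralizer (A : Set H)) = Nat.card F := by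
      rcases (Nat.dvd_prime Nat.prime_five).1 hF with h4 | h4
      · rw [h4] at h2 ⊢
        exact Nat.dvd_one.1 h2
      · rw [h4] at h1 h2 ⊢
        rcases (Nat.dvd_prime Nat.prime_five).1 h2 with h5 | h5
        · exfalso
          rw [h5] at h1
          exact hr4 ((Nat.modEq_iff_dvd' (by norm_num)).1 h1.symm)
        · exact h5
    have h4 := Subgroup.eq_of_le_of_card_ge (inf_le_left : F ⊓ centralizer (A : Set H) ≤ F) h3.ge
    rw [← h4]
    exact inf_le_right
  have h1 := card_modEq hA hAY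
  rcases eq_or_of_card Nat.prime_five hY (le_inf hFY hFA) (inf_le_left : Y ⊓ centralizer (A : Set H) ≤ Y) with h | h
  · exfalso
    rw [h, hY] at h1
    have h2 : r ∣ 5 * Nat.card F - Nat.card F := (Nat.modEq_iff_dvd' (by omega)).1 h1.symm
    have h3 : 5 * Nat.card F - Nat.card F = 4 * Nat.card F := by omega
    rw [h3] at h2
    rcases hr.out.dvd_mul.1 h2 with h4 | h4
    · exact hr4 h4
    · exact hr5' (h4.trans hF)
  · rw [← h]
    exact inf_le_right

/-- **The final argument.** -/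
theorem final [Finite H] (C : Conf 5 P S F V) (hFV : F ≤ centralizer (V : Set H)) {x : H} (hx : x ∈ P) (hxF : x ∉ F)
    (hix : ix V x = 16) {g : H} (hP : g ∈ normalizer (P : Set H)) (hF : g ∈ normalizer (F : Set H))
    (hV : g ∈ normalizer (V : Set H)) {r : ℕ} (hr : r.Prime) (hr2 : r ≠ 2) (hr5 : r ≠ 5)
    (hgr : g ^ r ∈ centralizer (P : Set H)) : g ∈ centralizer (P : Set H) := by
  have hrf : Fact r.Prime := ⟨hr⟩
  obtain ⟨W₁, Y₁, W₂, Y₂, L₁, L₂, hne, hpair⟩ := C.pair hFV hx hxF hix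
  have hFpos : 0 < Nat.card F := Nat.card_pos
  have hinj : ∀ y : H, Function.Injective (MulAut.conj y).toMonoidHom := fun y => (MulAut.conj y).injective
  -- the lines have fixed points
  have hfp : ∀ W Y : Subgroup H, Line P F V W Y → ¬ (V ⊓ centralizer (Y : Set H) ≤ centralizer (P : Set H)) := by
    intro W Y L hle
    obtain ⟨w, hw, hw1⟩ : ∃ w ∈ W, w ≠ 1 := by
      have h4 : W ≠ ⊥ := by
        intro h
        have h5 := L.card
        rw [h, card_bot] at h5
        omega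
      obtain ⟨a, ha⟩ := (Subgroup.ne_bot_iff_exists_ne_one (H := W)).1 h4
      exact ⟨a, a.2, fun h => ha (Subtype.ext h)⟩
    have h1 := L.fix w hw hw1
    have h2 : w ∈ centralizer (P : Set H) := by
      apply hle
      refine ⟨L.WV hw, ?_⟩
      refine mem_centralizer_iff.2 ?_
      intro y hy
      rw [← h1] at hy
      exact mem_cen.1 hy.2
    have h3 : P ⊓ centralizer ({w} : Set H) = P := by
      apply le_antisymm inf_le_left
      intro y hy
      exact ⟨hy, mem_cen.2 ((mem_centralizer_iff.1 h2) y hy)⟩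
    have h4 := L.Ycard
    rw [← h1, h3, C.dat.card] at h4
    omega
  -- elements normalizing everything permute the lines
  have hperm : ∀ y : H, y ∈ normalizer (P : Set H) → y ∈ normalizer (F : Set H) → y ∈ normalizer (V : Set H) →
      ∀ W Y : Subgroup H, Line P F V W Y →
        Y.map (MulAut.conj y).toMonoidHom = Y₁ ∨ Y.map (MulAut.conj y).toMonoidHom = Y₂ := by
    intro y h1 h2 h3 W Y L
    have L' := line_conj L h1 h2 h3
    exact hpair _ L'.YP L'.Ycard (hfp _ _ L')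
  have hmapmul : ∀ (a b : H) (Y : Subgroup H), (Y.map (MulAut.conj b).toMonoidHom).map (MulAut.conj a).toMonoidHom =
      Y.map (MulAut.conj (a * b)).toMonoidHom := by
    intro a b Y
    rw [Subgroup.map_map]
    congr 1
    ext z
    change a * (b * z * b⁻¹) * a⁻¹ = (a * b) * z * (a * b)⁻¹
    group
  -- `g` fixes both
  have hsame : ∀ Z₁ Z₂ : Subgroup H, Z₁ ≠ Z₂ → Z₁ ≤ P → Z₁.map (MulAut.conj g).toMonoidHom = Z₂ →
      Z₂.map (MulAut.conj g).toMonoidHom = Z₁ → False := by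
    intro Z₁ Z₂ h12 hZP h1 h2
    have hodd : ∀ k : ℕ, Z₁.map (MulAut.conj (g ^ (2 * k + 1))).toMonoidHom = Z₂ := by
      intro k
      induction k with
      | zero => simpa using h1
      | succ k ih =>
        have e : g ^ (2 * (k + 1) + 1) = g * (g * g ^ (2 * k + 1)) := by
          rw [← pow_succ', ← pow_succ']
          congr 1
        rw [e, ← hmapmul, ← hmapmul, ih, h2, h1]
    obtain ⟨k, hk⟩ := hr.odd_of_ne_two hr2
    have h3 := hodd k
    rw [← hk] at h3
    apply h12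
    rw [← h3]
    ext z
    constructor
    · intro hz
      refine ⟨z, hz, ?_⟩
      change g ^ r * z * (g ^ r)⁻¹ = z
      rw [← (mem_centralizer_iff.1 hgr) z (hZP hz)]
      group
    · rintro ⟨y, hy, rfl⟩
      change g ^ r * y * (g ^ r)⁻¹ ∈ Z₁
      rw [← (mem_centralizer_iff.1 hgr) y (hZP hy)]
      have : y * g ^ r * (g ^ r)⁻¹ = y := by group
      rw [this]; exact hy
  have hfix1 : Y₁.map (MulAut.conj g).toMonoidHom = Y₁ := by
    rcases hperm g hP hF hV W₁ Y₁ L₁ with h | h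
    · exact h
    · exfalso
      rcases hperm g hP hF hV W₂ Y₂ L₂ with h' | h'
      · exact hsame Y₁ Y₂ hne L₁.YP h h'
      · exact hne (map_injective (hinj g) (h.trans h'.symm))
  have hfix2 : Y₂.map (MulAut.conj g).toMonoidHom = Y₂ := by
    rcases hperm g hP hF hV W₂ Y₂ L₂ with h | h
    · exact absurd (map_injective (hinj g) (h.trans hfix1.symm)) hne.symm
    · exact h
  have hg1 : g ∈ normalizer (Y₁ : Set H) := by
    apply mem_normalizer_of_conj
    intro y hy
    rw [← hfix1]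
    exact ⟨y, hy, rfl⟩
  have hg2 : g ∈ normalizer (Y₂ : Set H) := by
    apply mem_normalizer_of_conj
    intro y hy
    rw [← hfix2]
    exact ⟨y, hy, rfl⟩
  -- the `r`-part of `g`
  obtain ⟨k, m, hm, hgm⟩ := Nat.exists_eq_pow_mul_and_not_dvd (orderOf_pos g).ne' r hr.ne_one
  have hA : IsPGroup r (zpowers (g ^ m)) := by
    refine IsPGroup.of_card_dvd_pow (n := k) ?_
    rw [Nat.card_zpowers]
    apply orderOf_dvd_of_pow_eq_one
    rw [← pow_mul, mul_comm, ← hgm, pow_orderOf_eq_one]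
  have hAn : ∀ K : Subgroup H, g ∈ normalizer (K : Set H) → zpowers (g ^ m) ≤ normalizer (K : Set H) := by
    intro K hK
    rw [zpowers_le]
    exact pow_mem hK m
  have hY12 : Y₁ ⊔ Y₂ = P := by
    rcases eq_or_of_card Nat.prime_five (by rw [L₁.Ycard, C.dat.card]; ring : Nat.card P = 5 * Nat.card Y₁)
      (le_sup_left : Y₁ ≤ Y₁ ⊔ Y₂) (sup_le L₁.YP L₂.YP) with h | h
    · exfalso
      apply hne
      have h1 : Y₂ ≤ Y₁ := by rw [← h]; exact le_sup_right
      exact (Subgroup.eq_of_le_of_card_ge h1 (by rw [L₁.Ycard, L₂.Ycard])).symm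
    · exact h
  have hgmP : P ≤ centralizer ((zpowers (g ^ m) : Subgroup H) : Set H) := by
    rw [← hY12]
    exact sup_le (fixes_line L₁.FY C.dat.F_card L₁.Ycard hr2 hr5 hA (hAn F hF) (hAn Y₁ hg1))
      (fixes_line L₂.FY C.dat.F_card L₂.Ycard hr2 hr5 hA (hAn F hF) (hAn Y₂ hg2))
  have hgm' : g ^ m ∈ centralizer (P : Set H) := (le_centralizer_iff.1 hgmP) (mem_zpowers _)
  have hcop : Nat.Coprime m r := ((Nat.Prime.coprime_iff_not_dvd hr).2 hm).symm
  have h1 : g = (g ^ m) ^ (Nat.gcdA m r) * (g ^ r) ^ (Nat.gcdB m r) := by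
    have h2 := Nat.gcd_eq_gcd_ab m r
    rw [Nat.Coprime.gcd_eq_one hcop] at h2
    calc g = g ^ (((1 : ℕ) : ℤ)) := by rw [Nat.cast_one, zpow_one]
      _ = g ^ ((m : ℤ) * Nat.gcdA m r + (r : ℤ) * Nat.gcdB m r) := by rw [← h2]
      _ = _ := by rw [zpow_add, zpow_mul, zpow_mul, zpow_natCast, zpow_natCast]
  rw [h1]
  exact mul_mem (zpow_mem hgm' _) (zpow_mem hgr _)

end Conf

end Cfsg.Agent.H7.XiRep
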