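import Cfsg.Prelude.Def_QuasithinSetup
import Cfsg.Agent.H7.XiRepThree
import Cfsg.Agent.H7.XiDat
import Cfsg.Agent.H7.Faithful
import Cfsg.Agent.Lib.GoldschmidtFusion
import Cfsg.Agent.CharactersDeep.QuatSylow

/-!
# The module `C_{V₁}(O₂(XT))`, `V₁ = Ω₁(Z(O₂(X)))`, for a member `X` of `Ξ(G, T)`
-/

set_option autoImplicit false

open scoped commutatorElement

namespace Cfsg.Agent.H7.XiConc

open Subgroup Cfsg
open Cfsg.Agent.QTSolv.Data (Dat mem_normalizer_of_conj mem_normalizer_sup)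
open Cfsg.Agent.H7.XiRep Cfsg.Agent.H7.XiRep.Conf
open Cfsg.Agent.QTSolv.Build (normalizer_le normalizer_le_twoPhi)
open Cfsg.Agent.QTUniq.Local
open Cfsg.Agent.H7.Faithful (omZ mem_omZ omZ_le omZ_le_centralizer normalizer_le_omZ exists_fixed_mod)

variable {G : Type*} [Group G] [Finite G]

/-- A member of `Ξ(G, T)` with a Sylow `p`-subgroup `P` -/
structure Setup (T : Sylow 2 G) (X : Subgroup G) (p : ℕ) (P : Subgroup G) : Prop where
  odd : oddGenerated X = X
  TX : (T : Subgroup G) ≤ normalizer (X : Set G)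
  dat : Dat p P ((T : Subgroup G) ⊓ normalizer (P : Set G)) (P ⊓ twoPhiCore X)
  PX : P ≤ X
  XOP : X ≤ pCoreTwoOf X ⊔ P
  PO : ∀ x ∈ P, x ∈ pCoreTwoOf X → x = 1
  frat : ∀ g ∈ normalizer (X : Set G), ∃ o ∈ pCoreTwoOf X, o * g ∈ normalizer (P : Set G)

theorem exists_setup {T : Sylow 2 G} {X : Subgroup G} (hX : X ∈ Xi (T : Subgroup G)) :
    ∃ (p : ℕ) (P : Subgroup G), Setup T X p P := by
  obtain ⟨p, P, h1, h2, h3, h4, h5⟩ := XiDat.exists_dat' hX
  exact ⟨p, P, hX.1, hX.2.1, h1, h2, h3, h4, h5⟩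

theorem normalizer_O (X : Subgroup G) : normalizer (X : Set G) ≤ normalizer (pCoreTwoOf X : Set G) :=
  normalizer_le X

omit [Finite G] in
theorem O_le (X : Subgroup G) : pCoreTwoOf X ≤ X := map_subtype_le _

theorem O_isPGroup (X : Subgroup G) : IsPGroup 2 ↥(pCoreTwoOf X) := map_pCore_isPGroup 2 X

theorem O_le_twoPhi (X : Subgroup G) : pCoreTwoOf X ≤ twoPhiCore X := by
  rintro _ ⟨y, hy, rfl⟩
  refine ⟨y, ?_, rfl⟩
  change QuotientGroup.mk' (pCore 2 ↥X) y ∈ frattini (↥X ⧸ pCore 2 ↥X)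
  have h1 : QuotientGroup.mk' (pCore 2 ↥X) y = 1 := (QuotientGroup.eq_one_iff y).2 hy
  rw [h1]
  exact one_mem _

/-- the kernel of `N_G(X)` on `X / O_2(X)` -/
def Kx (X : Subgroup G) : Subgroup G := trivOn (normalizer (X : Set G)) X (pCoreTwoOf X) (normalizer_O X)

theorem mem_Kx {X : Subgroup G} {k : G} :
    k ∈ Kx X ↔ k ∈ normalizer (X : Set G) ∧ ∀ y ∈ X, ⁅y, k⁆ ∈ pCoreTwoOf X := Iff.rfl

theorem Kx_le (X : Subgroup G) : Kx X ≤ normalizer (X : Set G) := fun _ hk => (mem_Kx.1 hk).1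

theorem normalizer_le_Kx (X : Subgroup G) : normalizer (X : Set G) ≤ normalizer (Kx X : Set G) := by
  intro g hg
  apply mem_normalizer_of_conj
  intro k hk
  obtain ⟨h1, h2⟩ := mem_Kx.1 hk
  refine mem_Kx.2 ⟨mul_mem (mul_mem hg h1) (inv_mem hg), fun y hy => ?_⟩
  have h3 : g⁻¹ * y * g ∈ X := by
    have := (mem_normalizer_iff.1 (inv_mem hg) y).1 hy
    simpa using this
  have h4 : ⁅y, g * k * g⁻¹⁆ = g * ⁅g⁻¹ * y * g, k⁆ * g⁻¹ := by
    simp only [commutatorElement_def]; group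
  rw [h4]
  exact (mem_normalizer_iff.1 (normalizer_O X hg) _).1 (h2 _ h3)

theorem O_le_Kx (X : Subgroup G) : pCoreTwoOf X ≤ Kx X := by
  intro o ho
  have hoX : o ∈ normalizer (X : Set G) := le_normalizer (O_le X ho)
  refine mem_Kx.2 ⟨hoX, fun y hy => ?_⟩
  rw [commutatorElement_def]
  exact mul_mem ((mem_normalizer_iff.1 (normalizer_O X (le_normalizer hy)) o).1 ho) (inv_mem ho)

/-- the module -/
def Vx (T : Sylow 2 G) (X : Subgroup G) : Subgroup G :=
  omZ (pCoreTwoOf X) ⊓ centralizer (((T : Subgroup G) ⊓ Kx X : Subgroup G) : Set G)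

theorem Vx_le_omZ (T : Sylow 2 G) (X : Subgroup G) : Vx T X ≤ omZ (pCoreTwoOf X) := inf_le_left

theorem Vx_le_O (T : Sylow 2 G) (X : Subgroup G) : Vx T X ≤ pCoreTwoOf X := (Vx_le_omZ T X).trans (omZ_le _)

theorem O_le_centralizer (T : Sylow 2 G) (X : Subgroup G) : pCoreTwoOf X ≤ centralizer (Vx T X : Set G) :=
  le_centralizer_iff.1 ((Vx_le_omZ T X).trans (omZ_le_centralizer _))

theorem Vx_comm (T : Sylow 2 G) (X : Subgroup G) : ∀ v ∈ Vx T X, ∀ w ∈ Vx T X, v * w = w * v := by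
  intro v hv w hw
  exact (mem_centralizer_iff.1 (omZ_le_centralizer _ (Vx_le_omZ T X hw))) v (Vx_le_O T X hv)

theorem Vx_sq (T : Sylow 2 G) (X : Subgroup G) : ∀ v ∈ Vx T X, v * v = 1 := by
  intro v hv
  have h1 := (mem_omZ.1 (Vx_le_omZ T X hv)).2
  rwa [pow_two] at h1

theorem Vx_isPGroup (T : Sylow 2 G) (X : Subgroup G) : IsPGroup 2 ↥(Vx T X) := (O_isPGroup X).to_le (Vx_le_O T X)

theorem mem_normalizer_centralizer' {A : Subgroup G} {g : G} (hg : g ∈ normalizer (A : Set G)) :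
    g ∈ normalizer (centralizer (A : Set G) : Set G) := by
  apply mem_normalizer_of_conj
  intro c hc
  rw [mem_centralizer_iff] at hc ⊢
  intro a ha
  have h1 : g⁻¹ * a * g ∈ A := by
    have := (mem_normalizer_iff.1 (inv_mem hg) a).1 ha
    simpa using this
  have h2 := hc _ h1
  calc a * (g * c * g⁻¹) = g * ((g⁻¹ * a * g) * c) * g⁻¹ := by group
    _ = g * (c * (g⁻¹ * a * g)) * g⁻¹ := by rw [h2]
    _ = _ := by group

omit [Finite G] in
theorem mem_normalizer_inf {A B : Subgroup G} {g : G} (hA : g ∈ normalizer (A : Set G))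
    (hB : g ∈ normalizer (B : Set G)) : g ∈ normalizer ((A ⊓ B : Subgroup G) : Set G) := by
  rw [mem_normalizer_iff]
  intro x
  exact ⟨fun h => ⟨(mem_normalizer_iff.1 hA x).1 h.1, (mem_normalizer_iff.1 hB x).1 h.2⟩,
    fun h => ⟨(mem_normalizer_iff.1 hA x).2 h.1, (mem_normalizer_iff.1 hB x).2 h.2⟩⟩

theorem mem_normalizer_Vx {T : Sylow 2 G} {X : Subgroup G} {g : G} (hg : g ∈ normalizer (X : Set G))
    (hgQ : g ∈ normalizer (((T : Subgroup G) ⊓ Kx X : Subgroup G) : Set G)) : g ∈ normalizer (Vx T X : Set G) :=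
  mem_normalizer_inf (normalizer_le_omZ _ (normalizer_O X hg)) (mem_normalizer_centralizer' hgQ)

namespace Setup

variable {T : Sylow 2 G} {X P : Subgroup G} {p : ℕ}

theorem O_le_T (D : Setup T X p P) : pCoreTwoOf X ≤ (T : Subgroup G) := Cfsg.Agent.QTSolv.Build.pCore_le D.TX

theorem O_le_TK (D : Setup T X p P) : pCoreTwoOf X ≤ (T : Subgroup G) ⊓ Kx X := le_inf D.O_le_T (O_le_Kx X)

/-- `T` normalizes `T ∩ K` -/
theorem T_le (D : Setup T X p P) : (T : Subgroup G) ≤ normalizer (((T : Subgroup G) ⊓ Kx X : Subgroup G) : Set G) :=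
  fun _ ht => mem_normalizer_inf (le_normalizer ht) (normalizer_le_Kx X (D.TX ht))

theorem X_le (D : Setup T X p P) : X ≤ normalizer (((T : Subgroup G) ⊓ Kx X : Subgroup G) : Set G) := by
  intro x hx
  apply mem_normalizer_of_conj
  rintro t ⟨ht, htK⟩
  have h1 : x * t * x⁻¹ = ⁅x, t⁆ * t := by rw [commutatorElement_def]; group
  rw [h1]
  exact mul_mem (D.O_le_TK ((mem_Kx.1 htK).2 x hx)) ⟨ht, htK⟩

theorem T_le_V (D : Setup T X p P) : (T : Subgroup G) ≤ normalizer (Vx T X : Set G) :=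
  fun _ ht => mem_normalizer_Vx (D.TX ht) (D.T_le ht)

theorem X_le_V (D : Setup T X p P) : X ≤ normalizer (Vx T X : Set G) :=
  fun _ hx => mem_normalizer_Vx (le_normalizer hx) (D.X_le hx)

/-- `O_2(X T) = T ∩ K` -/
theorem pCore_eq (D : Setup T X p P) :
    (pCore 2 ↥(X ⊔ (T : Subgroup G))).map (X ⊔ (T : Subgroup G)).subtype = (T : Subgroup G) ⊓ Kx X := by
  have hTM : (T : Subgroup G) ≤ X ⊔ (T : Subgroup G) := le_sup_right
  have hXM : X ≤ X ⊔ (T : Subgroup G) := le_sup_left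
  apply le_antisymm
  · have hQT := map_pCore_le_sylow T hTM
    intro q hq
    refine ⟨hQT hq, mem_Kx.2 ⟨D.TX (hQT hq), ?_⟩⟩
    set Q := (pCore 2 ↥(X ⊔ (T : Subgroup G))).map (X ⊔ (T : Subgroup G)).subtype with hQ
    have hn : X ⊔ (T : Subgroup G) ≤ normalizer (Q : Set G) := le_normalizer_map_pCore 2 _
    have h1 : X ⊓ Q ≤ pCoreTwoOf X := by
      refine le_map_pCore inf_le_left ((map_pCore_isPGroup 2 _).to_le inf_le_right) ?_
      intro x hx
      exact mem_normalizer_inf (le_normalizer hx) (hn (hXM hx))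
    intro y hy
    apply h1
    refine ⟨?_, ?_⟩
    · have e : ⁅y, q⁆ = y * (q * y⁻¹ * q⁻¹) := by rw [commutatorElement_def]; group
      rw [e]
      exact X.mul_mem hy ((mem_normalizer_iff.1 (D.TX (hQT hq)) _).1 (X.inv_mem hy))
    · rw [commutatorElement_def]
      exact Q.mul_mem ((mem_normalizer_iff.1 (hn (hXM hy)) q).1 hq) (Q.inv_mem hq)
  · refine le_map_pCore (inf_le_left.trans hTM) (T.isPGroup'.to_le inf_le_left) ?_
    exact sup_le D.X_le D.T_le

/-- elements of `T ∩ N(P)` trivial on `P / F` centralize `P` -/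
theorem mem_centralizer_of_triv (D : Setup T X p P) {s : G} (hs : s ∈ (T : Subgroup G) ⊓ normalizer (P : Set G))
    (h1 : ∀ y ∈ P, ⁅y, s⁆ ∈ P ⊓ twoPhiCore X) : s ∈ centralizer (P : Set G) := by
  have h2f : Fact (Nat.Prime 2) := ⟨Nat.prime_two⟩
  have hsP : s ∈ normalizer (P : Set G) := hs.2
  have hA : IsPGroup 2 (zpowers s) := T.isPGroup'.to_le ((zpowers_le).2 hs.1)
  have hAP : zpowers s ≤ normalizer (P : Set G) := (zpowers_le).2 hsP
  refine (burnside D.dat (fun h => D.dat.odd h.symm) hA hAP hAP le_rfl ?_ ?_) (mem_zpowers s)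
  · exact Cfsg.Agent.Lib.CoprimeCommutator.commutator_le_left hAP
  · rw [commutator_le]
    rintro y hy _ ⟨k, rfl⟩
    have haT : s ∈ trivOn ((T : Subgroup G) ⊓ normalizer (P : Set G)) P (P ⊓ twoPhiCore X) D.dat.F_norm := ⟨hs, h1⟩
    exact ((trivOn _ P (P ⊓ twoPhiCore X) D.dat.F_norm).zpow_mem haT k).2 y hy

/-- an element of `N(X)` centralizing `P` is trivial on `X / O_2(X)` -/
theorem mem_Kx_of_centralizer (D : Setup T X p P) {s : G} (hs : s ∈ normalizer (X : Set G))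
    (h : s ∈ centralizer (P : Set G)) : s ∈ Kx X := by
  refine mem_Kx.2 ⟨hs, fun y hy => ?_⟩
  have hOn : pCoreTwoOf X ≤ normalizer (P : Set G) ∨ True := Or.inr trivial
  have hPn : P ≤ normalizer (pCoreTwoOf X : Set G) := fun z hz => normalizer_O X (le_normalizer (D.PX hz))
  have hy' : y ∈ P ⊔ pCoreTwoOf X := by rw [sup_comm]; exact D.XOP hy
  obtain ⟨a, ha, o, ho, rfl⟩ := exists_mul_of_sup hPn hy'
  have h1 := (mem_centralizer_iff.1 h) a ha
  -- `⁅a o, s⁆ = a ⁅o, s⁆ a⁻¹`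
  have h2 : ⁅a * o, s⁆ = a * (o * (s * o⁻¹ * s⁻¹)) * a⁻¹ := by
    rw [commutatorElement_def]
    have h3 : s * (a * o)⁻¹ * s⁻¹ = (s * o⁻¹ * s⁻¹) * (s * a⁻¹ * s⁻¹) := by group
    have h4 : s * a⁻¹ * s⁻¹ = a⁻¹ := by
      calc s * a⁻¹ * s⁻¹ = a⁻¹ * (a * s) * a⁻¹ * s⁻¹ := by group
        _ = a⁻¹ * (s * a) * a⁻¹ * s⁻¹ := by rw [h1]
        _ = _ := by group
    calc a * o * s * (a * o)⁻¹ * s⁻¹ = a * o * (s * (a * o)⁻¹ * s⁻¹) := by group
      _ = a * o * ((s * o⁻¹ * s⁻¹) * a⁻¹) := by rw [h3, h4]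
      _ = _ := by group
  rw [h2]
  refine (mem_normalizer_iff.1 (hPn ha) _).1 ?_
  exact mul_mem ho ((mem_normalizer_iff.1 (normalizer_O X hs) _).1 (inv_mem ho))

/-- an element of `K ∩ N(P)` centralizes `P` -/
theorem mem_centralizer_of_mem_Kx (D : Setup T X p P) {s : G} (hs : s ∈ Kx X) (hsP : s ∈ normalizer (P : Set G)) :
    s ∈ centralizer (P : Set G) := by
  rw [mem_centralizer_iff]
  intro y hy
  have h1 := (mem_Kx.1 hs).2 y (D.PX hy)
  have h2 := D.PO _ (commutator_mem hsP hy) h1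
  exact (commutatorElement_eq_one_iff_mul_comm).1 h2

theorem exists_S (D : Setup T X p P) {t : G} (ht : t ∈ (T : Subgroup G)) :
    ∃ o ∈ pCoreTwoOf X, o * t ∈ (T : Subgroup G) ⊓ normalizer (P : Set G) := by
  obtain ⟨o, ho, h⟩ := D.frat t (D.TX ht)
  exact ⟨o, ho, mul_mem (D.O_le_T ho) ht, h⟩

theorem P_le_V (D : Setup T X p P) : P ≤ normalizer (Vx T X : Set G) := D.PX.trans D.X_le_V

theorem not_P_le (D : Setup T X p P) (hne : ¬ X ≤ centralizer (Vx T X : Set G)) : ¬ P ≤ centralizer (Vx T X : Set G) :=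
  fun h => hne (D.XOP.trans (sup_le (O_le_centralizer T X) h))

/-- `C_P(V) ≤ F`, more generally for the intersection of `P` with a group containing `C(V)` as a subgroup of
2-power index -/
theorem inf_le_F (D : Setup T X p P) (hne : ¬ X ≤ centralizer (Vx T X : Set G)) :
    P ⊓ centralizer (Vx T X : Set G) ≤ P ⊓ twoPhiCore X := by
  set V := Vx T X with hV
  set K : Subgroup G := P ⊓ centralizer (V : Set G) with hK
  have hSK : (T : Subgroup G) ⊓ normalizer (P : Set G) ≤ normalizer (K : Set G) := fun s hs =>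
    mem_normalizer_inf hs.2 (mem_normalizer_centralizer' (D.T_le_V hs.1))
  rcases D.dat.irr (K ⊔ (P ⊓ twoPhiCore X)) le_sup_right (sup_le inf_le_left D.dat.F_le)
    (fun s hs => mem_normalizer_sup (hSK hs) (D.dat.F_norm hs)) with h | h
  · rw [← h]; exact le_sup_left
  · exfalso
    have h1 := D.dat.ngen K inf_le_left h
    apply D.not_P_le hne
    rw [← h1]
    exact inf_le_right

/-- elements `t` of `T` in a subgroup `N ≥ O` with `N ∩ P ≤ F` normalized by `P` lie in `K` -/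
theorem mem_TK (D : Setup T X p P) {N : Subgroup G} (hO : pCoreTwoOf X ≤ N) (hN : P ≤ normalizer (N : Set G))
    (hNF : P ⊓ N ≤ P ⊓ twoPhiCore X) {t : G} (ht : t ∈ (T : Subgroup G)) (htN : t ∈ N) :
    t ∈ (T : Subgroup G) ⊓ Kx X := by
  obtain ⟨o, ho, hs⟩ := D.exists_S ht
  have hsN : o * t ∈ N := N.mul_mem (hO ho) htN
  have h1 : o * t ∈ centralizer (P : Set G) := by
    apply D.mem_centralizer_of_triv hs
    intro y hy
    apply hNF
    refine ⟨commutator_mem hs.2 hy, ?_⟩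
    rw [commutatorElement_def]
    exact N.mul_mem ((mem_normalizer_iff.1 (hN hy) _).1 hsN) (N.inv_mem hsN)
  have h2 := D.mem_Kx_of_centralizer (D.TX hs.1) h1
  refine ⟨ht, ?_⟩
  have h3 : t = o⁻¹ * (o * t) := by group
  rw [h3]
  exact (Kx X).mul_mem ((Kx X).inv_mem (O_le_Kx X ho)) h2

/-- `C_T(V) = T ∩ K` -/
theorem inf_centralizer (D : Setup T X p P) (hne : ¬ X ≤ centralizer (Vx T X : Set G)) :
    (T : Subgroup G) ⊓ centralizer (Vx T X : Set G) = (T : Subgroup G) ⊓ Kx X := by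
  apply le_antisymm
  · rintro t ⟨ht, htV⟩
    exact D.mem_TK (O_le_centralizer T X) (fun y hy => mem_normalizer_centralizer' (D.P_le_V hy)) (D.inf_le_F hne)
      ht htV
  · refine le_inf inf_le_left ?_
    exact le_centralizer_iff.1 inf_le_right

/-- `V` is 2-reduced for `X T` -/
theorem mem_calR2 (D : Setup T X p P) (hne : ¬ X ≤ centralizer (Vx T X : Set G)) :
    Vx T X ∈ calR2 (X ⊔ (T : Subgroup G)) := by
  have h2f : Fact (Nat.Prime 2) := ⟨Nat.prime_two⟩
  set V := Vx T X with hV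
  set M₀ : Subgroup G := X ⊔ (T : Subgroup G) with hM₀
  have hTM : (T : Subgroup G) ≤ M₀ := le_sup_right
  have hXM : X ≤ M₀ := le_sup_left
  have hVX : V ≤ X := (Vx_le_O T X).trans (O_le X)
  have hMV : M₀ ≤ normalizer (V : Set G) := sup_le D.X_le_V D.T_le_V
  refine ⟨hVX.trans hXM, hMV, ⟨⟨⟨fun a b => Subtype.ext (Vx_comm T X a a.2 b b.2)⟩⟩, fun a ha => ?_⟩, ?_⟩
  · rw [pow_two]
    exact Vx_sq T X a ha
  intro N hNM hMN hCN hk
  obtain ⟨k, hk⟩ := hk
  set C : Subgroup G := M₀ ⊓ centralizer (V : Set G) with hC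
  have hMC : M₀ ≤ normalizer (C : Set G) := fun m hm =>
    mem_normalizer_inf (le_normalizer hm) (mem_normalizer_centralizer' (hMV hm))
  have hOC : pCoreTwoOf X ≤ C := le_inf ((O_le X).trans hXM) (O_le_centralizer T X)
  have hCnorm : (C.subgroupOf N).Normal := (normal_subgroupOf_iff_le_normalizer hCN).2 (hNM.trans hMC)
  -- `P ∩ N ≤ C(V)`
  have h1 : P ⊓ N ≤ P ⊓ twoPhiCore X := by
    refine le_trans ?_ (D.inf_le_F hne)
    rintro y ⟨hy, hyN⟩
    refine ⟨hy, ?_⟩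
    have h2 : (⟨y, hyN⟩ : N) ^ (2 ^ k) ∈ C.subgroupOf N := by
      rw [← hk]
      exact pow_index_mem (C.subgroupOf N) _
    have h3 : y ^ (2 ^ k) ∈ C := h2
    have h4 : y ^ p = 1 := D.dat.pow_eq_one y hy
    have hcop : Nat.Coprime (2 ^ k) p := by
      apply Nat.Coprime.pow_left
      exact ((Nat.coprime_primes Nat.prime_two D.dat.prime).2 (fun h => D.dat.odd h.symm))
    have h5 : Nat.Coprime (orderOf y) (2 ^ k) := (Nat.Coprime.coprime_dvd_right (orderOf_dvd_of_pow_eq_one h4) hcop).symm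
    obtain ⟨m, hm⟩ := exists_pow_eq_self_of_coprime (n := 2 ^ k) (x := y) h5.symm
    rw [← hm]
    exact (C.pow_mem h3 m).2
  have hPN : P ≤ normalizer (N : Set G) := fun y hy => hMN (hXM (D.PX hy))
  have hTN : (T : Subgroup G) ⊓ N ≤ C := by
    rintro t ⟨ht, htN⟩
    have h2 := D.mem_TK (hOC.trans hCN) hPN h1 ht htN
    rw [← D.inf_centralizer hne] at h2
    exact ⟨hTM ht, h2.2⟩
  -- indices
  have h2 : ¬ 2 ∣ (T : Subgroup G).relIndex N :=
    Cfsg.Agent.CharactersDeep.QuatSylow.not_dvd_relIndex_of_le_normalizer T N M₀ hTM hNM hMN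
  have h3 : C.relIndex N ∣ (T : Subgroup G).relIndex N := by
    have h4 := relIndex_mul_relIndex ((T : Subgroup G) ⊓ N) C N hTN hCN
    rw [inf_relIndex_right] at h4
    exact ⟨_, by rw [mul_comm]; exact h4.symm⟩
  rw [hk] at h3
  have hk0 : k = 0 := by
    by_contra h
    exact h2 ((dvd_pow_self 2 h).trans h3)
  rw [hk0, pow_zero, relIndex_eq_one] at hk
  exact le_antisymm hk hCN

/-- the configuration -/
theorem conf (D : Setup T X p P) (hne : ¬ X ≤ centralizer (Vx T X : Set G)) :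
    Conf p P ((T : Subgroup G) ⊓ normalizer (P : Set G)) (P ⊓ twoPhiCore X) (Vx T X) := by
  refine ⟨D.dat, Vx_isPGroup T X, Vx_comm T X, Vx_sq T X, D.P_le_V, inf_le_left.trans D.T_le_V,
    T.isPGroup'.to_le inf_le_left, ?_, ?_, D.not_P_le hne⟩
  · intro s hs hsV
    have h1 : s ∈ (T : Subgroup G) ⊓ Kx X := by
      rw [← D.inf_centralizer hne]
      exact ⟨hs.1, hsV⟩
    exact D.mem_centralizer_of_mem_Kx h1.2 hs.2
  · intro s hs hsP
    have h1 : s ∈ (T : Subgroup G) ⊓ Kx X := ⟨hs.1, D.mem_Kx_of_centralizer (D.TX hs.1) hsP⟩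
    rw [← D.inf_centralizer hne] at h1
    exact h1.2

/-- `X` acts nontrivially on the module, by the `A × B` argument -/
theorem not_le_centralizer (D : Setup T X p P) (hm : moduleV X ≠ ⊥) : ¬ X ≤ centralizer (Vx T X : Set G) := by
  have h2f : Fact (Nat.Prime 2) := ⟨Nat.prime_two⟩
  intro hXV
  apply hm
  set O := pCoreTwoOf X with hO
  set V₁ := omZ O with hV₁
  set Q := (T : Subgroup G) ⊓ Kx X with hQ
  have hmod : moduleV X = ⁅V₁, X⁆ := rfl
  have hV₁O : V₁ ≤ O := omZ_le O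
  have hQp : IsPGroup 2 Q := T.isPGroup'.to_le inf_le_left
  have hNV₁ : normalizer (X : Set G) ≤ normalizer (V₁ : Set G) := (normalizer_O X).trans (normalizer_le_omZ O)
  rw [hmod, commutator_eq_bot_iff_le_centralizer, le_centralizer_iff, ← D.odd, oddGenerated, closure_le]
  rintro x ⟨hx, ho⟩
  by_contra hxV
  have hno : ¬ V₁ ≤ centralizer ({x} : Set G) := by
    intro h
    apply hxV
    refine mem_centralizer_iff.2 ?_
    intro v hv
    exact mem_cen.1 (h hv)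
  obtain ⟨N, hNV, hQN, hNC, hcomm⟩ := exists_fixed_mod (C := centralizer ({x} : Set G)) hQp
    (hV₁O.trans D.O_le_TK) (fun q hq => hNV₁ (D.TX hq.1)) hno
  apply hNC
  intro v hv
  rw [mem_cen]
  have hxV₁ : x ∈ normalizer (V₁ : Set G) := hNV₁ (le_normalizer hx)
  have hvV : ⁅v, x⁆ ∈ V₁ := commutator_mem hxV₁ (hNV hv)
  have hcop : (orderOf x).Coprime (Nat.card V₁) := by
    obtain ⟨n, hn⟩ := IsPGroup.iff_card.1 ((O_isPGroup X).to_le hV₁O)
    rw [hn]
    exact Nat.Coprime.pow_right n ((Nat.coprime_two_right).2 ho)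
  refine (Cfsg.Agent.Lib.CoprimeStab.commute_of_commutator_commute hcop hvV ?_).eq
  -- `⁅v, x⁆ ∈ V`
  have h1 : ⁅⁅N, Q⁆, zpowers x⁆ = ⊥ := by
    rw [commutator_eq_bot_iff_le_centralizer, centralizer_zpowers]; exact hcomm
  have h2 : ⁅⁅Q, zpowers x⁆, N⁆ = ⊥ := by
    rw [commutator_eq_bot_iff_le_centralizer]
    have h3 : ⁅Q, zpowers x⁆ ≤ O := by
      rw [commutator_comm, commutator_le]
      intro y hy q hq
      exact (mem_Kx.1 hq.2).2 y ((zpowers_le).2 hx hy)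
    have h4 : O ≤ centralizer (V₁ : Set G) := le_centralizer_iff.1 (omZ_le_centralizer O)
    exact (h3.trans h4).trans (centralizer_le hNV)
  have h3 : ⁅⁅zpowers x, N⁆, Q⁆ = ⊥ := commutator_commutator_eq_bot_of_rotate h1 h2
  rw [commutator_eq_bot_iff_le_centralizer] at h3
  have h4 : ⁅v, x⁆ ∈ Vx T X := by
    refine ⟨hvV, h3 ?_⟩
    rw [commutator_comm]
    exact commutator_mem_commutator hv (mem_zpowers x)
  exact (mem_centralizer_iff.1 (hXV hx)) _ h4

/-- `O²(X T) = X` -/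
theorem oddGenerated_sup (D : Setup T X p P) : oddGenerated (X ⊔ (T : Subgroup G)) = X := by
  apply le_antisymm
  · rw [oddGenerated, closure_le]
    rintro x ⟨hx, ho⟩
    -- `x = t y`
    have hn : X ⊔ (T : Subgroup G) ≤ normalizer (X : Set G) := sup_le le_normalizer D.TX
    have hnn : (X.subgroupOf (X ⊔ (T : Subgroup G))).Normal := (normal_subgroupOf_iff_le_normalizer le_sup_left).2 hn
    have hp : IsPGroup 2 (↥(X ⊔ (T : Subgroup G)) ⧸ X.subgroupOf (X ⊔ (T : Subgroup G))) := by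
      intro q
      obtain ⟨y, rfl⟩ := QuotientGroup.mk_surjective q
      have hy : (y : G) ∈ (T : Subgroup G) ⊔ X := by rw [sup_comm]; exact y.2
      obtain ⟨t, ht, z, hz, htz⟩ := exists_mul_of_sup D.TX hy
      obtain ⟨n, hn⟩ := T.isPGroup' ⟨t, ht⟩
      refine ⟨n, ?_⟩
      have h1 : (QuotientGroup.mk y : ↥(X ⊔ (T : Subgroup G)) ⧸ X.subgroupOf (X ⊔ (T : Subgroup G))) =
          QuotientGroup.mk ⟨t, mem_sup_right ht⟩ := by
        rw [eq_comm, QuotientGroup.eq, mem_subgroupOf]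
        change t⁻¹ * (y : G) ∈ X
        rw [← htz]
        have : t⁻¹ * (t * z) = z := by group
        rw [this]; exact hz
      rw [h1, ← QuotientGroup.mk_pow]
      have h2 : (⟨t, mem_sup_right ht⟩ : ↥(X ⊔ (T : Subgroup G))) ^ 2 ^ n = 1 := by
        apply Subtype.ext
        have h3 : t ^ 2 ^ n = 1 := congrArg Subtype.val hn
        exact h3
      rw [h2, QuotientGroup.mk_one]
    obtain ⟨n, hn⟩ := hp (QuotientGroup.mk (⟨x, hx⟩ : ↥(X ⊔ (T : Subgroup G))))
    rw [← QuotientGroup.mk_pow, QuotientGroup.eq_one_iff, mem_subgroupOf] at hn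
    have h1 : x ^ 2 ^ n ∈ X := hn
    obtain ⟨m, hm⟩ := exists_pow_eq_self_of_coprime (n := 2 ^ n) (x := x)
      (Nat.Coprime.pow_left n ((Nat.coprime_two_left).2 ho))
    rw [SetLike.mem_coe, ← hm]
    exact X.pow_mem h1 m
  · conv_lhs => rw [← D.odd]
    rw [oddGenerated, oddGenerated]
    apply Subgroup.closure_mono
    rintro x ⟨hx, ho⟩
    exact ⟨mem_sup_left hx, ho⟩

end Setup

end Cfsg.Agent.H7.XiConc
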