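import Cfsg.Agent.H7.XiConc
import Cfsg.Agent.PLocal.SylowFixed

/-!
# Members `X` of `Ξ(G, T)` acting on a small module: `X` is a `{2, 3}`-group or `X / O₂(X)` is a 5-group.
-/

set_option autoImplicit false

open scoped commutatorElement

namespace Cfsg.Agent.H7.XiFin

open Subgroup Cfsg
open Cfsg.Agent.QTSolv.Data (Dat mem_normalizer_of_conj mem_normalizer_sup)
open Cfsg.Agent.H7.XiRep Cfsg.Agent.H7.XiRep.Conf Cfsg.Agent.H7.XiConc Cfsg.Agent.H7.XiConc.Setup
open Cfsg.Agent.QTSolv.Build (normalizer_le normalizer_le_twoPhi)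
open Cfsg.Agent.Lib.GoldschmidtFusion (exists_conj_le_in)

variable {G : Type*} [Group G] [Finite G]

/-- `A` induces a small elementary abelian group on `V` -/
structure Good (V A : Subgroup G) : Prop where
  ne : ¬ A ≤ centralizer (V : Set G)
  sq : ∀ b ∈ A, b * b ∈ centralizer (V : Set G)
  comm : ∀ b ∈ A, ∀ b' ∈ A, b * b' * b⁻¹ * b'⁻¹ ∈ centralizer (V : Set G)
  idx : (centralizer (A : Set G)).relIndex V ≤ ((centralizer (V : Set G)).relIndex A) ^ 2

omit [Finite G] in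
theorem mem_ker_iff {V : Subgroup G} (x : ↥(normalizer (V : Set G))) :
    normalizerMonoidHom V x = 1 ↔ (x : G) ∈ centralizer (V : Set G) := by
  constructor
  · intro h
    rw [mem_centralizer_iff]
    intro v hv
    have h1 : ((normalizerMonoidHom V x ⟨v, hv⟩ : V) : G) = v := by rw [h]; rfl
    have h2 : (x : G) * v * (x : G)⁻¹ = v := h1
    calc v * (x : G) = ((x : G) * v * (x : G)⁻¹) * x := by rw [h2]
      _ = _ := by group
  · intro h
    ext v
    have h1 := (mem_centralizer_iff.1 h) v v.2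
    change (x : G) * v * (x : G)⁻¹ = v
    rw [← h1]; group

theorem relIndex_eq_card {V A : Subgroup G} (hA : A ≤ normalizer (V : Set G)) :
    (centralizer (V : Set G)).relIndex A =
      Nat.card ↥((A.subgroupOf (normalizer (V : Set G))).map (normalizerMonoidHom V)) := by
  rw [← relIndex_ker]
  have h1 : (normalizerMonoidHom V).ker = (centralizer (V : Set G)).subgroupOf (normalizer (V : Set G)) := by
    ext x
    rw [MonoidHom.mem_ker, mem_ker_iff, mem_subgroupOf]
  rw [h1, relIndex_subgroupOf hA]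

theorem good_of_equiv {V A A' : Subgroup G} (hA : A ≤ normalizer (V : Set G)) (hA' : A' ≤ normalizer (V : Set G))
    (h1 : ∀ b ∈ A, ∃ b' ∈ A', b⁻¹ * b' ∈ centralizer (V : Set G))
    (h2 : ∀ b' ∈ A', ∃ b ∈ A, b⁻¹ * b' ∈ centralizer (V : Set G)) (hgood : Good V A) : Good V A' := by
  have hφ : ∀ (b b' : G) (hb : b ∈ normalizer (V : Set G)) (hb' : b' ∈ normalizer (V : Set G)),
      b⁻¹ * b' ∈ centralizer (V : Set G) → normalizerMonoidHom V ⟨b', hb'⟩ = normalizerMonoidHom V ⟨b, hb⟩ := by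
    intro b b' hb hb' h
    have h3 := (mem_ker_iff (V := V) ((⟨b, hb⟩ : ↥(normalizer (V : Set G)))⁻¹ * ⟨b', hb'⟩)).2 h
    rw [map_mul, map_inv] at h3
    exact (inv_mul_eq_one.1 h3).symm
  have himg : (A.subgroupOf (normalizer (V : Set G))).map (normalizerMonoidHom V) =
      (A'.subgroupOf (normalizer (V : Set G))).map (normalizerMonoidHom V) := by
    apply le_antisymm
    · rintro _ ⟨⟨b, hb⟩, hbA, rfl⟩
      obtain ⟨b', hb', h⟩ := h1 b hbA
      exact ⟨⟨b', hA' hb'⟩, hb', hφ b b' hb (hA' hb') h⟩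
    · rintro _ ⟨⟨b', hb'⟩, hbA, rfl⟩
      obtain ⟨b, hb, h⟩ := h2 b' hbA
      exact ⟨⟨b, hA hb⟩, hb, (hφ b b' (hA hb) hb' h).symm⟩
  refine ⟨?_, ?_, ?_, ?_⟩
  · intro h
    apply hgood.ne
    intro b hb
    obtain ⟨b', hb', h3⟩ := h1 b hb
    have h4 : b = b' * (b⁻¹ * b')⁻¹ := by group
    rw [h4]
    exact mul_mem (h hb') (inv_mem h3)
  · intro b' hb'
    obtain ⟨b, hb, h3⟩ := h2 b' hb'
    have h4 := hφ b b' (hA hb) (hA' hb') h3
    have h5 := (mem_ker_iff (V := V) ((⟨b, hA hb⟩ : ↥(normalizer (V : Set G))) * ⟨b, hA hb⟩)).2 (hgood.sq b hb)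
    refine (mem_ker_iff (V := V) ((⟨b', hA' hb'⟩ : ↥(normalizer (V : Set G))) * ⟨b', hA' hb'⟩)).1 ?_
    rw [map_mul, h4, ← map_mul]
    exact h5
  · intro b₁' hb₁' b₂' hb₂'
    obtain ⟨b₁, hb₁, h3⟩ := h2 b₁' hb₁'
    obtain ⟨b₂, hb₂, h3'⟩ := h2 b₂' hb₂'
    have h4 := hφ b₁ b₁' (hA hb₁) (hA' hb₁') h3
    have h4' := hφ b₂ b₂' (hA hb₂) (hA' hb₂') h3'
    have h5 := (mem_ker_iff (V := V) ((⟨b₁, hA hb₁⟩ : ↥(normalizer (V : Set G))) * ⟨b₂, hA hb₂⟩ *
      (⟨b₁, hA hb₁⟩ : ↥(normalizer (V : Set G)))⁻¹ * (⟨b₂, hA hb₂⟩ : ↥(normalizer (V : Set G)))⁻¹)).2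
        (hgood.comm b₁ hb₁ b₂ hb₂)
    refine (mem_ker_iff (V := V) ((⟨b₁', hA' hb₁'⟩ : ↥(normalizer (V : Set G))) * ⟨b₂', hA' hb₂'⟩ *
      (⟨b₁', hA' hb₁'⟩ : ↥(normalizer (V : Set G)))⁻¹ * (⟨b₂', hA' hb₂'⟩ : ↥(normalizer (V : Set G)))⁻¹)).1 ?_
    rw [map_mul, map_mul, map_mul, map_inv, map_inv, h4, h4', ← map_inv, ← map_inv, ← map_mul, ← map_mul, ← map_mul]
    exact h5
  · have h3 : (centralizer (A' : Set G)).relIndex V = (centralizer (A : Set G)).relIndex V := by
      have h4 : V ⊓ centralizer (A' : Set G) = V ⊓ centralizer (A : Set G) := by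
        apply le_antisymm
        · rintro v ⟨hv, hvA⟩
          refine ⟨hv, mem_centralizer_iff.2 ?_⟩
          intro b hb
          obtain ⟨b', hb', h5⟩ := h1 b hb
          have h6 := (mem_centralizer_iff.1 hvA) b' hb'
          have h7 := (mem_centralizer_iff.1 (inv_mem h5)) v hv
          have h8 : b = b' * (b⁻¹ * b')⁻¹ := by group
          rw [h8]
          calc b' * (b⁻¹ * b')⁻¹ * v = b' * ((b⁻¹ * b')⁻¹ * v) := by group
            _ = b' * (v * (b⁻¹ * b')⁻¹) := by rw [h7]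
            _ = (b' * v) * (b⁻¹ * b')⁻¹ := by group
            _ = (v * b') * (b⁻¹ * b')⁻¹ := by rw [h6]
            _ = _ := by group
        · rintro v ⟨hv, hvA⟩
          refine ⟨hv, mem_centralizer_iff.2 ?_⟩
          intro b' hb'
          obtain ⟨b, hb, h5⟩ := h2 b' hb'
          have h6 := (mem_centralizer_iff.1 hvA) b hb
          have h7 := (mem_centralizer_iff.1 h5) v hv
          have h8 : b' = b * (b⁻¹ * b') := by group
          rw [h8]
          calc b * (b⁻¹ * b') * v = b * ((b⁻¹ * b') * v) := by group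
            _ = b * (v * (b⁻¹ * b')) := by rw [h7]
            _ = (b * v) * (b⁻¹ * b') := by group
            _ = (v * b) * (b⁻¹ * b') := by rw [h6]
            _ = _ := by group
      rw [← inf_relIndex_left V (centralizer (A' : Set G)), ← inf_relIndex_left V (centralizer (A : Set G)), h4]
    rw [h3, relIndex_eq_card hA', ← himg, ← relIndex_eq_card hA]
    exact hgood.idx

theorem map_conj_centralizer' (A : Subgroup G) (m : G) :
    (centralizer (A : Set G)).map (MulAut.conj m).toMonoidHom =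
      centralizer ((A.map (MulAut.conj m).toMonoidHom : Subgroup G) : Set G) := by
  ext y
  rw [mem_centralizer_iff]
  constructor
  · rintro ⟨x, hx, rfl⟩ _ ⟨a, ha, rfl⟩
    have h3 := (mem_centralizer_iff.1 hx) a ha
    change m * a * m⁻¹ * (m * x * m⁻¹) = m * x * m⁻¹ * (m * a * m⁻¹)
    calc m * a * m⁻¹ * (m * x * m⁻¹) = m * (a * x) * m⁻¹ := by group
      _ = m * (x * a) * m⁻¹ := by rw [h3]
      _ = _ := by group
  · intro hy
    refine ⟨m⁻¹ * y * m, ?_, by change m * (m⁻¹ * y * m) * m⁻¹ = y; group⟩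
    refine mem_centralizer_iff.2 ?_
    intro a ha
    have h3 := hy (m * a * m⁻¹) ⟨a, ha, rfl⟩
    calc a * (m⁻¹ * y * m) = m⁻¹ * (m * a * m⁻¹ * y) * m := by group
      _ = m⁻¹ * (y * (m * a * m⁻¹)) * m := by rw [h3]
      _ = _ := by group

theorem good_conj {V A : Subgroup G} {m : G} (hm : m ∈ normalizer (V : Set G)) (hgood : Good V A) :
    Good V (A.map (MulAut.conj m).toMonoidHom) := by
  have hinj : Function.Injective (MulAut.conj m).toMonoidHom := (MulAut.conj m).injective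
  have hCV : m ∈ normalizer (centralizer (V : Set G) : Set G) := mem_normalizer_centralizer' hm
  have hVm := map_conj_of_mem_normalizer hm
  have hCm := map_conj_of_mem_normalizer hCV
  refine ⟨?_, ?_, ?_, ?_⟩
  · intro h
    apply hgood.ne
    rw [← hCm] at h
    exact (map_le_map_iff_of_injective hinj).1 h
  · rintro _ ⟨b, hb, rfl⟩
    have h1 := (mem_normalizer_iff.1 hCV _).1 (hgood.sq b hb)
    have h2 : (MulAut.conj m).toMonoidHom b * (MulAut.conj m).toMonoidHom b = m * (b * b) * m⁻¹ := by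
      rw [← map_mul]; rfl
    rw [h2]; exact h1
  · rintro _ ⟨b, hb, rfl⟩ _ ⟨b', hb', rfl⟩
    have h1 := (mem_normalizer_iff.1 hCV _).1 (hgood.comm b hb b' hb')
    have h2 : (MulAut.conj m).toMonoidHom b * (MulAut.conj m).toMonoidHom b' * ((MulAut.conj m).toMonoidHom b)⁻¹ *
        ((MulAut.conj m).toMonoidHom b')⁻¹ = m * (b * b' * b⁻¹ * b'⁻¹) * m⁻¹ := by
      rw [← map_mul, ← map_inv, ← map_inv, ← map_mul, ← map_mul]; rfl
    rw [h2]; exact h1
  · have h1 : (centralizer ((A.map (MulAut.conj m).toMonoidHom : Subgroup G) : Set G)).relIndex V =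
        (centralizer (A : Set G)).relIndex V := by
      have h2 := relIndex_map_map_of_injective (centralizer (A : Set G)) V hinj
      rw [map_conj_centralizer', hVm] at h2
      exact h2
    have h3 : (centralizer (V : Set G)).relIndex (A.map (MulAut.conj m).toMonoidHom) =
        (centralizer (V : Set G)).relIndex A := by
      have h2 := relIndex_map_map_of_injective (centralizer (V : Set G)) A hinj
      rw [hCm] at h2
      exact h2
    rw [h1, h3]
    exact hgood.idx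

variable {T : Sylow 2 G} {X P : Subgroup G} {p : ℕ}

/-- reduction to a subgroup of `T ∩ N(P)` -/
theorem exists_B (D : Setup T X p P) {B : Subgroup G} (hB : B ≤ X ⊔ (T : Subgroup G)) (hgood : Good (Vx T X) B) :
    ∃ B' ≤ (T : Subgroup G) ⊓ normalizer (P : Set G), Good (Vx T X) B' := by
  have h2f : Fact (Nat.Prime 2) := ⟨Nat.prime_two⟩
  set V := Vx T X with hV
  set M₀ : Subgroup G := X ⊔ (T : Subgroup G) with hM₀
  have hMV : M₀ ≤ normalizer (V : Set G) := sup_le D.X_le_V D.T_le_V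
  have hTM : (T : Subgroup G) ≤ M₀ := le_sup_right
  have hBV := hB.trans hMV
  -- a Sylow 2-subgroup of `B`
  obtain ⟨R, hRB, hRp, hR⟩ : ∃ R ≤ B, IsPGroup 2 R ∧ ∀ b ∈ B, ∃ r ∈ R, r⁻¹ * b ∈ centralizer (V : Set G) := by
    let S₀ : Sylow 2 ↥B := default
    set C : Subgroup ↥B := (centralizer (V : Set G)).subgroupOf B with hC
    have hCn : C.Normal := by
      refine ⟨fun c hc b => ?_⟩
      have h1 := (mem_normalizer_iff.1 (mem_normalizer_centralizer' (hBV b.2)) (c : G)).1 hc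
      exact h1
    have hq : IsPGroup 2 (⊤ : Subgroup (↥B ⧸ C)) := by
      rintro ⟨q, -⟩
      obtain ⟨b, rfl⟩ := QuotientGroup.mk_surjective q
      refine ⟨1, ?_⟩
      apply Subtype.ext
      change (QuotientGroup.mk b : ↥B ⧸ C) ^ (2 ^ 1) = 1
      rw [pow_one, ← QuotientGroup.mk_pow, QuotientGroup.eq_one_iff, mem_subgroupOf, pow_two]
      exact hgood.sq b b.2
    refine ⟨(S₀ : Subgroup ↥B).map B.subtype, map_subtype_le _, S₀.isPGroup'.map _, ?_⟩
    intro b hb
    obtain ⟨s, hs, c, hc, hbs⟩ := Cfsg.Agent.PLocal.SylowFixed.exists_mul_of_mk_mem C ⊤ hq S₀ (g := ⟨b, hb⟩)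
      (mem_top _)
    refine ⟨s, ⟨s, hs, rfl⟩, ?_⟩
    have h1 : b = (s : G) * c := congrArg Subtype.val hbs
    rw [h1]
    have h2 : (s : G)⁻¹ * ((s : G) * c) = c := by group
    rw [h2]
    exact hc
  have hRgood : Good V R := by
    refine good_of_equiv hBV (hRB.trans hBV) ?_ ?_ hgood
    · intro b hb
      obtain ⟨r, hr, h⟩ := hR b hb
      refine ⟨r, hr, ?_⟩
      have h1 : b⁻¹ * r = (r⁻¹ * b)⁻¹ := by group
      rw [h1]
      exact inv_mem h
    · intro r hr
      refine ⟨r, hRB hr, ?_⟩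
      rw [inv_mul_cancel]
      exact one_mem _
  -- conjugate into `T`
  have hTi : ¬ 2 ∣ (T : Subgroup G).relIndex M₀ :=
    Cfsg.Agent.CharactersDeep.QuatSylow.not_dvd_relIndex_of_le_normalizer T M₀ M₀ hTM le_rfl le_normalizer
  obtain ⟨m, hm, hmT⟩ := exists_conj_le_in (N := M₀) T.isPGroup' hTi (hRB.trans hB) hRp
  have hRm := good_conj (hMV hm) hRgood
  set R' := R.map (MulAut.conj m).toMonoidHom with hR'
  set O := pCoreTwoOf X with hO
  have hTO : (T : Subgroup G) ≤ normalizer (O : Set G) := D.TX.trans (normalizer_O X)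
  have hOV := O_le_centralizer T X
  have hOT := D.O_le_T
  refine ⟨((T : Subgroup G) ⊓ normalizer (P : Set G)) ⊓ (R' ⊔ O), inf_le_left, ?_⟩
  refine good_of_equiv (hmT.trans D.T_le_V) ((inf_le_left.trans inf_le_left).trans D.T_le_V) ?_ ?_ hRm
  · intro b hb
    obtain ⟨o, ho, hs⟩ := D.exists_S (hmT hb)
    refine ⟨o * b, ⟨hs, mul_mem (mem_sup_right ho) (mem_sup_left hb)⟩, ?_⟩
    have h1 : b⁻¹ * (o * b) = b⁻¹ * o * b⁻¹⁻¹ := by group
    rw [h1]
    exact hOV ((mem_normalizer_iff.1 (inv_mem (hTO (hmT hb))) o).1 ho)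
  · rintro b' ⟨-, hb'⟩
    obtain ⟨b, hb, o, ho, hbo⟩ := exists_mul_of_sup (hmT.trans hTO) hb'
    refine ⟨b, hb, ?_⟩
    rw [← hbo]
    have h1 : b⁻¹ * (b * o) = o := by group
    rw [h1]
    exact hOV ho

/-- the order of `X` -/
theorem card_X (D : Setup T X p P) : Nat.card X = Nat.card ↥(pCoreTwoOf X) * Nat.card P := by
  have h1 : pCoreTwoOf X ⊔ P = X := le_antisymm (sup_le (O_le X) D.PX) D.XOP
  have h2 := Cfsg.Agent.SignalizersComponents.InvariantHall.card_sup_of_inf_eq_bot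
    (X := pCoreTwoOf X) (Y := P) (fun z hz => normalizer_O X (le_normalizer (D.PX hz))) (by
      rw [eq_bot_iff]
      rintro x ⟨hx1, hx2⟩
      exact mem_bot.2 (D.PO x hx2 hx1))
  rw [h1] at h2
  exact h2

/-- **The conclusion.** -/
theorem concl (D : Setup T X p P) (hm : moduleV X ≠ ⊥) (hq : ∃ B ≤ X ⊔ (T : Subgroup G), Good (Vx T X) B) :
    (∀ q : ℕ, q.Prime → q ∣ Nat.card ↥X → q = 2 ∨ q = 3) ∨
    (IsPGroup 5 (↥X ⧸ Cfsg.pCore 2 ↥X) ∧
      ∀ r : ℕ, r.Prime → r ≠ 2 → r ≠ 5 → ∀ g ∈ Subgroup.normalizer (X : Set G),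
        (∀ x ∈ X, g ^ r * x * (g ^ r)⁻¹ * x⁻¹ ∈ Cfsg.pCoreTwoOf X) →
          ∀ x ∈ X, g * x * g⁻¹ * x⁻¹ ∈ Cfsg.pCoreTwoOf X) := by
  have h2f : Fact (Nat.Prime 2) := ⟨Nat.prime_two⟩
  have hpf : Fact p.Prime := ⟨D.dat.prime⟩
  have hne := D.not_le_centralizer hm
  have C := D.conf hne
  by_cases hp3 : p = 3
  · left
    intro q hqp hqX
    rw [card_X D] at hqX
    rcases (Nat.Prime.dvd_mul hqp).1 hqX with h | h
    · left
      obtain ⟨n, hn⟩ := IsPGroup.iff_card.1 (O_isPGroup X)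
      rw [hn] at h
      exact (Nat.prime_dvd_prime_iff_eq hqp Nat.prime_two).1 (hqp.dvd_of_dvd_pow h)
    · right
      obtain ⟨n, hn⟩ := IsPGroup.iff_card.1 D.dat.pgroup
      rw [hn, hp3] at h
      exact (Nat.prime_dvd_prime_iff_eq hqp Nat.prime_three).1 (hqp.dvd_of_dvd_pow h)
  right
  have hp5 : 5 ≤ p := by
    have h1 := D.dat.prime.two_le
    have h2 := D.dat.odd
    have h4 : p ≠ 4 := by
      rintro rfl
      exact absurd D.dat.prime (by norm_num)
    omega
  obtain ⟨B, hB, hgood⟩ := hq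
  obtain ⟨B', hB'S, hgood'⟩ := exists_B D hB hgood
  obtain ⟨a, ha, x, hx, hxF, ha2, -, hax, hixa⟩ := C.exists_small hp5 hB'S hgood'.ne hgood'.sq hgood'.comm hgood'.idx
  obtain ⟨rfl, hix⟩ := C.five hp5 ha hx hxF ha2 hax hixa
  have hFV := C.F_le_centralizer hx hxF hix
  have hXPO : ∀ y ∈ X, ∃ z ∈ P, ∃ o ∈ pCoreTwoOf X, z * o = y := by
    intro y hy
    have hPn : P ≤ normalizer (pCoreTwoOf X : Set G) := fun z hz => normalizer_O X (le_normalizer (D.PX hz))
    have hy' : y ∈ P ⊔ pCoreTwoOf X := by rw [sup_comm]; exact D.XOP hy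
    exact exists_mul_of_sup hPn hy'
  constructor
  · intro q
    obtain ⟨y, rfl⟩ := QuotientGroup.mk_surjective q
    obtain ⟨z, hz, o, ho, hzo⟩ := hXPO y y.2
    refine ⟨1, ?_⟩
    have h1 : (QuotientGroup.mk y : ↥X ⧸ pCore 2 ↥X) = QuotientGroup.mk ⟨z, D.PX hz⟩ := by
      rw [eq_comm, QuotientGroup.eq]
      obtain ⟨o', ho', ho'o⟩ := ho
      have h2 : (⟨z, D.PX hz⟩ : X)⁻¹ * y = o' := by
        apply Subtype.ext
        change z⁻¹ * (y : G) = o'
        have h3 : (o' : G) = o := ho'o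
        rw [← hzo, h3]; group
      rw [h2]; exact ho'
    rw [h1, pow_one, ← QuotientGroup.mk_pow]
    have h2 : (⟨z, D.PX hz⟩ : X) ^ 5 = 1 := Subtype.ext (D.dat.pow_eq_one z hz)
    rw [h2, QuotientGroup.mk_one]
  · intro r hr hr2 hr5 g hg hgr
    set O := pCoreTwoOf X with hO
    have hinv : ∀ a y : G, a * y * a⁻¹ * y⁻¹ = ⁅y, a⁆⁻¹ := by
      intro a y
      rw [commutatorElement_def]; group
    -- membership in the kernel
    have hKiff : ∀ k : G, k ∈ normalizer (X : Set G) →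
        ((∀ y ∈ X, k * y * k⁻¹ * y⁻¹ ∈ O) ↔ k ∈ Kx X) := by
      intro k hk
      constructor
      · intro h
        refine mem_Kx.2 ⟨hk, fun y hy => ?_⟩
        have h1 := h y hy
        rw [hinv] at h1
        exact inv_mem_iff.1 h1
      · intro h y hy
        rw [hinv]
        exact inv_mem ((mem_Kx.1 h).2 y hy)
    rw [hKiff g hg]
    have hgrK : g ^ r ∈ Kx X := (hKiff _ (pow_mem hg r)).1 hgr
    -- Frattini
    set Q := (T : Subgroup G) ⊓ Kx X with hQ
    have hQp : IsPGroup 2 Q := T.isPGroup'.to_le inf_le_left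
    have hKn := normalizer_le_Kx X
    have hQi : ¬ 2 ∣ Q.relIndex (Kx X) := by
      rw [hQ, inf_relIndex_right]
      exact Cfsg.Agent.CharactersDeep.QuatSylow.not_dvd_relIndex_of_le_normalizer T (Kx X) (normalizer (X : Set G))
        D.TX (Kx_le X) hKn
    have hQg : Q.map (MulAut.conj g).toMonoidHom ≤ Kx X := by
      rintro _ ⟨q, hq, rfl⟩
      exact (mem_normalizer_iff.1 (hKn hg) q).1 hq.2
    obtain ⟨k, hk, hkQ⟩ := exists_conj_le_in (N := Kx X) hQp hQi hQg (hQp.map _)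
    have hkg : k * g ∈ normalizer (Q : Set G) := by
      apply mem_normalizer_of_conj
      intro q hq
      apply hkQ
      refine ⟨g * q * g⁻¹, ⟨q, hq, rfl⟩, ?_⟩
      change k * (g * q * g⁻¹) * k⁻¹ = k * g * q * (k * g)⁻¹
      group
    have hkgX : k * g ∈ normalizer (X : Set G) := mul_mem (Kx_le X hk) hg
    obtain ⟨o, ho, hoP⟩ := D.frat (k * g) hkgX
    set h : G := o * (k * g) with hh
    have hoX : o ∈ normalizer (X : Set G) := le_normalizer (O_le X ho)
    have hhX : h ∈ normalizer (X : Set G) := mul_mem hoX hkgX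
    have hhV : h ∈ normalizer (Vx T X : Set G) :=
      mul_mem (D.X_le_V (O_le X ho)) (mem_normalizer_Vx hkgX hkg)
    have hhF : h ∈ normalizer ((P ⊓ twoPhiCore X : Subgroup G) : Set G) :=
      mem_normalizer_inf hoP (normalizer_le_twoPhi X hhX)
    -- `h ∈ K g`
    have hok : o * k ∈ Kx X := mul_mem (O_le_Kx X ho) hk
    have hhg : h = (o * k) * g := by rw [hh]; group
    -- `h ^ r ∈ K`
    have hhr : h ^ r ∈ Kx X := by
      have hn : ((Kx X).subgroupOf (normalizer (X : Set G))).Normal :=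
        (normal_subgroupOf_iff_le_normalizer (Kx_le X)).2 hKn
      have h1 : (QuotientGroup.mk (⟨h, hhX⟩ : ↥(normalizer (X : Set G))) :
          ↥(normalizer (X : Set G)) ⧸ (Kx X).subgroupOf (normalizer (X : Set G))) = QuotientGroup.mk ⟨g, hg⟩ := by
        rw [eq_comm, QuotientGroup.eq, mem_subgroupOf]
        change g⁻¹ * h ∈ Kx X
        rw [hhg]
        have h3 : g⁻¹ * ((o * k) * g) = g⁻¹ * (o * k) * g⁻¹⁻¹ := by group
        rw [h3]
        exact (mem_normalizer_iff.1 (inv_mem (hKn hg)) _).1 hok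
      have h2 : (QuotientGroup.mk ((⟨h, hhX⟩ : ↥(normalizer (X : Set G))) ^ r) :
          ↥(normalizer (X : Set G)) ⧸ (Kx X).subgroupOf (normalizer (X : Set G))) = 1 := by
        rw [QuotientGroup.mk_pow, h1, ← QuotientGroup.mk_pow, QuotientGroup.eq_one_iff, mem_subgroupOf]
        exact hgrK
      rw [QuotientGroup.eq_one_iff, mem_subgroupOf] at h2
      exact h2
    have hhrP : h ^ r ∈ centralizer (P : Set G) := D.mem_centralizer_of_mem_Kx hhr (pow_mem hoP r)
    have hhP := C.final hFV hx hxF hix hoP hhF hhV hr hr2 hr5 hhrP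
    have hhK := D.mem_Kx_of_centralizer hhX hhP
    have hg' : g = (o * k)⁻¹ * h := by rw [hhg]; group
    rw [hg']
    exact mul_mem (inv_mem hok) hhK

end Cfsg.Agent.H7.XiFin
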