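import Cfsg.Agent.H7.XiRep

/-!
# The prime is 3 or 5, and for 5 the module is the sum of two modules with different kernels
-/

set_option autoImplicit false

open scoped commutatorElement

namespace Cfsg.Agent.H7.XiRep

open Subgroup Cfsg
open Cfsg.Agent.QTSolv.Data (Dat mem_normalizer_of_conj mem_normalizer_sup)

variable {H : Type*} [Group H]

theorem eq_or_of_card [Finite H] {p : ℕ} (hp : p.Prime) {L₀ L₁ : Subgroup H} (hc : Nat.card L₁ = p * Nat.card L₀)
    {Y : Subgroup H} (h1 : L₀ ≤ Y) (h2 : Y ≤ L₁) : Y = L₀ ∨ Y = L₁ := by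
  have hpos : 0 < Nat.card L₀ := Nat.card_pos
  obtain ⟨m, hm1⟩ := card_dvd_of_le h1
  obtain ⟨n, hn1⟩ := card_dvd_of_le h2
  rw [hn1, hm1] at hc
  have h4 : m * n = p := by
    have h3 : (m * n) * Nat.card L₀ = p * Nat.card L₀ := by rw [← hc]; ring
    exact Nat.eq_of_mul_eq_mul_right hpos h3
  rcases (Nat.dvd_prime hp).1 ⟨n, h4.symm⟩ with h5 | h5
  · left
    rw [h5, mul_one] at hm1
    exact (Subgroup.eq_of_le_of_card_ge h1 hm1.le).symm
  · right
    rw [h5] at h4
    have hn : n = 1 := by
      have : p * n = p * 1 := by rw [h4, mul_one]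
      exact Nat.eq_of_mul_eq_mul_left hp.pos this
    rw [hn, mul_one] at hn1
    exact Subgroup.eq_of_le_of_card_ge h2 hn1.le

theorem card_mid [Finite H] {p : ℕ} (hp : p.Prime) {F L P : Subgroup H} (hc : Nat.card P = p ^ 2 * Nat.card F)
    (h1 : F ≤ L) (h2 : L ≤ P) (hF : L ≠ F) (hP : L ≠ P) : Nat.card L = p * Nat.card F := by
  have hFpos : 0 < Nat.card F := Nat.card_pos
  obtain ⟨m, hm1⟩ := card_dvd_of_le h1
  obtain ⟨n, hn1⟩ := card_dvd_of_le h2
  rw [hn1, hm1] at hc
  have h3 : m * n = p ^ 2 := by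
    have h3 : (m * n) * Nat.card F = p ^ 2 * Nat.card F := by rw [← hc]; ring
    exact Nat.eq_of_mul_eq_mul_right hFpos h3
  obtain ⟨k, hk, hmk⟩ := (Nat.dvd_prime_pow hp).1 (⟨n, h3.symm⟩ : m ∣ p ^ 2)
  have hk0 : k ≠ 0 := by
    rintro rfl
    apply hF
    rw [pow_zero] at hmk
    rw [hmk, mul_one] at hm1
    exact (Subgroup.eq_of_le_of_card_ge h1 hm1.le).symm
  have hk2 : k ≠ 2 := by
    rintro rfl
    apply hP
    rw [hmk] at h3
    have hn : n = 1 := by
      have : p ^ 2 * n = p ^ 2 * 1 := by rw [h3, mul_one]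
      exact Nat.eq_of_mul_eq_mul_left (pow_pos hp.pos 2) this
    rw [hn, mul_one] at hn1
    exact Subgroup.eq_of_le_of_card_ge h2 hn1.le
  have hk1 : k = 1 := by omega
  rw [hk1, pow_one] at hmk
  rw [hm1, hmk, mul_comm]

namespace Conf

variable {p : ℕ} {P S F V : Subgroup H}

theorem P_le_normalizer_F [Finite H] (C : Conf p P S F V) {L : Subgroup H} (hFL : F ≤ L) (hLP : L ≤ P) :
    P ≤ normalizer (L : Set H) := by
  intro y hy
  apply mem_normalizer_of_conj
  intro z hz
  have h1 : y * z * y⁻¹ = ⁅y, z⁆ * z := by rw [commutatorElement_def]; group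
  rw [h1]
  exact mul_mem (hFL (C.dat.comm (commutator_mem_commutator hy (hLP hz)))) hz

theorem pos_index (K L : Subgroup H) [Finite H] : K.relIndex L ≠ 0 := by
  have h : Finite (↥L ⧸ K.subgroupOf L) := inferInstance
  exact index_ne_zero_of_finite

/-- the prime is 3 or 5; for 5 some element has `|V : C_V(x)| = 16` -/
theorem five [Finite H] (C : Conf p P S F V) (hp5 : 5 ≤ p) {a x : H} (ha : a ∈ S) (hx : x ∈ P) (hxF : x ∉ F)
    (ha2 : a * a ∈ centralizer (V : Set H)) (hax : a * x * a⁻¹ = x⁻¹) (hix : ix V a ≤ 4) :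
    p = 5 ∧ ix V x = 16 := by
  have hpf : Fact p.Prime := ⟨C.dat.prime⟩
  have hxp : x ^ p = 1 := C.dat.pow_eq_one x hx
  have hodd : Odd (orderOf x) := by
    have h1 : orderOf x ∣ p := orderOf_dvd_of_pow_eq_one hxp
    have h2 : Odd p := C.dat.prime.odd_of_ne_two C.dat.odd
    exact Odd.of_dvd_nat h2 h1
  have h1 : ix V x ≤ 16 := by
    calc ix V x ≤ ix V a ^ 2 := ix_le_sq (C.PV hx) hodd hax
      _ ≤ 4 ^ 2 := Nat.pow_le_pow_left hix 2
      _ = 16 := by norm_num
  obtain ⟨j, hj⟩ := ix_eq_four_pow C.Vp C.Vc C.V2 (C.PV hx) (C.SV ha) hodd ha2 hax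
  have hne : ix V x ≠ 1 := fun h => C.not_mem_centralizer hx hxF (ix_eq_one.1 h)
  have h2 := ix_modEq C.dat.odd C.Vp (C.PV hx) hxp
  have hj2 : j ≤ 2 := by
    by_contra h
    push Not at h
    have h3 : 4 ^ 3 ≤ 4 ^ j := Nat.pow_le_pow_right (by norm_num) h
    rw [← hj] at h3
    omega
  have hj0 : j ≠ 0 := by
    rintro rfl
    exact hne (by rw [hj, pow_zero])
  have hdvd : p ∣ ix V x - 1 := (Nat.modEq_iff_dvd' (by rw [hj]; exact Nat.one_le_pow _ _ (by norm_num))).1 h2.symm
  have hj' : j = 1 ∨ j = 2 := by omega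
  rcases hj' with rfl | rfl
  · exfalso
    rw [hj] at hdvd
    norm_num at hdvd
    have := Nat.le_of_dvd (by norm_num) hdvd
    omega
  · rw [hj] at hdvd ⊢
    norm_num at hdvd
    refine ⟨?_, by norm_num⟩
    have h3 : p ∣ 3 * 5 := by norm_num; exact hdvd
    rcases (Nat.Prime.dvd_mul C.dat.prime).1 h3 with h4 | h4
    · exfalso
      have := Nat.le_of_dvd (by norm_num) h4
      omega
    · exact (Nat.prime_dvd_prime_iff_eq C.dat.prime Nat.prime_five).1 h4

/-- a conjugate of `x` outside `⟨x⟩ F` -/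
theorem exists_conj_not_mem [Finite H] (C : Conf p P S F V) {R : Subgroup H} (hFR : F ≤ R) (hRP : R ≤ P)
    (hRF : R ≠ F) (hRne : R ≠ P) : ∃ s ∈ S, R.map (MulAut.conj s).toMonoidHom ≠ R := by
  by_contra hcon
  push Not at hcon
  have h1 : S ≤ normalizer (R : Set H) := by
    intro s hs
    apply mem_normalizer_of_conj
    intro y hy
    rw [← hcon s hs]
    exact ⟨y, hy, rfl⟩
  rcases C.dat.irr R hFR hRP h1 with h | h
  · exact hRF h
  · exact hRne h

/-- `F` centralizes `V` when `p = 5` and `|V : C_V(x)| = 16` -/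
theorem F_le_centralizer [Finite H] (C : Conf 5 P S F V) {x : H} (hx : x ∈ P) (hxF : x ∉ F) (hix : ix V x = 16) :
    F ≤ centralizer (V : Set H) := by
  by_contra hF
  have hpf : Fact (Nat.Prime 5) := ⟨Nat.prime_five⟩
  have hFP := C.dat.F_le
  have hFc : Nat.card F = 5 := by
    rcases (Nat.dvd_prime Nat.prime_five).1 C.dat.F_card with h | h
    · exfalso
      apply hF
      rw [(Subgroup.eq_bot_iff_card F).2 h]
      exact bot_le
    · exact h
  -- two generators
  set R : Subgroup H := zpowers x ⊔ F with hR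
  have hFR : F ≤ R := le_sup_right
  have hRP : R ≤ P := sup_le ((zpowers_le).2 hx) hFP
  have hxR : x ∈ R := mem_sup_left (mem_zpowers x)
  have hRF : R ≠ F := fun h => hxF (h ▸ hxR)
  have hRne : R ≠ P := C.dat.ne_top_zpowers hx
  obtain ⟨s, hs, hsR⟩ := C.exists_conj_not_mem hFR hRP hRF hRne
  have hRc := card_mid C.dat.prime C.dat.card hFR hRP hRF hRne
  set x' : H := s * x * s⁻¹ with hx'
  have hx'P : x' ∈ P := (mem_normalizer_iff.1 (C.dat.S_le hs) x).1 hx
  have hFs : F.map (MulAut.conj s).toMonoidHom = F := map_conj_of_mem_normalizer (C.dat.F_norm hs)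
  have hx'R : x' ∉ R := by
    intro h
    apply hsR
    have h1 : R.map (MulAut.conj s).toMonoidHom ≤ R := by
      rw [hR, Subgroup.map_sup, hFs]
      refine sup_le ?_ hFR
      rw [MonoidHom.map_zpowers, zpowers_le]
      exact h
    refine Subgroup.eq_of_le_of_card_ge h1 ?_
    rw [card_map_of_injective (f := (MulAut.conj s).toMonoidHom) (MulAut.conj s).injective]
  have hgen : zpowers x ⊔ zpowers x' = P := by
    apply C.dat.ngen _ (sup_le ((zpowers_le).2 hx) ((zpowers_le).2 hx'P))
    have h1 : R ≤ (zpowers x ⊔ zpowers x') ⊔ F := sup_le (le_sup_left.trans le_sup_left) le_sup_right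
    have h2 : (zpowers x ⊔ zpowers x') ⊔ F ≤ P :=
      sup_le (sup_le ((zpowers_le).2 hx) ((zpowers_le).2 hx'P)) hFP
    rcases eq_or_of_card C.dat.prime (by rw [hRc, C.dat.card]; ring : Nat.card P = 5 * Nat.card R) h1 h2 with h | h
    · exfalso
      apply hx'R
      rw [← h]
      exact mem_sup_left (mem_sup_right (mem_zpowers x'))
    · exact h
  have hix' : ix V x' = 16 := by rw [hx', ix_conj (C.SV hs), hix]
  -- `|V : C_V(F)| ≤ 256`
  have hFi : (centralizer (F : Set H)).relIndex V ≤ 256 := by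
    have h1 : centralizer ({x} : Set H) ⊓ centralizer ({x'} : Set H) ≤ centralizer (F : Set H) := by
      have h2 : centralizer ({x} : Set H) ⊓ centralizer ({x'} : Set H) ≤ centralizer (P : Set H) := by
        rw [le_centralizer_iff, ← hgen, sup_le_iff, zpowers_le, zpowers_le]
        constructor
        · rw [mem_centralizer_iff]
          rintro v ⟨hv, -⟩
          exact mem_cen.1 hv
        · rw [mem_centralizer_iff]
          rintro v ⟨-, hv⟩
          exact mem_cen.1 hv
      exact h2.trans (centralizer_le hFP)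
    calc (centralizer (F : Set H)).relIndex V ≤
          (centralizer ({x} : Set H) ⊓ centralizer ({x'} : Set H)).relIndex V :=
          relIndex_le_of_le_left h1 (pos_index _ _)
      _ ≤ ix V x * ix V x' := relIndex_inf_le
      _ = 256 := by rw [hix, hix']
  -- stabilizers in `P` of elements outside `C_V(F)`
  have hstab : ∀ v ∈ V, v ∉ centralizer (F : Set H) → 25 ∣ (centralizer ({v} : Set H)).relIndex P := by
    intro v hv hvF
    set K : Subgroup H := P ⊓ centralizer ({v} : Set H) with hK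
    have hKP : K ≤ P := inf_le_left
    have hKF : K ⊓ F = ⊥ := by
      by_contra hne
      have h1 : K ⊓ F = F := by
        have h2 := card_dvd_of_le (inf_le_right : K ⊓ F ≤ F)
        rw [hFc] at h2
        rcases (Nat.dvd_prime Nat.prime_five).1 h2 with h3 | h3
        · exact absurd ((Subgroup.eq_bot_iff_card _).2 h3) hne
        · exact Subgroup.eq_of_le_of_card_ge inf_le_right (by rw [h3, hFc])
      apply hvF
      rw [mem_centralizer_iff]
      intro f hf
      have h2 : f ∈ K ⊓ F := by rw [h1]; exact hf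
      exact mem_cen.1 h2.1.2
    have hn : F ≤ normalizer (K : Set H) := by
      intro f hf
      apply mem_normalizer_of_conj
      intro k hk
      have h1 := C.dat.F_central hf (hKP hk)
      have h2 : f * k * f⁻¹ = k := by rw [h1]; group
      rw [h2]; exact hk
    have h2 := Cfsg.Agent.SignalizersComponents.InvariantHall.card_sup_of_inf_eq_bot hn hKF
    have hKFP : K ⊔ F ≤ P := sup_le hKP hFP
    have hKFne : K ⊔ F ≠ P := by
      intro h
      have h3 := C.dat.ngen K hKP h
      apply hvF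
      rw [mem_centralizer_iff]
      intro f hf
      have h4 : f ∈ K := by rw [h3]; exact hFP hf
      exact mem_cen.1 h4.2
    have hKc : Nat.card K ∣ 5 := by
      by_cases h : K ⊔ F = F
      · have h3 : K ≤ F := by rw [← h]; exact le_sup_left
        exact hFc ▸ card_dvd_of_le h3
      · have h3 := card_mid C.dat.prime C.dat.card le_sup_right hKFP h hKFne
        rw [h2] at h3
        have h4 : Nat.card K = 5 := Nat.eq_of_mul_eq_mul_right (by rw [hFc]; norm_num) h3
        rw [h4]
    have h5 : Nat.card K * (centralizer ({v} : Set H)).relIndex P = 125 := by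
      have h6 := relIndex_mul_relIndex (⊥ : Subgroup H) K P bot_le hKP
      rw [relIndex_bot_left, relIndex_bot_left, C.dat.card, hFc, hK, inf_relIndex_left] at h6
      rw [hK, h6]
      norm_num
    obtain ⟨m, hm⟩ := hKc
    have h6 : Nat.card K * (centralizer ({v} : Set H)).relIndex P = Nat.card K * (25 * m) := by
      rw [h5]
      calc 125 = 25 * 5 := by norm_num
        _ = 25 * (Nat.card K * m) := by rw [← hm]
        _ = _ := by ring
    exact ⟨m, Nat.eq_of_mul_eq_mul_left Nat.card_pos h6⟩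
  -- the action of `P` on `V ∖ C_V(F)`
  have hcount : 25 ∣ Nat.card {v : H // v ∈ V ∧ v ∉ centralizer (F : Set H)} := by
    have hPV := C.PV
    have hinv : ∀ g ∈ P, ∀ v, v ∉ centralizer (F : Set H) → g * v * g⁻¹ ∉ centralizer (F : Set H) := by
      intro g hg v hv hgv
      apply hv
      rw [mem_centralizer_iff] at hgv ⊢
      intro f hf
      have h1 := hgv f hf
      have h2 := C.dat.F_central hf hg
      have h3 : f * g⁻¹ = g⁻¹ * f := by
        calc f * g⁻¹ = g⁻¹ * (g * f) * g⁻¹ := by group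
          _ = g⁻¹ * (f * g) * g⁻¹ := by rw [h2]
          _ = _ := by group
      calc f * v = f * g⁻¹ * (g * v * g⁻¹) * g := by group
        _ = g⁻¹ * (f * (g * v * g⁻¹)) * g := by rw [h3]; group
        _ = g⁻¹ * ((g * v * g⁻¹) * f) * g := by rw [h1]
        _ = v * (g⁻¹ * f) * g := by group
        _ = v * (f * g⁻¹) * g := by rw [h3]
        _ = _ := by group
    let Ω : Type _ := {v : H // v ∈ V ∧ v ∉ centralizer (F : Set H)}
    let act : MulAction P Ω :=
      { smul := fun g v => ⟨(g : H) * v * (g : H)⁻¹, (mem_normalizer_iff.1 (hPV g.2) v).1 v.2.1, hinv g g.2 v v.2.2⟩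
        one_smul := fun v => Subtype.ext (by change (1 : H) * v * (1 : H)⁻¹ = v; simp)
        mul_smul := fun a b v => Subtype.ext (by
          change ((a : H) * b) * v * ((a : H) * b)⁻¹ = (a : H) * ((b : H) * v * (b : H)⁻¹) * (a : H)⁻¹
          group) }
    have hact : ∀ (g : P) (v : Ω), ((g • v : Ω) : H) = (g : H) * v * (g : H)⁻¹ := fun g v => rfl
    have hst : ∀ v : Ω, MulAction.stabilizer P v = (centralizer ({(v : H)} : Set H)).subgroupOf P := by
      intro v
      ext g
      rw [MulAction.mem_stabilizer_iff, mem_subgroupOf, mem_cen, Subtype.ext_iff, hact]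
      exact mul_inv_eq_iff_eq_mul
    have horb : ∀ v : Ω, 25 ∣ Nat.card (MulAction.orbit P v) := by
      intro v
      have h1 := MulAction.index_stabilizer P v
      rw [hst v] at h1
      rw [Nat.card_coe_set_eq, ← h1]
      exact hstab v v.2.1 v.2.2
    have h1 := Nat.card_congr (MulAction.selfEquivSigmaOrbits P Ω)
    have hfin : Finite Ω := inferInstance
    have hfin2 : Fintype (Quotient (MulAction.orbitRel P Ω)) := Fintype.ofFinite _
    rw [Nat.card_sigma] at h1
    rw [h1]
    apply Finset.dvd_sum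
    rintro ω -
    exact horb _
  -- arithmetic
  have hcardV : Nat.card V = Nat.card ↥(V ⊓ centralizer (F : Set H)) +
      Nat.card {v : H // v ∈ V ∧ v ∉ centralizer (F : Set H)} := by
    have e : {v : H // v ∈ V} ≃ {v : H // v ∈ V ∧ v ∈ centralizer (F : Set H)} ⊕
        {v : H // v ∈ V ∧ v ∉ centralizer (F : Set H)} := by
      classical
      exact
        { toFun := fun v => if h : (v : H) ∈ centralizer (F : Set H) then Sum.inl ⟨v.1, v.2, h⟩
            else Sum.inr ⟨v.1, v.2, h⟩
          invFun := fun w => match w with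
            | Sum.inl v => ⟨v.1, v.2.1⟩
            | Sum.inr v => ⟨v.1, v.2.1⟩
          left_inv := fun v => by
            by_cases h : (v : H) ∈ centralizer (F : Set H) <;> simp [h]
          right_inv := fun w => by
            rcases w with ⟨v, hv, h⟩ | ⟨v, hv, h⟩ <;> simp [h] }
    have h1 := Nat.card_congr e
    rw [Nat.card_sum] at h1
    exact h1
  have hmulV : Nat.card ↥(V ⊓ centralizer (F : Set H)) * (centralizer (F : Set H)).relIndex V = Nat.card V := by
    have h1 := relIndex_mul_relIndex (⊥ : Subgroup H) (V ⊓ centralizer (F : Set H)) V bot_le inf_le_left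
    rw [relIndex_bot_left, relIndex_bot_left, inf_relIndex_left] at h1
    exact h1
  have h2f : Fact (Nat.Prime 2) := ⟨Nat.prime_two⟩
  obtain ⟨j, hj⟩ : ∃ j, (centralizer (F : Set H)).relIndex V = 2 ^ j := C.Vp.index _
  obtain ⟨n, hn⟩ := IsPGroup.iff_card.1 (C.Vp.to_le (inf_le_left : V ⊓ centralizer (F : Set H) ≤ V))
  rw [hj] at hFi hmulV
  have hj8 : j ≤ 8 := by
    by_contra h
    push Not at h
    have h3 : 2 ^ 9 ≤ 2 ^ j := Nat.pow_le_pow_right (by norm_num) h
    omega
  have hj0 : j ≠ 0 := by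
    rintro rfl
    rw [pow_zero, relIndex_eq_one] at hj
    exact hF (le_centralizer_iff.1 hj)
  rw [← hmulV, hn] at hcardV
  obtain ⟨t, ht⟩ := hcount
  rw [ht] at hcardV
  have h3 : 2 ^ n * (2 ^ j - 1) = 25 * t := by
    have h4 : 1 ≤ 2 ^ j := Nat.one_le_two_pow
    have h5 : 2 ^ n * (2 ^ j - 1) + 2 ^ n = 2 ^ n * 2 ^ j := by
      rw [← Nat.mul_succ]
      congr 1
      omega
    omega
  have h4 : 25 ∣ 2 ^ j - 1 := by
    have h5 : Nat.Coprime 25 (2 ^ n) := Nat.Coprime.pow_right n (by norm_num)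
    exact h5.dvd_of_dvd_mul_left ⟨t, h3⟩
  interval_cases j <;> revert h4 <;> simp_all <;> omega

end Conf

end Cfsg.Agent.H7.XiRep
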